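import Mathlib.GroupTheory.SpecificGroups.Alternating
import Mathlib.GroupTheory.Perm.Centralizer
import Mathlib.GroupTheory.Perm.Cycle.Concrete
import Mathlib.Tactic

/-!
Elements of the alternating group of degree eight: representatives of the classes of elements of
order two and three, and an elementary abelian subgroup of order sixteen.
-/

set_option autoImplicit false
set_option maxRecDepth 100000
set_option linter.style.haveILetI false

namespace CfsgLib.AEightThreeLocal

open Equiv Equiv.Perm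

/-- The alternating group of degree eight. -/
abbrev Alt8 : Type := ↥(alternatingGroup (Fin 8))

/-- The three-cycle on the last three points. -/
def cz : Alt8 := ⟨swap 5 6 * swap 6 7, by rw [mem_alternatingGroup]; decide⟩

/-- The three-cycle on the first three points. -/
def cw : Alt8 := ⟨swap 0 1 * swap 1 2, by rw [mem_alternatingGroup]; decide⟩

/-- A product of two disjoint three-cycles. -/
def cy : Alt8 := cw * cz

/-- A product of two transpositions. -/
def s0 : Alt8 := ⟨swap 0 1 * swap 2 3, by rw [mem_alternatingGroup]; decide⟩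

/-- A product of four transpositions. -/
def t0 : Alt8 := ⟨swap 0 1 * swap 2 3 * (swap 4 5 * swap 6 7), by rw [mem_alternatingGroup]; decide⟩

/-- The four group on the first four points. -/
def v4 : Fin 4 → Alt8 :=
  ![1, ⟨swap 0 1 * swap 2 3, by rw [mem_alternatingGroup]; decide⟩,
    ⟨swap 0 2 * swap 1 3, by rw [mem_alternatingGroup]; decide⟩,
    ⟨swap 0 3 * swap 1 2, by rw [mem_alternatingGroup]; decide⟩]

/-- The four group on the last four points. -/
def u4 : Fin 4 → Alt8 :=
  ![1, ⟨swap 4 5 * swap 6 7, by rw [mem_alternatingGroup]; decide⟩,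
    ⟨swap 4 6 * swap 5 7, by rw [mem_alternatingGroup]; decide⟩,
    ⟨swap 4 7 * swap 5 6, by rw [mem_alternatingGroup]; decide⟩]

/-- The addition of the four group. -/
def add4 (i j : Fin 4) : Fin 4 := ⟨(i.val ^^^ j.val) % 4, Nat.mod_lt _ (by norm_num)⟩

theorem v4_mul : ∀ i j, v4 i * v4 j = v4 (add4 i j) := by decide

theorem u4_mul : ∀ i j, u4 i * u4 j = u4 (add4 i j) := by decide

theorem v4_u4 : ∀ i j, u4 j * v4 i = v4 i * u4 j := by decide

theorem add4_self : ∀ i, add4 i i = 0 := by decide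

theorem e0_mul (a b c d : Fin 4) :
    v4 a * u4 b * (v4 c * u4 d) = v4 (add4 a c) * u4 (add4 b d) := by
  rw [mul_assoc, ← mul_assoc (u4 b), v4_u4, mul_assoc, ← mul_assoc, v4_mul, u4_mul]

theorem e0_mul_self (a b : Fin 4) : v4 a * u4 b * (v4 a * u4 b) = 1 := by
  rw [e0_mul, add4_self, add4_self]; rfl

/-- The elementary abelian group of order sixteen fixing a partition into two sets of four. -/
def E0 : Subgroup Alt8 where
  carrier := Set.range fun p : Fin 4 × Fin 4 => v4 p.1 * u4 p.2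
  one_mem' := ⟨(0, 0), rfl⟩
  mul_mem' := by
    rintro _ _ ⟨⟨a, b⟩, rfl⟩ ⟨⟨c, d⟩, rfl⟩
    exact ⟨(add4 a c, add4 b d), (e0_mul a b c d).symm⟩
  inv_mem' := by
    rintro _ ⟨⟨a, b⟩, rfl⟩
    exact ⟨(a, b), (inv_eq_of_mul_eq_one_right (e0_mul_self a b)).symm⟩

theorem mem_E0 {x : Alt8} : x ∈ E0 ↔ ∃ a b, v4 a * u4 b = x :=
  ⟨fun ⟨⟨a, b⟩, h⟩ => ⟨a, b, h⟩, fun ⟨a, b, h⟩ => ⟨(a, b), h⟩⟩

theorem E0_sq {x : Alt8} (hx : x ∈ E0) : x ^ 2 = 1 := by
  obtain ⟨a, b, rfl⟩ := mem_E0.mp hx
  rw [pow_two, e0_mul_self]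

theorem E0_comm {x y : Alt8} (hx : x ∈ E0) (hy : y ∈ E0) : x * y = y * x := by
  have h := E0_sq (mul_mem hx hy)
  have h1 := E0_sq hx
  have h2 := E0_sq hy
  rw [pow_two] at h h1 h2
  have e : (x * y)⁻¹ = x * y := inv_eq_of_mul_eq_one_right h
  rw [mul_inv_rev, inv_eq_of_mul_eq_one_right h1, inv_eq_of_mul_eq_one_right h2] at e
  exact e.symm

theorem s0_mem_E0 : s0 ∈ E0 := mem_E0.mpr ⟨1, 0, by decide⟩

theorem t0_mem_E0 : t0 ∈ E0 := mem_E0.mpr ⟨1, 1, by decide⟩

theorem card_E0 : Nat.card E0 = 16 := by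
  have hinj : Function.Injective fun p : Fin 4 × Fin 4 => v4 p.1 * u4 p.2 := by decide
  show Nat.card ↥(Set.range fun p : Fin 4 × Fin 4 => v4 p.1 * u4 p.2) = 16
  rw [Nat.card_range_of_injective hinj]
  simp

theorem cw_E0 {x : Alt8} (hx : x ∈ E0) : cw * x * cw⁻¹ ∈ E0 := by
  obtain ⟨a, b, rfl⟩ := mem_E0.mp hx
  have h : ∀ a, ∃ c, cw * v4 a * cw⁻¹ = v4 c := by decide
  have h' : ∀ b, cw * u4 b * cw⁻¹ = u4 b := by decide
  obtain ⟨c, hc⟩ := h a
  refine mem_E0.mpr ⟨c, b, ?_⟩
  rw [← conj_mul, hc, h']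

theorem cz_E0 {x : Alt8} (hx : x ∈ E0) : cz * x * cz⁻¹ ∈ E0 := by
  obtain ⟨a, b, rfl⟩ := mem_E0.mp hx
  have h : ∀ b, ∃ c, cz * u4 b * cz⁻¹ = u4 c := by decide
  have h' : ∀ a, cz * v4 a * cz⁻¹ = v4 a := by decide
  obtain ⟨c, hc⟩ := h b
  refine mem_E0.mpr ⟨a, c, ?_⟩
  rw [← conj_mul, hc, h']

theorem cw_cz : cw * cz = cz * cw := by decide

theorem cw_pow : cw ^ 3 = 1 := by decide

theorem cz_pow : cz ^ 3 = 1 := by decide

theorem cy_pow : cy ^ 3 = 1 := by decide

theorem s0_sq : s0 ^ 2 = 1 := by decide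

theorem t0_sq : t0 ^ 2 = 1 := by decide

/-- Elements of the same prime order moving equally many points are conjugate, provided one of them
commutes with an odd permutation. -/
theorem isConj_of_prime {p : ℕ} (hp : p.Prime) {x y : Alt8} (hx : x ^ p = 1) (hx1 : x ≠ 1)
    (hy : y ^ p = 1) (hy1 : y ≠ 1)
    (hs : (x : Perm (Fin 8)).support.card = (y : Perm (Fin 8)).support.card) {τ : Perm (Fin 8)}
    (hτ : sign τ = -1) (hτy : τ * y = y * τ) : ∃ g : Alt8, g * x * g⁻¹ = y := by
  have hct : ∀ z : Alt8, z ^ p = 1 → z ≠ 1 → ∃ n : ℕ,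
      (z : Perm (Fin 8)).cycleType = Multiset.replicate (n + 1) p := by
    intro z hz hz1
    have ho : orderOf (z : Perm (Fin 8)) = p := by
      rw [Subgroup.orderOf_coe]
      exact orderOf_eq_prime (hp := ⟨hp⟩) hz hz1
    obtain ⟨n, hn⟩ := cycleType_prime_order (σ := (z : Perm (Fin 8))) (by rw [ho]; exact hp)
    exact ⟨n, by rw [hn, ho]⟩
  obtain ⟨n, hn⟩ := hct x hx hx1
  obtain ⟨m, hm⟩ := hct y hy hy1
  have h1 := hs
  rw [← sum_cycleType, ← sum_cycleType, hn, hm, Multiset.sum_replicate, Multiset.sum_replicate,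
    smul_eq_mul, smul_eq_mul] at h1
  have hnm := Nat.eq_of_mul_eq_mul_right hp.pos h1
  obtain ⟨π, hπ⟩ := isConj_iff.mp (isConj_iff_cycleType_eq.mpr (hn.trans (hnm ▸ hm.symm)))
  rcases Int.units_eq_one_or (sign π) with h | h
  · exact ⟨⟨π, mem_alternatingGroup.mpr h⟩, Subtype.ext hπ⟩
  · refine ⟨⟨τ * π, mem_alternatingGroup.mpr (by rw [map_mul, h, hτ]; rfl)⟩, Subtype.ext ?_⟩
    show τ * π * (x : Perm (Fin 8)) * (τ * π)⁻¹ = y
    rw [show τ * π * (x : Perm (Fin 8)) * (τ * π)⁻¹ = τ * (π * x * π⁻¹) * τ⁻¹ by group, hπ, hτy]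
    group

/-- An element of order three is conjugate to `cz` or to `cy`. -/
theorem order_three_cases {x : Alt8} (hx : x ^ 3 = 1) (hx1 : x ≠ 1) :
    (∃ g : Alt8, g * x * g⁻¹ = cz) ∨ ∃ g : Alt8, g * x * g⁻¹ = cy := by
  have h3 : orderOf (x : Perm (Fin 8)) = 3 := by
    rw [Subgroup.orderOf_coe]; exact orderOf_eq_prime hx hx1
  obtain ⟨n, hn⟩ := cycleType_prime_order (σ := (x : Perm (Fin 8))) (by rw [h3]; norm_num)
  have hsum := congrArg Multiset.sum hn
  rw [sum_cycleType, Multiset.sum_replicate, smul_eq_mul, h3] at hsum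
  have hle : (x : Perm (Fin 8)).support.card ≤ 8 := card_finset_fin_le _
  rcases (show n = 0 ∨ n = 1 by omega) with rfl | rfl
  · exact Or.inl (isConj_of_prime Nat.prime_three hx hx1 cz_pow (by decide)
      (hsum.trans (by decide)) (τ := swap 3 4) (by decide) (by decide))
  · exact Or.inr (isConj_of_prime Nat.prime_three hx hx1 cy_pow (by decide)
      (hsum.trans (by decide)) (τ := swap 3 4) (by decide) (by decide))

/-- An involution is conjugate to `s0` or to `t0`. -/
theorem order_two_cases {x : Alt8} (hx : x ^ 2 = 1) (hx1 : x ≠ 1) :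
    (∃ g : Alt8, g * x * g⁻¹ = s0) ∨ ∃ g : Alt8, g * x * g⁻¹ = t0 := by
  have h2 : orderOf (x : Perm (Fin 8)) = 2 := by
    rw [Subgroup.orderOf_coe]; exact orderOf_eq_prime hx hx1
  obtain ⟨n, hn⟩ := cycleType_prime_order (σ := (x : Perm (Fin 8))) (by rw [h2]; norm_num)
  have hsum := congrArg Multiset.sum hn
  rw [sum_cycleType, Multiset.sum_replicate, smul_eq_mul, h2] at hsum
  have hle : (x : Perm (Fin 8)).support.card ≤ 8 := card_finset_fin_le _
  have hsign : sign (x : Perm (Fin 8)) = 1 := mem_alternatingGroup.mp x.2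
  rw [sign_of_cycleType, hn, h2, Multiset.sum_replicate, Multiset.card_replicate, smul_eq_mul]
    at hsign
  rcases (show n = 0 ∨ n = 1 ∨ n = 2 ∨ n = 3 by omega) with rfl | rfl | rfl | rfl
  · exact absurd hsign (by decide)
  · exact Or.inl (isConj_of_prime Nat.prime_two hx hx1 s0_sq (by decide)
      (hsum.trans (by decide)) (τ := swap 0 1) (by decide) (by decide))
  · exact absurd hsign (by decide)
  · exact Or.inr (isConj_of_prime Nat.prime_two hx hx1 t0_sq (by decide)
      (hsum.trans (by decide)) (τ := swap 0 1) (by decide) (by decide))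

/-- The centraliser of an element of prime order `p` moving `k p` points has order dividing
`(8 - k p)! p ^ k k!`. -/
theorem card_centralizer_dvd {p k : ℕ} (hp : p.Prime) {x : Alt8} (hx : x ^ p = 1) (hk : k ≠ 0)
    (hs : (x : Perm (Fin 8)).support.card = k * p) :
    Nat.card (Subgroup.centralizer ({x} : Set Alt8)) ∣
      Nat.factorial (8 - k * p) * p ^ k * Nat.factorial k := by
  have hx1 : x ≠ 1 := fun h => by
    rw [h, Subgroup.coe_one, support_one, Finset.card_empty] at hs
    rcases mul_eq_zero.mp hs.symm with h | h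
    · exact hk h
    · exact hp.ne_zero h
  have ho : orderOf (x : Perm (Fin 8)) = p := by
    rw [Subgroup.orderOf_coe]; exact orderOf_eq_prime (hp := ⟨hp⟩) hx hx1
  obtain ⟨n, hn⟩ := cycleType_prime_order (σ := (x : Perm (Fin 8))) (by rw [ho]; exact hp)
  rw [ho] at hn
  have hsum := congrArg Multiset.sum hn
  rw [sum_cycleType, Multiset.sum_replicate, smul_eq_mul, hs] at hsum
  obtain rfl := Nat.eq_of_mul_eq_mul_right hp.pos hsum
  have h1 : Nat.card (Subgroup.centralizer ({(x : Perm (Fin 8))} : Set (Perm (Fin 8)))) =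
      Nat.factorial (8 - (n + 1) * p) * p ^ (n + 1) * Nat.factorial (n + 1) := by
    rw [nat_card_centralizer, hn, Multiset.sum_replicate, Multiset.prod_replicate,
      Multiset.toFinset_replicate, if_neg (Nat.succ_ne_zero n), Finset.prod_singleton,
      Multiset.count_replicate_self, Fintype.card_fin, smul_eq_mul]
  rw [← h1, ← Subgroup.card_map_of_injective (f := (alternatingGroup (Fin 8)).subtype)
    Subtype.val_injective]
  refine Subgroup.card_dvd_of_le ?_
  rintro _ ⟨g, hg, rfl⟩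
  exact Subgroup.mem_centralizer_singleton_iff.mpr
    (congrArg Subtype.val (Subgroup.mem_centralizer_singleton_iff.mp hg))

theorem card_centralizer_s0 : Nat.card (Subgroup.centralizer ({s0} : Set Alt8)) ∣ 192 :=
  card_centralizer_dvd (k := 2) Nat.prime_two s0_sq two_ne_zero (by decide)

theorem card_centralizer_t0 : Nat.card (Subgroup.centralizer ({t0} : Set Alt8)) ∣ 384 :=
  card_centralizer_dvd (k := 4) Nat.prime_two t0_sq (by norm_num) (by decide)

theorem card_centralizer_cy : Nat.card (Subgroup.centralizer ({cy} : Set Alt8)) ∣ 36 :=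
  card_centralizer_dvd (k := 2) Nat.prime_three cy_pow two_ne_zero (by decide)

theorem five_dvd_card_centralizer_cz :
    5 ∣ Nat.card (Subgroup.centralizer ({cz} : Set Alt8)) := by
  haveI : Fact (Nat.Prime 5) := ⟨by norm_num⟩
  set f : Alt8 := ⟨swap 0 1 * swap 1 2 * swap 2 3 * swap 3 4, by rw [mem_alternatingGroup]; decide⟩
    with hf
  have hfc : f ∈ Subgroup.centralizer ({cz} : Set Alt8) :=
    Subgroup.mem_centralizer_singleton_iff.mpr (by rw [hf]; decide)
  have ho : orderOf f = 5 := orderOf_eq_prime (by rw [hf]; decide) (by rw [hf]; decide)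
  exact ho ▸ Subgroup.orderOf_dvd_natCard _ hfc

theorem eq_one_of_coprime_six {n : ℕ} (h : n.Coprime 6) {m : ℕ} (hm : m ∣ 384) (hn : n ∣ m) :
    n = 1 := by
  have h1 : (n.Coprime 384) := by
    have : (n.Coprime (6 ^ 7)) := h.pow_right 7
    exact this.coprime_dvd_right (by norm_num)
  exact Nat.eq_one_of_dvd_coprimes h1 dvd_rfl (hn.trans hm)

end CfsgLib.AEightThreeLocal
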