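import Cfsg.Agent.Lib.AEightThreeLocal.AltEight

/-!
A Sylow 2-subgroup of the alternating group of degree eight with a single elementary abelian
subgroup of order sixteen, and facts on the centralisers of the two kinds of involutions.
-/

set_option autoImplicit false
set_option maxRecDepth 100000
set_option linter.style.haveILetI false

namespace CfsgLib.AEightThreeLocal

open Equiv Equiv.Perm

/-- An involution of the point stabiliser part. -/
def aq : Alt8 := ⟨swap 0 1 * swap 4 5, by rw [mem_alternatingGroup]; decide⟩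

/-- An involution interchanging the two halves. -/
def aw : Alt8 := ⟨swap 0 4 * swap 1 5 * (swap 2 6 * swap 3 7), by rw [mem_alternatingGroup]; decide⟩

/-- Representatives of the cosets of `E0` in the Sylow subgroup. -/
def qw : Fin 4 → Alt8 := ![1, aq, aw, aq * aw]

theorem qw_mul : ∀ i j, qw i * qw j = qw (add4 i j) := by decide

/-- The four group generated by `aq` and `aw`. -/
def K0 : Subgroup Alt8 where
  carrier := Set.range qw
  one_mem' := ⟨0, rfl⟩
  mul_mem' := by rintro _ _ ⟨a, rfl⟩ ⟨b, rfl⟩; exact ⟨add4 a b, (qw_mul a b).symm⟩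
  inv_mem' := by
    rintro _ ⟨a, rfl⟩
    refine ⟨a, (inv_eq_of_mul_eq_one_right ?_).symm⟩
    rw [qw_mul, add4_self]; rfl

theorem qw_E0 : ∀ (i a b : Fin 4), ∃ c d, v4 c * u4 d = qw i * (v4 a * u4 b) * (qw i)⁻¹ := by decide

theorem K0_le : K0 ≤ Subgroup.normalizer (E0 : Set Alt8) := by
  rintro k ⟨i, rfl⟩
  have h1 : ∀ x ∈ E0, qw i * x * (qw i)⁻¹ ∈ E0 := by
    intro x hx
    obtain ⟨a, b, rfl⟩ := mem_E0.mp hx
    obtain ⟨c, d, h⟩ := qw_E0 i a b
    exact mem_E0.mpr ⟨c, d, h⟩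
  have hinv : (qw i)⁻¹ = qw i := by
    apply inv_eq_of_mul_eq_one_right
    rw [qw_mul, add4_self]; rfl
  refine Subgroup.mem_normalizer_iff.mpr fun x => ⟨h1 x, fun hx => ?_⟩
  have h2 := h1 _ hx
  rw [show qw i * (qw i * x * (qw i)⁻¹) * (qw i)⁻¹ = (qw i * qw i) * x * (qw i * qw i)⁻¹ by group,
    qw_mul, add4_self] at h2
  simpa [qw] using h2

/-- A Sylow 2-subgroup. -/
def T0 : Subgroup Alt8 := E0 ⊔ K0

theorem mem_T0 {x : Alt8} : x ∈ T0 ↔ ∃ e ∈ E0, ∃ i, e * qw i = x := by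
  constructor
  · intro hx
    rw [T0, ← SetLike.mem_coe, Subgroup.coe_mul_of_right_le_normalizer_left E0 K0 K0_le] at hx
    obtain ⟨e, he, k, ⟨i, rfl⟩, h⟩ := Set.mem_mul.1 hx
    exact ⟨e, he, i, h⟩
  · rintro ⟨e, he, i, rfl⟩
    exact mul_mem (Subgroup.mem_sup_left he) (Subgroup.mem_sup_right (show qw i ∈ K0 from ⟨i, rfl⟩))

theorem card_T0 : Nat.card T0 = 64 := by
  let f : E0 × Fin 4 → T0 := fun p => ⟨p.1 * qw p.2, mem_T0.mpr ⟨_, p.1.2, _, rfl⟩⟩
  have hf : Function.Bijective f := by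
    refine ⟨fun p q h => ?_, fun x => ?_⟩
    · obtain ⟨⟨e, he⟩, i⟩ := p
      obtain ⟨⟨e', he'⟩, j⟩ := q
      have h' : e * qw i = e' * qw j := congrArg Subtype.val h
      have hij : qw (add4 i j) = e⁻¹ * e' := by
        rw [← qw_mul, eq_inv_mul_iff_mul_eq, ← mul_assoc, h', mul_assoc, qw_mul, add4_self]
        exact mul_one e'
      obtain ⟨a, b, hab⟩ := mem_E0.mp (mul_mem (inv_mem he) he')
      rw [← hab] at hij
      have key : ∀ k a b, qw k = v4 a * u4 b → k = 0 := by decide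
      have h0 := key _ _ _ hij
      have hji : ∀ i j : Fin 4, add4 i j = 0 → i = j := by decide
      obtain rfl := hji _ _ h0
      exact Prod.ext (Subtype.ext (mul_right_cancel h')) rfl
    · obtain ⟨e, he, i, h⟩ := mem_T0.mp x.2
      exact ⟨(⟨e, he⟩, i), Subtype.ext h⟩
  rw [← Nat.card_eq_of_bijective f hf, Nat.card_prod, card_E0, Nat.card_fin]

theorem E0_le_T0 : E0 ≤ T0 := le_sup_left

theorem qw_cent : ∀ (i a b : Fin 4), qw i * (v4 a * u4 b) = v4 a * u4 b * qw i →
    i ≠ 0 → ((a = 0 ∧ b = 0) ∨ (a = 1 ∧ b = 1)) ∨ ((i = 1 ∧ a ≤ 1 ∧ b ≤ 1) ∨ (i = 2 ∧ a = b) ∨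
      (i = 3 ∧ ((a = 2 ∧ b = 3) ∨ (a = 3 ∧ b = 2)))) := by decide

/-- A subgroup of exponent two and order sixteen of `T0` is `E0`. -/
theorem eq_E0 {A : Subgroup Alt8} (hA : A ≤ T0) (hA2 : ∀ x ∈ A, x * x = 1)
    (hcard : Nat.card A = 16) : A = E0 := by
  classical
  by_contra hne
  have hnle : ¬ A ≤ E0 := fun h =>
    hne (Subgroup.eq_of_le_of_card_ge h (by rw [hcard, card_E0]))
  obtain ⟨x0, hx0, hx0E⟩ := SetLike.not_le_iff_exists.1 hnle
  obtain ⟨e0, he0, i0, rfl⟩ := mem_T0.mp (hA hx0)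
  have hi0 : i0 ≠ 0 := by
    rintro rfl
    exact hx0E (by simpa [qw] using he0)
  choose e he i hi using fun x : A => mem_T0.mp (hA x.2)
  have hcomm : ∀ x ∈ A, ∀ y ∈ A, x * y = y * x := fun x hx y hy => by
    have h := hA2 _ (mul_mem hx hy)
    have e : (x * y)⁻¹ = x * y := inv_eq_of_mul_eq_one_right h
    rw [mul_inv_rev, inv_eq_of_mul_eq_one_right (hA2 x hx),
      inv_eq_of_mul_eq_one_right (hA2 y hy)] at e
    exact e.symm
  -- elements of `A ⊓ E0` are fixed by every occurring coset representative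
  have hfix : ∀ (x : A) (a b : Fin 4), v4 a * u4 b ∈ A →
      qw (i x) * (v4 a * u4 b) = v4 a * u4 b * qw (i x) := by
    intro x a b hab
    have h1 := hcomm _ x.2 _ hab
    rw [← hi x, mul_assoc, ← mul_assoc (v4 a * u4 b), E0_comm (mem_E0.mpr ⟨a, b, rfl⟩) (he x),
      mul_assoc (e x)] at h1
    exact mul_left_cancel h1
  let allowed : Fin 4 → Finset (Fin 4 × Fin 4) := fun j =>
    Finset.univ.filter fun p => qw j * (v4 p.1 * u4 p.2) = v4 p.1 * u4 p.2 * qw j
  have hfib : ∀ x y : A, i x = i y → ∃ a b, v4 a * u4 b = (x : Alt8) * (y : Alt8) := by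
    intro x y h
    have hyy : (y : Alt8) = qw (i y) * e y := by
      have h2 := hA2 _ y.2
      have hq : qw (i y) * qw (i y) = 1 := by rw [qw_mul, add4_self]; rfl
      have he2 : e y * e y = 1 := by have := E0_sq (he y); rwa [pow_two] at this
      have hinv : (y : Alt8)⁻¹ = y := inv_eq_of_mul_eq_one_right h2
      rw [← hi y, mul_inv_rev, inv_eq_of_mul_eq_one_right hq, inv_eq_of_mul_eq_one_right he2] at hinv
      rw [hinv, hi y]
    refine mem_E0.mp ?_
    rw [hyy, ← hi x, h, mul_assoc, ← mul_assoc (qw (i y)), qw_mul, add4_self]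
    exact mul_mem (he x) (by simpa [qw] using he y)
  -- count
  let B := (Finset.univ : Finset (Fin 4 × Fin 4)).filter fun p => v4 p.1 * u4 p.2 ∈ A
  have hb : ∀ x : A, B ⊆ allowed (i x) := by
    intro x p hp
    rw [Finset.mem_filter] at hp ⊢
    exact ⟨Finset.mem_univ _, hfix x _ _ hp.2⟩
  haveI : Fintype A := Fintype.ofFinite _
  have hfibcard : ∀ j, (Finset.univ.filter fun x : A => i x = j).card ≤ B.card := by
    intro j
    rcases (Finset.univ.filter fun x : A => i x = j).eq_empty_or_nonempty with h | ⟨y, hy⟩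
    · rw [h]; simp
    · rw [Finset.mem_filter] at hy
      choose g g' hg using fun (x : {x : A // i x = j}) => hfib x.1 y (x.2.trans hy.2.symm)
      refine Finset.card_le_card_of_injOn
        (fun x : A => if h : i x = j then (g ⟨x, h⟩, g' ⟨x, h⟩) else (0, 0)) ?_ ?_
      · intro x hx
        rw [Finset.mem_coe, Finset.mem_filter] at hx
        simp only [dif_pos hx.2]
        rw [Finset.mem_coe, Finset.mem_filter]
        exact ⟨Finset.mem_univ _, by rw [hg ⟨x, hx.2⟩]; exact mul_mem x.2 y.2⟩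
      · intro x hx x' hx' heq
        rw [Finset.mem_coe, Finset.mem_filter] at hx hx'
        simp only [dif_pos hx.2, dif_pos hx'.2, Prod.mk.injEq] at heq
        have h1 := hg ⟨x, hx.2⟩
        have h2 := hg ⟨x', hx'.2⟩
        rw [heq.1, heq.2] at h1
        exact Subtype.ext (mul_right_cancel (h1.symm.trans h2))
  have hsum : 16 = ∑ j : Fin 4, (Finset.univ.filter fun x : A => i x = j).card := by
    rw [← hcard, Nat.card_eq_fintype_card, ← Finset.card_univ]
    exact Finset.card_eq_sum_card_fiberwise fun x _ => Finset.mem_univ _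
  obtain ⟨x1, hx1⟩ : ∃ x : A, i x ≠ 0 := by
    refine ⟨⟨_, hx0⟩, fun h => hx0E ?_⟩
    rw [show e0 * qw i0 = e ⟨_, hx0⟩ * qw (i ⟨_, hx0⟩) from (hi ⟨_, hx0⟩).symm, h]
    simpa [qw] using he ⟨_, hx0⟩
  have hB4 : B.card ≤ 4 := (Finset.card_le_card (hb x1)).trans (by
    have : ∀ j : Fin 4, j ≠ 0 → (Finset.univ.filter fun p : Fin 4 × Fin 4 =>
        qw j * (v4 p.1 * u4 p.2) = v4 p.1 * u4 p.2 * qw j).card ≤ 4 := by decide
    exact this _ hx1)
  have hall : ∀ j, ∃ x : A, i x = j := by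
    intro j
    by_contra hj
    push Not at hj
    have h0 : (Finset.univ.filter fun x : A => i x = j).card = 0 := by
      rw [Finset.card_eq_zero, Finset.filter_eq_empty_iff]; exact fun x _ => hj x
    have hle : ∑ k : Fin 4, (Finset.univ.filter fun x : A => i x = k).card ≤
        ∑ k : Fin 4, if k = j then 0 else 4 := by
      refine Finset.sum_le_sum fun k _ => ?_
      by_cases hk : k = j
      · rw [if_pos hk, hk, h0]
      · rw [if_neg hk]; exact (hfibcard k).trans hB4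
    have h12 : ∀ j : Fin 4, (∑ k : Fin 4, if k = j then 0 else 4) = 12 := by decide
    rw [h12 j, ← hsum] at hle
    omega
  have hB2 : B.card ≤ 2 := by
    obtain ⟨y1, hy1⟩ := hall 1
    obtain ⟨y2, hy2⟩ := hall 2
    have h : B ⊆ allowed 1 ∩ allowed 2 :=
      Finset.subset_inter (hy1 ▸ hb y1) (hy2 ▸ hb y2)
    refine (Finset.card_le_card h).trans ?_
    simp only [allowed]
    decide
  have := fun k => (hfibcard k).trans hB2
  have h1 := this 0; have h2 := this 1; have h3 := this 2; have h4 := this 3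
  rw [Fin.sum_univ_four] at hsum
  omega

/-- The centre of `T0` is generated by `t0`. -/
theorem center_T0 {x : Alt8} (hx : x ∈ T0) (hc : ∀ y ∈ T0, y * x = x * y) : x = 1 ∨ x = t0 := by
  obtain ⟨e, he, i, rfl⟩ := mem_T0.mp hx
  obtain ⟨a, b, rfl⟩ := mem_E0.mp he
  have hE : ∀ c d, v4 c * u4 d * (v4 a * u4 b * qw i) = v4 a * u4 b * qw i * (v4 c * u4 d) :=
    fun c d => hc _ (E0_le_T0 (mem_E0.mpr ⟨c, d, rfl⟩))
  have hK : ∀ j, qw j * (v4 a * u4 b * qw i) = v4 a * u4 b * qw i * qw j :=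
    fun j => hc _ (Subgroup.mem_sup_right (show qw j ∈ K0 from ⟨j, rfl⟩))
  have key : ∀ a b i : Fin 4,
      (∀ j, qw j * (v4 a * u4 b * qw i) = v4 a * u4 b * qw i * qw j) →
      (v4 2 * u4 0 * (v4 a * u4 b * qw i) = v4 a * u4 b * qw i * (v4 2 * u4 0)) →
      (v4 1 * u4 2 * (v4 a * u4 b * qw i) = v4 a * u4 b * qw i * (v4 1 * u4 2)) →
      v4 a * u4 b * qw i = 1 ∨ v4 a * u4 b * qw i = t0 := by decide
  exact key a b i hK (hE _ _) (hE _ _)

theorem t0_comm_T0 {x : Alt8} (hx : x ∈ T0) : x * t0 = t0 * x := by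
  obtain ⟨e, he, i, rfl⟩ := mem_T0.mp hx
  have hq : ∀ i, qw i * t0 = t0 * qw i := by decide
  rw [mul_assoc, hq, ← mul_assoc, E0_comm he t0_mem_E0, mul_assoc]

theorem s0_v4 : v4 1 = s0 := rfl

theorem s0_comm_qw : ∀ i, qw i * s0 = s0 * qw i → i = 0 ∨ i = 1 := by decide

/-- The four group on the first four points. -/
def V0 : Subgroup Alt8 where
  carrier := Set.range v4
  one_mem' := ⟨0, rfl⟩
  mul_mem' := by rintro _ _ ⟨a, rfl⟩ ⟨b, rfl⟩; exact ⟨add4 a b, (v4_mul a b).symm⟩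
  inv_mem' := by
    rintro _ ⟨a, rfl⟩
    refine ⟨a, (inv_eq_of_mul_eq_one_right ?_).symm⟩
    rw [v4_mul, add4_self]; rfl

theorem V0_le : V0 ≤ E0 := by
  rintro _ ⟨a, rfl⟩; exact mem_E0.mpr ⟨a, 0, mul_one _⟩

/-- Elements of `E0` with both `x` and `x s0` of small support. -/
theorem E0_small {x : Alt8} (hx : x ∈ E0) (h1 : (x : Perm (Fin 8)).support.card = 4)
    (h2 : ((x * s0 : Alt8) : Perm (Fin 8)).support.card = 4) : x = v4 2 ∨ x = v4 3 := by
  obtain ⟨a, b, rfl⟩ := mem_E0.mp hx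
  have key : ∀ a b : Fin 4, ((v4 a * u4 b : Alt8) : Perm (Fin 8)).support.card = 4 →
      ((v4 a * u4 b * s0 : Alt8) : Perm (Fin 8)).support.card = 4 →
      v4 a * u4 b = v4 2 ∨ v4 a * u4 b = v4 3 := by decide
  exact key a b h1 h2

theorem support_card_conj (g x : Alt8) :
    ((g * x * g⁻¹ : Alt8) : Perm (Fin 8)).support.card = (x : Perm (Fin 8)).support.card := by
  simp only [Subgroup.coe_mul, Subgroup.coe_inv]
  exact Equiv.Perm.card_support_conj

theorem two_not_conj_small {x : Alt8} (hx2 : x ^ 2 = 1) (hx1 : x ≠ 1) :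
    (x : Perm (Fin 8)).support.card = 4 ∨ ∃ g : Alt8, g * x * g⁻¹ = t0 := by
  rcases order_two_cases hx2 hx1 with ⟨g, hg⟩ | h
  · left
    rw [← support_card_conj g x, hg]
    decide
  · exact Or.inr h

/-- Involutions centralising `v4` lie in `E0`. -/
theorem invol_centV {y : Alt8} (h1 : y * v4 1 = v4 1 * y) (h2 : y * v4 2 = v4 2 * y)
    (hy : y * y = 1) : y ∈ E0 := by
  set π : Perm (Fin 8) := (y : Perm (Fin 8)) with hπ
  have c1 : ∀ k, π ((v4 1 : Perm (Fin 8)) k) = (v4 1 : Perm (Fin 8)) (π k) := fun k => by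
    have := congrArg (fun g : Alt8 => (g : Perm (Fin 8)) k) h1
    simpa using this
  have c2 : ∀ k, π ((v4 2 : Perm (Fin 8)) k) = (v4 2 : Perm (Fin 8)) (π k) := fun k => by
    have := congrArg (fun g : Alt8 => (g : Perm (Fin 8)) k) h2
    simpa using this
  have c0 : ∀ k, π (π k) = k := fun k => by
    have := congrArg (fun g : Alt8 => (g : Perm (Fin 8)) k) hy
    simpa using this
  have hlow : ∃ a : Fin 4, ∀ k : Fin 8, k.val < 4 → π k = (v4 a : Perm (Fin 8)) k := by
    have key : ∀ p : Fin 8, ((v4 1 : Perm (Fin 8)) p = p ∨ ∃ a : Fin 4, (v4 a : Perm (Fin 8)) 0 = p) := by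
      decide
    rcases key (π 0) with h | ⟨a, ha⟩
    · exfalso
      have := c1 0
      rw [h] at this
      exact absurd (π.injective this) (by decide)
    · refine ⟨a, fun k hk => ?_⟩
      have e1 := c1 0
      have e2 := c2 0
      have e3 := c2 ((v4 1 : Perm (Fin 8)) 0)
      rw [← ha] at e1 e2
      rw [c1 0, ← ha] at e3
      have hval : ∀ a : Fin 4, (v4 1 : Perm (Fin 8)) ((v4 a : Perm (Fin 8)) 0) = (v4 a : Perm (Fin 8)) 1 ∧
          (v4 2 : Perm (Fin 8)) ((v4 a : Perm (Fin 8)) 0) = (v4 a : Perm (Fin 8)) 2 ∧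
          (v4 2 : Perm (Fin 8)) ((v4 1 : Perm (Fin 8)) ((v4 a : Perm (Fin 8)) 0)) =
            (v4 a : Perm (Fin 8)) 3 := by decide
      have p1 : (v4 1 : Perm (Fin 8)) 0 = 1 := by decide
      have p2 : (v4 2 : Perm (Fin 8)) 0 = 2 := by decide
      have p3 : (v4 2 : Perm (Fin 8)) 1 = 3 := by decide
      rw [p1, (hval a).1] at e1
      rw [p2, (hval a).2.1] at e2
      rw [p1, p3, (hval a).2.2] at e3
      fin_cases k <;> first
        | exact ha.symm
        | exact e1
        | exact e2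
        | exact e3
        | (simp at hk)
  obtain ⟨a, ha⟩ := hlow
  have hrange : ∀ k : Fin 8, 4 ≤ k.val → 4 ≤ (π k).val := by
    intro k hk
    by_contra h
    have h' := ha (π k) (Nat.lt_of_not_le h)
    rw [c0 k] at h'
    have key : ∀ (a : Fin 4) (p : Fin 8), p.val < 4 → ((v4 a : Perm (Fin 8)) p).val < 4 := by decide
    have := key a (π k) (Nat.lt_of_not_le h)
    rw [← h'] at this
    omega
  let f : Fin 4 → Fin 4 := fun i => ⟨(π ⟨i.val + 4, by omega⟩).val - 4, by omega⟩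
  have hf : ∀ i : Fin 4, π ⟨i.val + 4, by omega⟩ = ⟨(f i).val + 4, by omega⟩ := fun i => by
    have := hrange ⟨i.val + 4, by omega⟩ (Nat.le_add_left 4 i.val)
    apply Fin.ext
    simp only [f]
    omega
  have hff : ∀ i, f (f i) = i := fun i => by
    have := c0 ⟨i.val + 4, by omega⟩
    rw [hf i, hf (f i)] at this
    have := congrArg Fin.val this
    apply Fin.ext
    simpa using this
  have key : ∀ f : Fin 4 → Fin 4, (∀ i, f (f i) = i) →
      (∃ j : Fin 4, ∀ i : Fin 4,
        ((u4 j : Perm (Fin 8)) ⟨i.val + 4, by omega⟩).val = (f i).val + 4) ∨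
      (∃ p q : Fin 4, p ≠ q ∧ ∀ i : Fin 4, f i = Equiv.swap p q i) := by decide
  have hlow' : ∀ (a b : Fin 4) (k : Fin 8), k.val < 4 →
      ((v4 a * u4 b : Alt8) : Perm (Fin 8)) k = (v4 a : Perm (Fin 8)) k := by decide
  have hupp : ∀ (a b : Fin 4) (k : Fin 8), 4 ≤ k.val →
      ((v4 a * u4 b : Alt8) : Perm (Fin 8)) k = (u4 b : Perm (Fin 8)) k := by decide
  rcases key f hff with ⟨j, hj⟩ | ⟨p, q, hpq, hsw⟩
  · refine mem_E0.mpr ⟨a, j, Subtype.ext (Equiv.ext fun k => ?_)⟩
    rcases Nat.lt_or_ge k.val 4 with hk | hk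
    · rw [hlow' a j k hk, ← ha k hk]
    · rw [hupp a j k hk]
      have hk' : k = ⟨(⟨k.val - 4, by omega⟩ : Fin 4).val + 4, by omega⟩ := by
        apply Fin.ext; simp only; omega
      rw [hk']
      show _ = π _
      rw [hf]
      exact Fin.ext (hj _)
  · exfalso
    set P : Fin 8 := ⟨p.val + 4, by omega⟩ with hP
    set Q : Fin 8 := ⟨q.val + 4, by omega⟩ with hQ
    have heq : π = (v4 a : Perm (Fin 8)) * Equiv.swap P Q := by
      refine Equiv.ext fun k => ?_
      rw [Perm.mul_apply]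
      rcases Nat.lt_or_ge k.val 4 with hk | hk
      · rw [Equiv.swap_apply_of_ne_of_ne (by intro h; rw [h, hP] at hk; simp at hk)
          (by intro h; rw [h, hQ] at hk; simp at hk), ha k hk]
      · have hk' : k = ⟨(⟨k.val - 4, by omega⟩ : Fin 4).val + 4, by omega⟩ := by
          apply Fin.ext; simp only; omega
        rw [hk', hf, show (⟨(f ⟨k.val - 4, by omega⟩).val + 4, by omega⟩ : Fin 8) =
          ⟨(Equiv.swap p q ⟨k.val - 4, by omega⟩).val + 4, by omega⟩ from
          Fin.ext (congrArg (fun m : Fin 4 => m.val + 4) (hsw _))]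
        have hfix : ∀ (a : Fin 4) (m : Fin 8), 4 ≤ m.val → (v4 a : Perm (Fin 8)) m = m := by decide
        have hsw' : Equiv.swap P Q ⟨(⟨k.val - 4, by omega⟩ : Fin 4).val + 4, by omega⟩ =
            ⟨(Equiv.swap p q ⟨k.val - 4, by omega⟩).val + 4, by omega⟩ := by
          simp only [Equiv.swap_apply_def, hP, hQ, Fin.ext_iff]
          split_ifs <;> first | rfl | omega
        rw [hsw', hfix]
        exact Nat.le_add_left 4 _
    have hs := congrArg sign heq
    rw [map_mul, mem_alternatingGroup.mp (v4 a).2, Equiv.Perm.sign_swap, hπ,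
      mem_alternatingGroup.mp y.2] at hs
    · exact absurd hs (by decide)
    · intro h
      apply hpq
      apply Fin.ext
      have := congrArg Fin.val h
      simpa [hP, hQ] using this

end CfsgLib.AEightThreeLocal
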