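import Cfsg.Agent.Lib.AEightThreeLocal.FinishA

/-!
The two kinds of involutions are not fused: otherwise the two kinds of elements of order three
would have conjugate centralisers.
-/

set_option autoImplicit false
set_option maxRecDepth 100000
set_option linter.style.haveILetI false
set_option linter.unusedSectionVars false

namespace CfsgLib.AEightThreeLocal

open Subgroup

universe u

variable {G : Type u} [Group G] [Finite G] {θ : Alt8 →* G}

/-- Conjugation carries centralisers to centralisers. -/
theorem card_centralizer_conj (g x : G) :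
    Nat.card (centralizer ({g * x * g⁻¹} : Set G)) = Nat.card (centralizer ({x} : Set G)) := by
  have : centralizer ({g * x * g⁻¹} : Set G) =
      (centralizer ({x} : Set G)).map (MulAut.conj g).toMonoidHom := by
    ext y
    rw [mem_map_equiv, mem_centralizer_singleton_iff, mem_centralizer_singleton_iff,
      MulAut.conj_symm_apply]
    constructor
    · intro h
      calc g⁻¹ * y * g * x = g⁻¹ * (y * (g * x * g⁻¹)) * g := by group
        _ = g⁻¹ * (g * x * g⁻¹ * y) * g := by rw [h]
        _ = _ := by group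
    · intro h
      calc y * (g * x * g⁻¹) = g * (g⁻¹ * y * g * x) * g⁻¹ := by group
        _ = g * (x * (g⁻¹ * y * g)) * g⁻¹ := by rw [h]
        _ = _ := by group
  rw [this, card_map_of_injective (MulAut.conj g).injective]

theorem card_centralizer_of_le (hinj : Function.Injective θ) {x : Alt8}
    (h : centralizer ({θ x} : Set G) ≤ θ.range) :
    Nat.card (centralizer ({θ x} : Set G)) = Nat.card (centralizer ({x} : Set Alt8)) := by
  have : centralizer ({θ x} : Set G) = (centralizer ({x} : Set Alt8)).map θ := by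
    refine le_antisymm (fun g hg => ?_) ?_
    · obtain ⟨a, rfl⟩ := h hg
      exact ⟨a, mem_centralizer_singleton_iff.2
        (hinj (by rw [map_mul, map_mul]; exact mem_centralizer_singleton_iff.1 hg)), rfl⟩
    · rintro _ ⟨a, ha, rfl⟩
      rw [mem_centralizer_singleton_iff, ← map_mul, ← map_mul, mem_centralizer_singleton_iff.1 ha]
  rw [this, card_map_of_injective hinj]

/-- The hypotheses on the embedding follow from the closure properties. -/
theorem Emb.mk' (hinj : Function.Injective θ) (hcz : centralizer ({θ AEightThreeLocal.cz} : Set G) ≤ θ.range)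
    (hcy : centralizer ({θ AEightThreeLocal.cy} : Set G) ≤ θ.range)
    (hV : normalizer ((V0.map θ : Subgroup G) : Set G) ≤ θ.range)
    (hE : normalizer ((E0.map θ : Subgroup G) : Set G) ≤ θ.range) : Emb θ := by
  refine ⟨hinj, hcz, hcy, hV, hE, fun hconj => ?_⟩
  obtain ⟨g, hg⟩ := isConj_iff.1 hconj.symm
  haveI : Fact (Nat.Prime 3) := ⟨Nat.prime_three⟩
  set C := centralizer ({θ s0} : Set G) with hC
  have hzC : θ AEightThreeLocal.cz ∈ C := by
    rw [hC, mem_centralizer_singleton_iff, ← map_mul, ← map_mul, cz_s0]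
  have hyC : g * θ cy1 * g⁻¹ ∈ C := by
    rw [hC, mem_centralizer_singleton_iff, ← hg,
      show g * θ cy1 * g⁻¹ * (g * θ t0 * g⁻¹) = g * θ (cy1 * t0) * g⁻¹ by rw [map_mul]; group,
      cy1_facts.2.2.1, map_mul]
    group
  have hoz : orderOf (θ AEightThreeLocal.cz) = 3 := by
    rw [orderOf_injective θ hinj]; exact orderOf_eq_prime cz_pow (by decide)
  have hoy : orderOf (g * θ cy1 * g⁻¹) = 3 := by
    rw [CfsgLib.Involutions.orderOf_conj, orderOf_injective θ hinj]
    exact orderOf_eq_prime cy1_facts.1 cy1_facts.2.1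
  set zC : C := ⟨_, hzC⟩ with hzCdef
  set yC : C := ⟨_, hyC⟩ with hyCdef
  have h9 : ¬ 3 ^ (1 + 1) ∣ Nat.card C := by
    intro h
    obtain ⟨K, hK, hzK⟩ := Sylow.exists_subgroup_card_pow_succ (p := 3) (n := 1) (G := C) h
      (H := zpowers zC) (by rw [Nat.card_zpowers, hzCdef, Subgroup.orderOf_mk, hoz, pow_one])
    have hle : K.map C.subtype ≤ (centralizer ({s0} : Set Alt8)).map θ := by
      rintro _ ⟨k, hk, rfl⟩
      have hkz := congrArg Subtype.val (IsPGroup.commutative_of_card_eq_prime_sq (p := 3) (G := K)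
        (by rw [hK]) ⟨k, hk⟩ ⟨zC, hzK (mem_zpowers zC)⟩)
      obtain ⟨n, hn⟩ := hcz (show (k : G) ∈ centralizer ({θ AEightThreeLocal.cz} : Set G) from
        mem_centralizer_singleton_iff.2 (congrArg Subtype.val hkz))
      refine ⟨n, mem_centralizer_singleton_iff.2 (hinj ?_), hn⟩
      rw [map_mul, map_mul, hn]
      exact mem_centralizer_singleton_iff.1 k.2
    have hd := card_dvd_of_le hle
    rw [card_map_of_injective C.subtype_injective, hK, card_map_of_injective hinj] at hd
    have := hd.trans card_centralizer_s0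
    norm_num at this
  have hpz : IsPGroup 3 (zpowers zC) := IsPGroup.of_card (n := 1)
    (by rw [Nat.card_zpowers, hzCdef, Subgroup.orderOf_mk, hoz, pow_one])
  have hpy : IsPGroup 3 (zpowers yC) := IsPGroup.of_card (n := 1)
    (by rw [Nat.card_zpowers, hyCdef, Subgroup.orderOf_mk, hoy, pow_one])
  obtain ⟨P, hP⟩ := hpz.exists_le_sylow
  obtain ⟨Q, hQ⟩ := hpy.exists_le_sylow
  have hmax : ∀ P : Sylow 3 C, Nat.card P ≤ 3 := by
    intro P
    obtain ⟨k, hk⟩ := IsPGroup.iff_card.1 P.2
    rw [hk]
    have : k ≤ 1 := by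
      by_contra h
      exact h9 ((pow_dvd_pow 3 (show 1 + 1 ≤ k by omega)).trans (hk ▸ card_subgroup_dvd_card _))
    exact (Nat.pow_le_pow_right (by norm_num) this).trans (by norm_num)
  have hPz : zpowers zC = P := eq_of_le_of_card_ge hP
    (by rw [Nat.card_zpowers, hzCdef, Subgroup.orderOf_mk, hoz]; exact hmax P)
  obtain ⟨c, hc⟩ := MulAction.exists_smul_eq C Q P
  have hmem : c * yC * c⁻¹ ∈ zpowers zC := by
    rw [hPz, ← hc]; exact ⟨yC, hQ (mem_zpowers yC), rfl⟩
  obtain ⟨i, hi⟩ := mem_powers_iff_mem_zpowers.2 hmem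
  change zC ^ i = _ at hi
  have hz3 : zC ^ 3 = 1 := by
    rw [← hoz, ← Subgroup.orderOf_mk _ hzC, ← hzCdef, pow_orderOf_eq_one]
  rw [pow_eq_pow_mod i hz3] at hi
  have hcases : Nat.card (centralizer ({θ cy1} : Set G)) =
      Nat.card (centralizer ({θ AEightThreeLocal.cz} : Set G)) := by
    have e : ((c : G) * g) * θ cy1 * ((c : G) * g)⁻¹ = θ AEightThreeLocal.cz ^ (i % 3) := by
      have := congrArg Subtype.val hi
      calc ((c : G) * g) * θ cy1 * ((c : G) * g)⁻¹ = c * (g * θ cy1 * g⁻¹) * (c : G)⁻¹ := by group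
        _ = _ := by rw [show θ AEightThreeLocal.cz ^ (i % 3) = _ from this]; rfl
    rw [← card_centralizer_conj ((c : G) * g) (θ cy1), e]
    have : i % 3 = 0 ∨ i % 3 = 1 ∨ i % 3 = 2 := by omega
    rcases this with h | h | h
    · exfalso
      rw [h, pow_zero] at hi
      have h1 : yC = 1 := conj_eq_one_iff.1 hi.symm
      rw [← Subgroup.orderOf_mk _ hyC, ← hyCdef, h1, orderOf_one] at hoy
      norm_num at hoy
    · rw [h, pow_one]
    · rw [h]
      have h3 : θ AEightThreeLocal.cz ^ 3 = 1 := by rw [← map_pow, cz_pow, map_one]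
      rw [show θ AEightThreeLocal.cz ^ 2 = (θ AEightThreeLocal.cz)⁻¹ from
        eq_inv_of_mul_eq_one_left (by rw [← pow_succ]; exact h3)]
      congr 2
      ext y
      simp only [mem_centralizer_singleton_iff]
      exact ⟨fun h => by simpa using (Commute.inv_right (show Commute y _ from h)).eq,
        fun h => (Commute.inv_right (show Commute y _ from h)).eq⟩
  obtain ⟨a, ha⟩ := exists_conj_cy1
  rw [← ha, map_mul, map_mul, map_inv, card_centralizer_conj, card_centralizer_of_le hinj hcy,
    card_centralizer_of_le hinj hcz] at hcases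
  have h5 := five_dvd_card_centralizer_cz
  rw [← hcases] at h5
  have := h5.trans card_centralizer_cy
  norm_num at this

end CfsgLib.AEightThreeLocal
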