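import Cfsg.Agent.Lib.ShortPres.Model
import Mathlib.GroupTheory.GroupAction.MultipleTransitivity
import Mathlib.GroupTheory.SpecificGroups.Alternating

/-!
A copy of the alternating group of degree eight from two elements of order three and an alternating
group of degree five centralising the first of them.
-/

set_option autoImplicit false
set_option linter.style.haveILetI false
set_option linter.unusedSectionVars false

namespace CfsgLib.AEightThreeLocal

variable {G : Type*} [Group G]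

/-- A group of order `60` isomorphic to the alternating group acts doubly transitively on the cosets
of a subgroup of index five. -/
theorem exists_pair_map {B : Type*} [Group B] (eB : B ≃* alternatingGroup (Fin 5)) {A : Subgroup B}
    (hA : A.index = 5) {a b c d : B ⧸ A} (hab : a ≠ b) (hcd : c ≠ d) :
    ∃ g : B, g • a = c ∧ g • b = d := by
  classical
  haveI : Finite B := Finite.of_equiv _ eB.symm.toEquiv
  haveI : Nontrivial B := eB.symm.injective.nontrivial
  haveI : IsSimpleGroup B := IsSimpleGroup.isSimpleGroup_of_surjective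
    (G := alternatingGroup (Fin 5)) eB.symm.toMonoidHom eB.symm.surjective
  haveI : Fintype (B ⧸ A) := Fintype.ofFinite _
  set f := MulAction.toPermHom B (B ⧸ A) with hf
  have hQ : Fintype.card (B ⧸ A) = 5 := by
    rw [← Nat.card_eq_fintype_card, ← Subgroup.index_eq_card, hA]
  have hinj : Function.Injective f := by
    rw [← MonoidHom.ker_eq_bot_iff]
    refine (Subgroup.Normal.eq_bot_or_eq_top inferInstance).resolve_right fun htop => ?_
    have h1 : A = ⊤ := eq_top_iff.mpr fun g _ => by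
      have h2 : f g = 1 := htop.ge (Subgroup.mem_top g)
      have h3 : g • ((1 : B) : B ⧸ A) = ((1 : B) : B ⧸ A) :=
        (DFunLike.congr_fun h2 ((1 : B) : B ⧸ A) :)
      rw [MulAction.Quotient.smul_coe, smul_eq_mul, mul_one] at h3
      simpa using QuotientGroup.eq.mp h3.symm
    rw [h1, Subgroup.index_top] at hA
    omega
  have hidx : f.range.index = 2 := by
    have h1 := f.range.card_mul_index
    rw [← Nat.card_congr (MonoidHom.ofInjective hinj).toEquiv, Nat.card_congr eB.toEquiv,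
      Nat.card_perm, Nat.card_eq_fintype_card (α := B ⧸ A), hQ] at h1
    have h2 : Nat.card (alternatingGroup (Fin 5)) = 60 := by
      rw [nat_card_alternatingGroup, Nat.card_fin]; rfl
    rw [h2] at h1
    have h3 : Nat.factorial 5 = 120 := rfl
    omega
  have hcard : Nat.card (B ⧸ A) = 5 := by rw [Nat.card_eq_fintype_card, hQ]
  haveI h3 : MulAction.IsMultiplyPretransitive (alternatingGroup (B ⧸ A)) (B ⧸ A)
      (Nat.card (B ⧸ A) - 2) := alternatingGroup.isMultiplyPretransitive _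
  haveI h4 : MulAction.IsMultiplyPretransitive (alternatingGroup (B ⧸ A)) (B ⧸ A) 2 :=
    MulAction.isMultiplyPretransitive_of_le (n := Nat.card (B ⧸ A) - 2) (by omega) (by omega)
  obtain ⟨σ, h5, h6⟩ := MulAction.is_two_pretransitive_iff.mp h4 hab hcd
  obtain ⟨g, hg⟩ := (Equiv.Perm.eq_alternatingGroup_of_index_eq_two hidx).ge σ.2
  exact ⟨g, (DFunLike.congr_fun hg a).trans h5, (DFunLike.congr_fun hg b).trans h6⟩

/-- Six elements of order three with pairwise products involutions give an image of the alternating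
group of degree eight. -/
theorem exists_alt_hom {ι : Type*} [Fintype ι] [DecidableEq ι] (hι : Fintype.card ι = 6) {x : ι → G}
    (h3 : ∀ i, x i ^ 3 = 1) (h2 : ∀ i j, i ≠ j → (x i * x j) ^ 2 = 1) (i₀ : ι) :
    ∃ φ : ↥(alternatingGroup (Fin 8)) →* G, (∀ i, x i ∈ φ.range) ∧
      ∃ c : ↥(alternatingGroup (Fin 8)), (c : Equiv.Perm (Fin 8)).IsThreeCycle ∧ φ c = x i₀ := by
  classical
  set gen : ι → G × Equiv.Perm (Bool ⊕ ι) := fun i => (x i, ShortPres.star i) with hgen
  obtain ⟨hfin, hle⟩ := ShortPres.carmichael (x := gen)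
    (fun i => Prod.ext (h3 i) (ShortPres.star_pow_three i))
    (fun i j hij => Prod.ext (h2 i j hij) (ShortPres.star_pair hij))
  haveI := hfin
  set K := Subgroup.closure (Set.range gen)
  set p₂ : K →* Equiv.Perm (Bool ⊕ ι) := (MonoidHom.snd G (Equiv.Perm (Bool ⊕ ι))).comp K.subtype
    with hp₂
  have hr : p₂.range = alternatingGroup (Bool ⊕ ι) := by
    rw [← ShortPres.closure_star, hp₂, MonoidHom.range_comp, Subgroup.range_subtype,
      MonoidHom.map_closure, ← Set.range_comp]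
    rfl
  have hA : Nat.card p₂.range = Nat.card K := by
    refine le_antisymm (Nat.card_le_card_of_surjective _ p₂.rangeRestrict_surjective) ?_
    have h4 := ShortPres.card_closure_star (ι := ι)
    rw [ShortPres.closure_star, ← hr] at h4
    omega
  have hinj : Function.Injective p₂.rangeRestrict :=
    ((Nat.bijective_iff_surjective_and_card _).mpr
      ⟨p₂.rangeRestrict_surjective, hA.symm⟩).1
  let e : K ≃* ↥(alternatingGroup (Bool ⊕ ι)) :=
    (MulEquiv.ofBijective p₂.rangeRestrict ⟨hinj, p₂.rangeRestrict_surjective⟩).trans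
      (MulEquiv.subgroupCongr hr)
  have hc : Fintype.card (Bool ⊕ ι) = Fintype.card (Fin 8) := by
    rw [Fintype.card_sum, hι, Fintype.card_bool, Fintype.card_fin]
  let q := Fintype.equivOfCardEq hc
  let φ : ↥(alternatingGroup (Fin 8)) →* G :=
    ((MonoidHom.fst G (Equiv.Perm (Bool ⊕ ι))).comp K.subtype).comp
      ((e.symm.toMonoidHom).comp (Equiv.altCongrHom q).symm.toMonoidHom)
  have hφ : ∀ i, φ (Equiv.altCongrHom q (e ⟨gen i, Subgroup.subset_closure ⟨i, rfl⟩⟩)) = x i := by
    intro i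
    simp [φ, gen]
  refine ⟨φ, fun i => ⟨_, hφ i⟩, _, ?_, hφ i₀⟩
  have h5 : ((e ⟨gen i₀, Subgroup.subset_closure ⟨i₀, rfl⟩⟩ :
      ↥(alternatingGroup (Bool ⊕ ι))) : Equiv.Perm (Bool ⊕ ι)) = ShortPres.star i₀ := rfl
  have h6 : (ShortPres.star i₀).IsThreeCycle :=
    Equiv.Perm.isThreeCycle_swap_mul_swap_same (by simp) (by simp) (by simp)
  have h7 : ∀ a b, q.permCongrHom (Equiv.swap a b) = Equiv.swap (q a) (q b) := fun a b =>
    Equiv.ext fun v => by simp [Equiv.permCongrHom, Equiv.swap_apply_def, Equiv.apply_symm_apply,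
      Equiv.symm_apply_eq, apply_ite q]
  show (((Equiv.altCongrHom q _ : ↥(alternatingGroup (Fin 8))) : Equiv.Perm (Fin 8))).IsThreeCycle
  rw [Equiv.altCongrHom_apply_coe, h5]
  show (q.permCongrHom (ShortPres.star i₀)).IsThreeCycle
  rw [ShortPres.star, map_mul, h7, h7]
  exact Equiv.Perm.isThreeCycle_swap_mul_swap_same (q.injective.ne (by simp))
    (q.injective.ne (by simp)) (q.injective.ne (by simp))

/-- The homomorphism from an element of order three, an alternating group of degree five centralising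
it and a second element of order three. -/
theorem exists_alt_hom_of_star (B : Subgroup G) (eB : ↥B ≃* alternatingGroup (Fin 5)) {A : Subgroup G}
    (hAB : A ≤ B) (hA : Nat.card A = 12) {x₀ x₁ r : G} (hx₀ : x₀ ^ 3 = 1) (hne : x₀ ≠ 1)
    (hx₁ : x₁ ^ 3 = 1) (hB : ∀ b ∈ B, Commute b x₀) (hA₁ : ∀ a ∈ A, Commute a x₁)
    (h01 : (x₀ * x₁) ^ 2 = 1) (hr : r ∈ B) (hrA : r ∉ A) (h11 : (x₁ * (r * x₁ * r⁻¹)) ^ 2 = 1) :
    ∃ φ : ↥(alternatingGroup (Fin 8)) →* G, Function.Injective φ ∧ x₁ ∈ φ.range ∧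
      ∃ c : ↥(alternatingGroup (Fin 8)), (c : Equiv.Perm (Fin 8)).IsThreeCycle ∧ φ c = x₀ := by
  classical
  haveI : Finite ↥B := Finite.of_equiv _ eB.symm.toEquiv
  set A' := A.subgroupOf B with hA'
  have hBc : Nat.card ↥B = 60 := by
    rw [Nat.card_congr eB.toEquiv, nat_card_alternatingGroup, Nat.card_fin]; rfl
  have hidx : A'.index = 5 := by
    have h1 := A'.card_mul_index
    rw [Nat.card_congr (Subgroup.subgroupOfEquivOfLe hAB).toEquiv, hA, hBc] at h1
    omega
  let F : ↥B ⧸ A' → G := Quotient.lift (fun b : ↥B => (b : G) * x₁ * (b : G)⁻¹) (by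
    intro b b' hbb
    have h1 : ((b : G)⁻¹ * b') ∈ A :=
      Subgroup.mem_subgroupOf.mp ((QuotientGroup.leftRel_apply (s := A')).mp hbb)
    show (b : G) * x₁ * (b : G)⁻¹ = (b' : G) * x₁ * (b' : G)⁻¹
    calc (b : G) * x₁ * (b : G)⁻¹
        = (b : G) * (((b : G)⁻¹ * b') * x₁ * ((b : G)⁻¹ * b')⁻¹) * (b : G)⁻¹ := by
          rw [(hA₁ _ h1).eq, mul_inv_cancel_right]
      _ = _ := by group)
  haveI : Fintype (↥B ⧸ A') := Fintype.ofFinite _
  have hF : ∀ b : ↥B, F (b : ↥B ⧸ A') = (b : G) * x₁ * (b : G)⁻¹ := fun b => rfl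
  have hsq : ∀ {u v g : G}, (u * v) ^ 2 = 1 → ((g * u * g⁻¹) * (g * v * g⁻¹)) ^ 2 = 1 :=
    fun {u v g} h => by
      rw [show g * u * g⁻¹ * (g * v * g⁻¹) = g * (u * v) * g⁻¹ by group, conj_pow, h, mul_one,
        mul_inv_cancel]
  have hswap : ∀ {u v : G}, (u * v) ^ 2 = 1 → (v * u) ^ 2 = 1 := fun {u v} h => by
    rw [show v * u = u⁻¹ * (u * v) * u⁻¹⁻¹ by group, conj_pow, h, mul_one, mul_inv_cancel]
  have h0q : ∀ Q : ↥B ⧸ A', (x₀ * F Q) ^ 2 = 1 := by
    intro Q
    obtain ⟨b, rfl⟩ := QuotientGroup.mk_surjective Q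
    have h1 := hsq (g := (b : G)) h01
    rwa [(hB _ b.2).eq, mul_inv_cancel_right, ← hF] at h1
  have hFF : ∀ Q R : ↥B ⧸ A', Q ≠ R → (F Q * F R) ^ 2 = 1 := by
    intro Q R hQR
    have hne' : ((1 : ↥B) : ↥B ⧸ A') ≠ ((⟨r, hr⟩ : ↥B) : ↥B ⧸ A') := fun h =>
      hrA (by simpa [hA', Subgroup.mem_subgroupOf] using QuotientGroup.eq.mp h)
    obtain ⟨g, hgQ, hgR⟩ := exists_pair_map eB hidx hne' hQR
    rw [← hgQ, ← hgR, MulAction.Quotient.smul_coe, MulAction.Quotient.smul_coe, smul_eq_mul,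
      smul_eq_mul, mul_one, hF, hF, Subgroup.coe_mul,
      show (g : G) * r * x₁ * ((g : G) * r)⁻¹ = (g : G) * (r * x₁ * r⁻¹) * (g : G)⁻¹ by group]
    exact hsq h11
  let X : Option (↥B ⧸ A') → G := fun o => o.elim x₀ F
  have hX3 : ∀ o, X o ^ 3 = 1 := by
    rintro (_ | Q)
    · exact hx₀
    · obtain ⟨b, rfl⟩ := QuotientGroup.mk_surjective Q
      show ((b : G) * x₁ * (b : G)⁻¹) ^ 3 = 1
      rw [conj_pow, hx₁, mul_one, mul_inv_cancel]
  have hX2 : ∀ o o', o ≠ o' → (X o * X o') ^ 2 = 1 := by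
    rintro (_ | Q) (_ | R) h
    · exact absurd rfl h
    · exact h0q R
    · exact hswap (h0q Q)
    · exact hFF Q R fun e => h (congrArg some e)
  obtain ⟨φ, hrange, c, hc, hφc⟩ := exists_alt_hom (by
    rw [Fintype.card_option, ← Nat.card_eq_fintype_card, ← Subgroup.index_eq_card, hidx]) hX3 hX2 none
  refine ⟨φ, ?_, by simpa [X, hF] using hrange (some ((1 : ↥B) : ↥B ⧸ A')), c, hc, hφc⟩
  rw [← MonoidHom.ker_eq_bot_iff]
  haveI := alternatingGroup.isSimpleGroup (α := Fin 8) (by simp)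
  refine (Subgroup.Normal.eq_bot_or_eq_top inferInstance).resolve_right fun htop => hne ?_
  exact hφc.symm.trans (MonoidHom.mem_ker.mp (htop.ge (Subgroup.mem_top c)))

end CfsgLib.AEightThreeLocal
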