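import Cfsg.Agent.Lib.AEightThreeLocal.CentV
import Cfsg.Agent.Lib.AEightThreeLocal.Star
import Cfsg.Agent.Lib.AEightThreeLocal.EmbMk

/-!
A copy of the alternating group of degree eight from the paired data, containing the centralisers of
both kinds of elements of order three and the normalisers of the four group and of the elementary
abelian group of order sixteen.
-/

set_option autoImplicit false
set_option maxRecDepth 100000
set_option linter.style.haveILetI false
set_option linter.unusedSectionVars false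

namespace CfsgLib.AEightThreeLocal

open Equiv Subgroup

/-! ### Finite checks -/

/-- The alternating group of degree five inside the model. -/
def altFive : ↥(alternatingGroup (Fin 5)) →* M35 where
  toFun b := ⟨(1, (b : Perm (Fin 5))), by
    rw [mem_M35, map_one, one_mul]; exact Equiv.Perm.mem_alternatingGroup.mp b.2⟩
  map_one' := rfl
  map_mul' _ _ := by ext1; simp

theorem altFive_injective : Function.Injective altFive := fun a b h =>
  Subtype.ext (congrArg (fun g : M35 => g.1.2) h)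

/-- The elements of the point stabiliser in the alternating group of degree five. -/
def afun (p : Fin 4 × Fin 3) : M35 := vfun p.1 * wm ^ p.2.val

theorem afun_mul : ∀ p q, ∃ r, afun r = afun p * afun q := by decide

theorem afun_inv : ∀ p, ∃ r, afun r = (afun p)⁻¹ := by decide

/-- The point stabiliser in the alternating group of degree five, in the model. -/
def am : Subgroup M35 where
  carrier := Set.range afun
  one_mem' := ⟨(0, 0), by decide⟩
  mul_mem' := by rintro _ _ ⟨p, rfl⟩ ⟨q, rfl⟩; exact afun_mul p q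
  inv_mem' := by rintro _ ⟨p, rfl⟩; exact afun_inv p

theorem card_am : Nat.card am = 12 := by
  have h : Function.Injective afun := by decide
  show Nat.card (Set.range afun) = 12
  rw [Nat.card_range_of_injective h]
  simp

theorem afun_fst : ∀ p, (afun p).1.1 = 1 := by decide

theorem afun_fix : ∀ p, (afun p).1.2 4 = 4 := by decide

theorem vfun_zm : ∀ i, vfun i * zm = zm * vfun i := by decide

theorem vfun_sq : ∀ i, vfun i * vfun i = 1 := by decide

theorem vfun_wm_sq : ∀ i, (wm * (vfun i * wm⁻¹ * (vfun i)⁻¹)) ^ 2 = 1 := by decide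

theorem vfun_swap_sq : ∀ i, i ≠ 0 →
    (((vfun i).1.2 * c5⁻¹ * ((vfun i).1.2)⁻¹) *
      (Equiv.swap 3 4 * ((vfun i).1.2 * c5⁻¹ * ((vfun i).1.2)⁻¹) * (Equiv.swap 3 4)⁻¹)) ^ 2 = 1 := by
  decide

theorem perm5_odd_invol_c5 : ∀ b : Perm (Fin 5), Perm.sign b = -1 → b * c5 = c5 * b → b * b = 1 →
    b = Equiv.swap 3 4 := by decide

/-- The subgroup of order nine generated by the two disjoint three-cycles. -/
def W9 : Subgroup Alt8 where
  carrier := Set.range fun p : Fin 3 × Fin 3 => cw ^ p.1.val * cz ^ p.2.val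
  one_mem' := ⟨(0, 0), by decide⟩
  mul_mem' := by
    rintro _ _ ⟨p, rfl⟩ ⟨q, rfl⟩
    have : ∀ p q : Fin 3 × Fin 3, ∃ r : Fin 3 × Fin 3,
        cw ^ r.1.val * cz ^ r.2.val = cw ^ p.1.val * cz ^ p.2.val * (cw ^ q.1.val * cz ^ q.2.val) := by
      decide
    exact this p q
  inv_mem' := by
    rintro _ ⟨p, rfl⟩
    have : ∀ p : Fin 3 × Fin 3, ∃ r : Fin 3 × Fin 3,
        cw ^ r.1.val * cz ^ r.2.val = (cw ^ p.1.val * cz ^ p.2.val)⁻¹ := by decide
    exact this p

theorem card_W9 : Nat.card W9 = 9 := by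
  have h : Function.Injective fun p : Fin 3 × Fin 3 => cw ^ p.1.val * cz ^ p.2.val := by decide
  show Nat.card (Set.range fun p : Fin 3 × Fin 3 => cw ^ p.1.val * cz ^ p.2.val) = 9
  rw [Nat.card_range_of_injective h]
  simp

theorem card_V0 : Nat.card V0 = 4 := by
  have h : Function.Injective v4 := by decide
  show Nat.card (Set.range v4) = 4
  rw [Nat.card_range_of_injective h, Nat.card_fin]

theorem cz_v4 : ∀ a, cz * v4 a = v4 a * cz := by decide

theorem aw_u4 : ∀ b, ∃ a, aw * u4 b * aw⁻¹ = v4 a := by decide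

theorem E0_mixed : ∀ a b : Fin 4, v4 a * u4 b ≠ 1 → a = 0 ∨ b = 0 ∨
    ((v4 a * u4 b : Alt8) : Perm (Fin 8)).support.card = 8 := by decide

theorem le_card_cent_cz : 180 ≤ Nat.card (centralizer ({cz} : Set Alt8)) := by
  have h9 : 9 ∣ Nat.card (centralizer ({cz} : Set Alt8)) := card_W9 ▸ card_dvd_of_le (by
    rintro _ ⟨p, rfl⟩
    have : ∀ p : Fin 3 × Fin 3,
        cw ^ p.1.val * cz ^ p.2.val * cz = cz * (cw ^ p.1.val * cz ^ p.2.val) := by decide
    exact mem_centralizer_singleton_iff.2 (this p))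
  have h4 : 4 ∣ Nat.card (centralizer ({cz} : Set Alt8)) := card_V0 ▸ card_dvd_of_le (by
    rintro _ ⟨a, rfl⟩
    exact mem_centralizer_singleton_iff.2 (cz_v4 a).symm)
  have h5 := five_dvd_card_centralizer_cz
  refine Nat.le_of_dvd Nat.card_pos ?_
  rw [show 180 = 9 * 4 * 5 by norm_num]
  exact Nat.Coprime.mul_dvd_of_dvd_of_dvd (by norm_num)
    (Nat.Coprime.mul_dvd_of_dvd_of_dvd (by norm_num) h9 h4) h5

theorem le_card_cent_cy : 18 ≤ Nat.card (centralizer ({cy} : Set Alt8)) := by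
  have h9 : 9 ∣ Nat.card (centralizer ({cy} : Set Alt8)) := card_W9 ▸ card_dvd_of_le (by
    rintro _ ⟨p, rfl⟩
    have : ∀ p : Fin 3 × Fin 3,
        cw ^ p.1.val * cz ^ p.2.val * cy = cy * (cw ^ p.1.val * cz ^ p.2.val) := by decide
    exact mem_centralizer_singleton_iff.2 (this p))
  set f : Alt8 := ⟨Equiv.swap 0 5 * Equiv.swap 1 6 * (Equiv.swap 2 7 * Equiv.swap 3 4), by
    rw [Equiv.Perm.mem_alternatingGroup]; decide⟩ with hf
  have h2 : 2 ∣ Nat.card (centralizer ({cy} : Set Alt8)) := by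
    haveI : Fact (Nat.Prime 2) := ⟨Nat.prime_two⟩
    have ho : orderOf f = 2 := orderOf_eq_prime (by rw [hf]; decide) (by rw [hf]; decide)
    exact ho ▸ Subgroup.orderOf_dvd_natCard _
      (mem_centralizer_singleton_iff.2 (show f * cy = cy * f by rw [hf]; decide))
  refine Nat.le_of_dvd Nat.card_pos ?_
  rw [show 18 = 9 * 2 by norm_num]
  exact Nat.Coprime.mul_dvd_of_dvd_of_dvd (by norm_num) h9 h2

theorem factorization_mul_pow {p : ℕ} (hp : p.Prime) (k : ℕ) {m : ℕ} (hm : ¬ p ∣ m) :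
    (p ^ k * m).factorization p = k := by
  have hm0 : m ≠ 0 := fun h => hm (h ▸ dvd_zero p)
  rw [Nat.factorization_mul (pow_ne_zero _ hp.ne_zero) hm0, Finsupp.add_apply,
    hp.factorization_pow, Finsupp.single_eq_same, Nat.factorization_eq_zero_of_not_dvd hm, add_zero]

theorem mem_normalizer_zpowers' {H : Type*} [Group H] [Finite H] {g x : H}
    (h : g * x * g⁻¹ ∈ zpowers x) : g ∈ normalizer (zpowers x : Set H) := by
  refine CfsgLib.CoprimeAction.mem_normalizer_of_conj_mem fun y hy => ?_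
  obtain ⟨k, rfl⟩ := mem_zpowers_iff.1 hy
  rw [← conj_zpow]
  exact zpow_mem h k

universe u

variable {G : Type u} [Group G] [Finite G]

namespace Paired

variable (M : Paired G)

theorem cent_z_eq : centralizer ({M.z} : Set G) = (centralizer ({zm} : Set M35)).map M.φ := by
  refine le_antisymm (fun g hg => ?_) ?_
  · obtain ⟨m, rfl, hm⟩ := M.toDatum.mem_range_of_commute (mem_centralizer_singleton_iff.1 hg)
    exact ⟨m, mem_centralizer_singleton_iff.2 hm, rfl⟩
  · rintro _ ⟨m, hm, rfl⟩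
    rw [mem_centralizer_singleton_iff, ← M.φ_zm, ← map_mul, ← map_mul,
      mem_centralizer_singleton_iff.1 hm]

theorem card_cent_z : Nat.card (centralizer ({M.z} : Set G)) = 180 := by
  rw [M.cent_z_eq, card_map_of_injective M.φ_inj]
  set f : M35 →* ℤˣ :=
    Perm.sign.comp ((MonoidHom.fst (Perm (Fin 3)) (Perm (Fin 5))).comp M35.subtype)
  have hker : centralizer ({zm} : Set M35) = f.ker := by
    ext m
    rw [mem_centralizer_singleton_iff, MonoidHom.mem_ker]
    show m * zm = zm * m ↔ Perm.sign m.1.1 = 1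
    constructor
    · intro h
      exact perm3_commute_sign _ (congrArg (fun g : M35 => g.1.1) h)
    · intro h
      have h3 := mul_inv_eq_iff_eq_mul.1 (perm3_even_central _ h)
      exact Subtype.ext (Prod.ext h3 (by simp [zm]))
  have hidx : f.ker.index = 2 := by
    rw [Subgroup.index_ker, MonoidHom.range_eq_top.2, Subgroup.card_top, Nat.card_eq_fintype_card,
      Fintype.card_units_int]
    intro u
    rcases Int.units_eq_one_or u with rfl | rfl
    · exact ⟨1, map_one _⟩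
    · exact ⟨rwm, by decide⟩
  have := f.ker.card_mul_index
  rw [hidx, card_M35] at this
  rw [hker]
  omega

/-- The embedding, with the element `cz` mapped to `z`. -/
theorem exists_hom : ∃ θ : Alt8 →* G, Function.Injective θ ∧ θ cz = M.z := by
  classical
  haveI : Fact (Nat.Prime 3) := ⟨Nat.prime_three⟩
  set B := (M.φ.comp altFive).range
  have eB : ↥B ≃* ↥(alternatingGroup (Fin 5)) :=
    (MonoidHom.ofInjective (f := M.φ.comp altFive) (M.φ_inj.comp altFive_injective)).symm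
  set a : G := M.φ' (vfun 1) with ha
  have haV : a ∈ vm.map M.φ' := ⟨_, ⟨1, rfl⟩, rfl⟩
  set x₁ : G := a * M.z⁻¹ * a⁻¹ with hx₁
  have hAB : am.map M.φ ≤ B := by
    rintro _ ⟨_, ⟨p, rfl⟩, rfl⟩
    refine ⟨⟨(afun p).1.2, Equiv.Perm.mem_alternatingGroup.mpr ?_⟩, ?_⟩
    · have h : Perm.sign (afun p).1.1 * Perm.sign (afun p).1.2 = 1 := mem_M35.mp (afun p).2
      rwa [afun_fst p, map_one, one_mul] at h
    · exact congrArg M.φ (Subtype.ext (Prod.ext (afun_fst p).symm rfl))
  have haw : Commute a M.w := by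
    show _ = _
    rw [ha, ← M.φ'_zm, ← map_mul, ← map_mul, vfun_zm]
  have hA₁ : ∀ x ∈ am.map M.φ, Commute x x₁ := by
    rintro _ ⟨_, ⟨⟨i, j⟩, rfl⟩, rfl⟩
    have hv : M.φ (vfun i) ∈ vm.map M.φ := ⟨_, ⟨i, rfl⟩, rfl⟩
    have h1 : Commute (M.φ (vfun i)) a := M.VV _ hv _ haV
    have h2 : Commute (M.φ (vfun i)) M.z := (M.toDatum.z_comm_V _ hv).symm
    have h3 : Commute M.w M.z := M.toDatum.zw_comm.symm
    rw [afun, map_mul, map_pow, M.φ_wm]
    exact ((h1.mul_right h2.inv_right).mul_right h1.inv_right).mul_left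
      ((((haw.symm.mul_right h3.inv_right).mul_right haw.symm.inv_right)).pow_left _)
  have hB : ∀ b ∈ B, Commute b M.z := by
    rintro _ ⟨b, rfl⟩
    show _ = _
    rw [← M.φ_zm, MonoidHom.comp_apply, ← map_mul, ← map_mul]
    exact congrArg M.φ (Subtype.ext (Prod.ext (by simp [altFive, zm]) (by simp [altFive, zm])))
  have h01 : (M.z * x₁) ^ 2 = 1 := by
    rw [hx₁, ha, ← M.φ'_wm, ← map_inv, ← map_inv, ← map_mul, ← map_mul, ← map_mul, ← map_pow,
      vfun_wm_sq, map_one]
  obtain ⟨hr1, -, hrz, hrw⟩ := M.toDatum.rz_props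
  have hrB : M.toDatum.rz ∈ B :=
    ⟨⟨rzm.1.2, by rw [Equiv.Perm.mem_alternatingGroup]; decide⟩, rfl⟩
  have hrA : M.toDatum.rz ∉ am.map M.φ := by
    rintro ⟨_, ⟨p, rfl⟩, hp⟩
    have h1 := afun_fix p
    rw [M.φ_inj hp] at h1
    exact absurd h1 (by decide)
  have h11 : (x₁ * (M.toDatum.rz * x₁ * (M.toDatum.rz)⁻¹)) ^ 2 = 1 := by
    have hn : M.toDatum.rz ∈ normalizer (zpowers M.w : Set G) := by
      refine mem_normalizer_zpowers' ?_
      rw [hrw]; exact inv_mem (mem_zpowers _)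
    rw [← M.φ'_range] at hn
    obtain ⟨m, hm⟩ := hn
    rw [← hm] at hr1 hrz hrw ⊢
    rw [← M.φ'_zm, ← map_inv, ← map_inv, ← map_mul, ← map_mul] at hrw
    rw [← M.φ'_wm, ← map_mul, ← map_mul] at hrz
    rw [← map_mul, ← map_one M.φ'] at hr1
    have e1 : m.1.1 * c3 * (m.1.1)⁻¹ = c3⁻¹ := congrArg (fun g : M35 => g.1.1) (M.φ'_inj hrw)
    have e2 : m.1.2 * c5 = c5 * m.1.2 := congrArg (fun g : M35 => g.1.2) (M.φ'_inj hrz)
    have e3 : m.1.2 * m.1.2 = 1 := congrArg (fun g : M35 => g.1.2) (M.φ'_inj hr1)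
    have hs : Perm.sign m.1.2 = -1 := by
      have : ∀ s : Perm (Fin 3), s * c3 * s⁻¹ = c3⁻¹ → Perm.sign s = -1 := by decide
      have h := mem_M35.mp m.2
      rw [this _ e1] at h
      rcases Int.units_eq_one_or (Perm.sign m.1.2) with h' | h'
      · rw [h'] at h; exact absurd h (by decide)
      · exact h'
    have hm2 := perm5_odd_invol_c5 _ hs e2 e3
    rw [hx₁, ha, ← M.φ'_wm, ← map_inv, ← map_inv, ← map_inv, ← map_mul, ← map_mul, ← map_mul,
      ← map_mul, ← map_mul, ← map_pow, ← map_one M.φ']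
    refine congrArg M.φ' (Subtype.ext (Prod.ext ?_ ?_))
    · simp [wm, vfun_fst]
    · have := vfun_swap_sq 1 (by decide)
      simpa [wm, hm2] using this
  obtain ⟨φ₀, hinj, -, c, hc, hφc⟩ := exists_alt_hom_of_star B eB hAB
    (by rw [card_map_of_injective M.φ_inj, card_am]) M.toDatum.z_cube M.toDatum.z_ne
    (by rw [hx₁, conj_pow, inv_pow, M.toDatum.z_cube, inv_one, mul_one, mul_inv_cancel])
    hB hA₁ h01 hrB hrA h11
  have hc3 : c ^ 3 = 1 := Subtype.ext (by
    rw [Subgroup.coe_pow, Subgroup.coe_one, ← hc.orderOf, pow_orderOf_eq_one])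
  have hc1 : c ≠ 1 := fun h => by
    have := hc.orderOf
    rw [h, Subgroup.coe_one, orderOf_one] at this
    norm_num at this
  obtain ⟨g, hg⟩ := isConj_of_prime Nat.prime_three hc3 hc1 cz_pow (by decide)
    (by rw [hc.card_support]; decide) (τ := Equiv.swap 3 4) (by decide) (by decide)
  refine ⟨φ₀.comp (MulAut.conj g⁻¹).toMonoidHom, hinj.comp (MulAut.conj g⁻¹).injective, ?_⟩
  show φ₀ (g⁻¹ * cz * g⁻¹⁻¹) = M.z
  rw [← hφc, ← hg]
  exact congrArg φ₀ (by group)

theorem card_centralizer_inv' (x : G) :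
    Nat.card (centralizer ({x⁻¹} : Set G)) = Nat.card (centralizer ({x} : Set G)) := by
  rw [Datum.centralizer_inv]

theorem cent_cz_le {θ : Alt8 →* G} (hinj : Function.Injective θ) (hz : θ cz = M.z) :
    centralizer ({θ cz} : Set G) ≤ θ.range := by
  have hle : (centralizer ({cz} : Set Alt8)).map θ ≤ centralizer ({θ cz} : Set G) := by
    rintro _ ⟨a, ha, rfl⟩
    rw [mem_centralizer_singleton_iff, ← map_mul, ← map_mul, mem_centralizer_singleton_iff.1 ha]
  rw [← eq_of_le_of_card_ge hle (by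
    rw [card_map_of_injective hinj, hz, M.card_cent_z]; exact le_card_cent_cz)]
  exact map_le_range _ _

theorem cent_cy_le {θ : Alt8 →* G} (hinj : Function.Injective θ) (hz : θ cz = M.z) :
    centralizer ({θ cy} : Set G) ≤ θ.range := by
  have hcwz : θ cw * M.z = M.z * θ cw := by rw [← hz, ← map_mul, ← map_mul, cw_cz]
  obtain ⟨m, hm, hmz⟩ := M.toDatum.mem_range_of_commute hcwz
  obtain ⟨k, hk⟩ := isConj_of_prime Nat.prime_three cw_pow (by decide) cz_pow (by decide) (by decide)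
    (τ := Equiv.swap 0 1) (by decide) (by decide)
  have hw180 : Nat.card (centralizer ({θ cw} : Set G)) = 180 := by
    rw [← card_centralizer_conj (θ k) (θ cw), ← map_inv, ← map_mul, ← map_mul, hk, hz, M.card_cent_z]
  have hm3 : m ^ 3 = 1 := M.φ_inj (by rw [map_pow, hm, ← map_pow, cw_pow, map_one, map_one])
  have ha3 : m.1.1 ^ 3 = 1 := congrArg (fun g : M35 => g.1.1) hm3
  have hb3 : m.1.2 * m.1.2 * m.1.2 = 1 := by
    have := congrArg (fun g : M35 => g.1.2) hm3
    simpa [pow_succ] using this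
  have hb1 : m.1.2 ≠ 1 := by
    intro hb
    rcases perm3_of_cube _ ha3 with h | h | h
    · have : m = 1 := Subtype.ext (Prod.ext h hb)
      rw [this, map_one, ← map_one θ] at hm
      exact absurd (hinj hm).symm (by decide)
    · have : m = zm := Subtype.ext (Prod.ext h hb)
      rw [this, M.φ_zm, ← hz] at hm
      exact absurd (hinj hm).symm (by decide)
    · have : m = zm⁻¹ := Subtype.ext (Prod.ext (h.trans rfl) (hb.trans (by decide)))
      rw [this, map_inv, M.φ_zm, ← hz, ← map_inv] at hm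
      exact absurd (hinj hm).symm (by decide)
  obtain ⟨π, hπ⟩ := perm5_three_conj _ hb3 hb1
  obtain ⟨q, hqs, hq⟩ : ∃ q : Perm (Fin 5), Perm.sign q = 1 ∧ q * m.1.2 * q⁻¹ = c5 := by
    rcases Int.units_eq_one_or (Perm.sign π) with h | h
    · exact ⟨π, h, hπ⟩
    · refine ⟨Equiv.swap 3 4 * π, by rw [map_mul, h]; decide, ?_⟩
      rw [show Equiv.swap 3 4 * π * m.1.2 * (Equiv.swap 3 4 * π)⁻¹ =
        Equiv.swap 3 4 * (π * m.1.2 * π⁻¹) * (Equiv.swap 3 4 : Perm (Fin 5))⁻¹ by group, hπ]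
      decide
  set p : M35 := ⟨(1, q), by rw [mem_M35, map_one, one_mul, hqs]⟩ with hp
  set a' : M35 := p * m * p⁻¹ with ha'
  have hA : a' = wm ∨ a' = zm * wm ∨ a' = zm⁻¹ * wm := by
    rcases perm3_of_cube _ ha3 with h | h | h
    · exact Or.inl (Subtype.ext (Prod.ext (by simp [ha', hp, h, wm]) (by simp [ha', hp, wm, hq])))
    · exact Or.inr (Or.inl (Subtype.ext
        (Prod.ext (by simp [ha', hp, h, wm, zm]) (by simp [ha', hp, wm, zm, hq]))))
    · exact Or.inr (Or.inr (Subtype.ext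
        (Prod.ext (by simp [ha', hp, h, wm, zm]) (by simp [ha', hp, wm, zm, hq]))))
  have hconj : M.φ p * θ cw * (M.φ p)⁻¹ = M.φ a' := by rw [ha', map_mul, map_mul, map_inv, hm]
  have hcard : Nat.card (centralizer ({M.φ a'} : Set G)) = 180 := by
    rw [← hconj, card_centralizer_conj, hw180]
  have haw : a' = wm := by
    rcases hA with h | h | h
    · exact h
    · rw [h, map_mul, M.φ_zm, M.φ_wm, M.card_zw] at hcard
      norm_num at hcard
    · rw [h, map_mul, map_inv, M.φ_zm, M.φ_wm, ← card_centralizer_inv', mul_inv_rev, inv_inv,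
        (show Commute M.w⁻¹ M.z from (Commute.inv_left M.toDatum.zw_comm.symm)).eq, M.card_zw'] at hcard
      norm_num at hcard
  have h18 : Nat.card (centralizer ({θ cy} : Set G)) = 18 := by
    rw [← card_centralizer_conj (M.φ p), cy, map_mul, hz, ← conj_mul, hconj, haw,
      show M.φ p * M.z * (M.φ p)⁻¹ = M.z by
        rw [← M.φ_zm, ← map_mul, ← map_inv, ← map_mul]
        exact congrArg M.φ (Subtype.ext (Prod.ext (by simp [hp, zm]) (by simp [hp, zm]))),
      M.φ_wm, ← M.toDatum.zw_comm, M.card_zw]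
  have hle : (centralizer ({cy} : Set Alt8)).map θ ≤ centralizer ({θ cy} : Set G) := by
    rintro _ ⟨a, ha, rfl⟩
    rw [mem_centralizer_singleton_iff, ← map_mul, ← map_mul, mem_centralizer_singleton_iff.1 ha]
  rw [← eq_of_le_of_card_ge hle (by
    rw [card_map_of_injective hinj, h18]; exact le_card_cent_cy)]
  exact map_le_range _ _

theorem norm_V0_le {θ : Alt8 →* G} (hinj : Function.Injective θ) (hz : θ cz = M.z) :
    normalizer ((V0.map θ : Subgroup G) : Set G) ≤ θ.range := by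
  classical
  haveI : Fact (Nat.Prime 2) := ⟨Nat.prime_two⟩
  haveI : Fact (Nat.Prime 3) := ⟨Nat.prime_three⟩
  have hczle := M.cent_cz_le hinj hz
  set C := centralizer ({M.z} : Set G) with hC
  set U := V0.map θ with hU
  have hVC : U ≤ C := by
    rintro _ ⟨_, ⟨a, rfl⟩, rfl⟩
    rw [hC, mem_centralizer_singleton_iff, ← hz, ← map_mul, ← map_mul, cz_v4]
  -- conjugate the four group into `V`
  have hfac : (180).factorization 2 = 2 := by
    exact factorization_mul_pow Nat.prime_two 2 (m := 45) (by norm_num)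
  let Q₁ : Sylow 2 C := Sylow.ofCard (U.subgroupOf C) (by
    rw [Nat.card_congr (subgroupOfEquivOfLe hVC).toEquiv, hU, card_map_of_injective hinj, card_V0,
      hC, M.card_cent_z, hfac]; norm_num)
  let Q₂ : Sylow 2 C := Sylow.ofCard (M.toDatum.V.subgroupOf C) (by
    rw [Nat.card_congr (subgroupOfEquivOfLe M.toDatum.V_le).toEquiv, M.toDatum.card_V, hC,
      M.card_cent_z, hfac]; norm_num)
  obtain ⟨g, hg⟩ := MulAction.exists_smul_eq C Q₂ Q₁
  have hUV : U = M.toDatum.V.map (MulAut.conj (g : G)).toMonoidHom := by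
    have h1 : ((Q₁ : Subgroup C)).map C.subtype = U := by
      simp only [Q₁, Sylow.coe_ofCard]; exact map_subgroupOf_eq_of_le hVC
    rw [← h1, ← hg]
    ext x
    constructor
    · rintro ⟨_, ⟨y, hy, rfl⟩, rfl⟩
      exact ⟨y, by simpa [Q₂, mem_subgroupOf] using hy, by simp⟩
    · rintro ⟨y, hy, rfl⟩
      refine ⟨g * ⟨y, M.toDatum.V_le hy⟩ * g⁻¹, ⟨⟨y, M.toDatum.V_le hy⟩, ?_, by simp⟩, by simp⟩
      simpa [Q₂, mem_subgroupOf] using hy
  -- the centraliser of the four group
  have hCV : Nat.card (centralizer (M.toDatum.V : Set G)) ≤ 48 := by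
    have hEn : zpowers M.z ≤ normalizer (M.E : Set G) := by
      rw [zpowers_le]
      have hE : ∀ x ∈ M.E, M.z * x * M.z⁻¹ ∈ M.E := by
        intro x hx
        obtain ⟨a, ha, b, hb, rfl⟩ := M.mem_E.1 hx
        rw [← conj_mul, show M.z * a * M.z⁻¹ = a by rw [M.toDatum.z_comm_V a ha]; group]
        exact mul_mem (mem_sup_left ha) (mem_sup_right (M.toDatum.swap.w_norm_V b hb))
      exact CfsgLib.CoprimeAction.mem_normalizer_of_conj_mem hE
    rw [show (M.toDatum.V : Set G) = ((vm.map M.φ : Subgroup G) : Set G) from rfl, M.centV]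
    show Nat.card ↥(M.E ⊔ zpowers M.z : Subgroup G) ≤ 48
    have hdvd : Nat.card ↥(M.E ⊔ zpowers M.z : Subgroup G) ≤ Nat.card M.E * Nat.card (zpowers M.z) := by
      have hco := coe_mul_of_right_le_normalizer_left M.E (zpowers M.z) hEn
      rw [← Nat.card_prod]
      refine Nat.card_le_card_of_surjective
        (fun p : M.E × zpowers M.z => (⟨p.1 * p.2, mul_mem (mem_sup_left p.1.2)
          (mem_sup_right p.2.2)⟩ : ↥(M.E ⊔ zpowers M.z : Subgroup G))) ?_
      rintro ⟨x, hx⟩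
      rw [← SetLike.mem_coe, hco] at hx
      obtain ⟨a, ha, b, hb, hab⟩ := Set.mem_mul.1 hx
      exact ⟨(⟨a, ha⟩, ⟨b, hb⟩), Subtype.ext hab⟩
    rw [M.card_E, Nat.card_zpowers, M.toDatum.orderOf_z] at hdvd
    exact hdvd
  have hCU : Nat.card (centralizer (U : Set G)) ≤ 48 := by
    refine le_trans (le_of_eq ?_) hCV
    rw [← card_map_of_injective (K := centralizer (M.toDatum.V : Set G))
      (f := (MulAut.conj (g : G)).toMonoidHom) (MulAut.conj (g : G)).injective]
    congr 2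
    rw [hUV]
    ext x
    rw [mem_map_equiv, mem_centralizer_iff, mem_centralizer_iff]
    constructor
    · intro h y hy
      have := h _ ⟨y, hy, rfl⟩
      simp only [MulEquiv.coe_toMonoidHom, MulAut.conj_apply] at this
      rw [MulAut.conj_symm_apply]
      calc y * ((g : G)⁻¹ * x * g) = (g : G)⁻¹ * ((g : G) * y * (g : G)⁻¹ * x) * g := by group
        _ = (g : G)⁻¹ * (x * ((g : G) * y * (g : G)⁻¹)) * g := by rw [this]
        _ = _ := by group
    · rintro h _ ⟨y, hy, rfl⟩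
      have := h y hy
      rw [MulAut.conj_symm_apply] at this
      show (g : G) * y * (g : G)⁻¹ * x = x * ((g : G) * y * (g : G)⁻¹)
      calc (g : G) * y * (g : G)⁻¹ * x = g * (y * ((g : G)⁻¹ * x * g)) * (g : G)⁻¹ := by group
        _ = g * ((g : G)⁻¹ * x * g * y) * (g : G)⁻¹ := by rw [this]
        _ = _ := by group
  set K := E0 ⊔ zpowers cz with hK
  have hK48 : 48 ≤ Nat.card K := by
    refine Nat.le_of_dvd Nat.card_pos ?_
    rw [show 48 = 16 * 3 by norm_num]
    refine Nat.Coprime.mul_dvd_of_dvd_of_dvd (by norm_num) (card_E0 ▸ card_dvd_of_le le_sup_left) ?_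
    have : Nat.card (zpowers cz) = 3 := by
      rw [Nat.card_zpowers]; exact orderOf_eq_prime cz_pow (by decide)
    exact this ▸ card_dvd_of_le le_sup_right
  have hKC : K.map θ ≤ centralizer (U : Set G) := by
    rw [hK, Subgroup.map_sup, sup_le_iff]
    constructor
    · rintro _ ⟨e, he, rfl⟩
      refine mem_centralizer_iff.2 ?_
      rintro _ ⟨v, hv, rfl⟩
      rw [← map_mul, ← map_mul, E0_comm he (V0_le hv)]
    · rw [MonoidHom.map_zpowers, zpowers_le, mem_centralizer_iff]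
      rintro _ ⟨_, ⟨a, rfl⟩, rfl⟩
      rw [← map_mul, ← map_mul, cz_v4]
  have hCUeq : K.map θ = centralizer (U : Set G) :=
    eq_of_le_of_card_ge hKC (hCU.trans (by rw [card_map_of_injective hinj]; exact hK48))
  have hCUle : centralizer (U : Set G) ≤ θ.range := hCUeq ▸ map_le_range _ _
  have hcard : Nat.card (centralizer (U : Set G)) = 48 :=
    le_antisymm hCU (by rw [← hCUeq, card_map_of_injective hinj]; exact hK48)
  -- the normaliser
  intro n hn
  set C' := centralizer (U : Set G)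
  have hzC : M.z ∈ C' := hKC ⟨cz, mem_sup_right (mem_zpowers _), hz⟩
  have hnz : n * M.z * n⁻¹ ∈ C' := by
    refine mem_centralizer_iff.2 fun u hu => ?_
    have h := mem_centralizer_iff.1 hzC _ ((mem_normalizer_iff''.1 hn u).1 hu)
    calc u * (n * M.z * n⁻¹) = n * (n⁻¹ * u * n * M.z) * n⁻¹ := by group
      _ = n * (M.z * (n⁻¹ * u * n)) * n⁻¹ := by rw [h]
      _ = _ := by group
  have hsyl : ∀ x : G, x ∈ C' → orderOf x = 3 → ∃ P : Sylow 3 C',
      (P : Subgroup C') = (zpowers x).subgroupOf C' := fun x hx ho =>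
    ⟨Sylow.ofCard ((zpowers x).subgroupOf C') (by
      rw [Nat.card_congr (subgroupOfEquivOfLe (zpowers_le.2 hx)).toEquiv, Nat.card_zpowers, ho,
        hcard]
      have h48 : Nat.factorization 48 3 = 1 :=
        factorization_mul_pow Nat.prime_three 1 (m := 16) (by norm_num)
      rw [h48, pow_one]), rfl⟩
  obtain ⟨P₁, hP₁⟩ := hsyl _ hzC M.toDatum.orderOf_z
  obtain ⟨P₂, hP₂⟩ := hsyl _ hnz (by rw [CfsgLib.Involutions.orderOf_conj, M.toDatum.orderOf_z])
  obtain ⟨c, hc⟩ := MulAction.exists_smul_eq C' P₂ P₁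
  have hmem : (c : G) * (n * M.z * n⁻¹) * (c : G)⁻¹ ∈ zpowers M.z := by
    have h : c * ⟨_, hnz⟩ * c⁻¹ ∈ (P₁ : Subgroup C') := by
      rw [← hc]
      exact ⟨⟨_, hnz⟩, by rw [SetLike.mem_coe, hP₂, mem_subgroupOf]; exact mem_zpowers _, rfl⟩
    rw [hP₁, mem_subgroupOf] at h
    simpa using h
  have hcn : (c : G) * n ∈ θ.range := by
    have hN : (c : G) * n ∈ normalizer (zpowers M.z : Set G) := by
      refine mem_normalizer_zpowers' ?_
      convert hmem using 1
      group
    rw [← M.φ_range] at hN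
    obtain ⟨m, hm⟩ := hN
    rcases Int.units_eq_one_or (Perm.sign m.1.1) with h | h
    · rw [← hz] at hC
      refine hczle (hz ▸ ?_)
      rw [← hm, M.cent_z_eq]
      refine ⟨m, mem_centralizer_singleton_iff.2 (Subtype.ext (Prod.ext
        (mul_inv_eq_iff_eq_mul.1 (perm3_even_central _ h)) (by simp [zm]))), rfl⟩
    · set k : Alt8 := ⟨Equiv.swap 5 6 * Equiv.swap 0 1, by
        rw [Equiv.Perm.mem_alternatingGroup]; decide⟩ with hk
      have hkz : θ k * M.z * (θ k)⁻¹ = M.z⁻¹ := by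
        rw [← hz, ← map_inv, ← map_inv, ← map_mul, ← map_mul]
        exact congrArg θ (by rw [hk]; decide)
      have hmz : ((c : G) * n) * M.z * ((c : G) * n)⁻¹ = M.z⁻¹ := by
        rw [← hm, ← M.φ_zm, ← map_inv, ← map_inv, ← map_mul, ← map_mul]
        exact congrArg M.φ (Subtype.ext (Prod.ext (perm3_invol_inverts _ h) (by simp [zm])))
      have h2 : θ k * ((c : G) * n) ∈ θ.range := by
        refine hczle (hz ▸ mem_centralizer_singleton_iff.2 ?_)
        calc θ k * ((c : G) * n) * M.z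
            = θ k * (((c : G) * n) * M.z * ((c : G) * n)⁻¹) * (θ k)⁻¹ * (θ k * ((c : G) * n)) := by
              group
          _ = (θ k * M.z * (θ k)⁻¹)⁻¹ * (θ k * ((c : G) * n)) := by rw [hmz]; group
          _ = _ := by rw [hkz, inv_inv]
      simpa using mul_mem (inv_mem (⟨k, rfl⟩ : θ k ∈ θ.range)) h2
  simpa using mul_mem (inv_mem (hCUle c.2)) hcn

theorem norm_E0_le {θ : Alt8 →* G} (hinj : Function.Injective θ) (hz : θ cz = M.z) :
    normalizer ((E0.map θ : Subgroup G) : Set G) ≤ θ.range := by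
  classical
  intro n hn
  have hcy := M.cent_cy_le hinj hz
  have hnt : ∀ a, a ≠ 0 → ∀ x ∈ E0, n * θ (v4 a) * n⁻¹ = θ x →
      ¬ (x : Perm (Fin 8)).support.card = 8 := by
    intro a ha x hx he hsupp
    have hx2 := E0_sq hx
    have hx1 : x ≠ 1 := fun h => by rw [h] at hsupp; simp at hsupp
    obtain ⟨k, hk⟩ := isConj_of_prime Nat.prime_two hx2 hx1 t0_sq (by decide)
      (hsupp.trans (by decide)) (τ := Equiv.swap 0 1) (by decide) (by decide)
    set g := θ k * n with hg
    have hgt : g * θ (v4 a) * g⁻¹ = θ t0 := by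
      rw [← hk, map_mul, map_mul, map_inv, ← he, hg]; group
    have hZ : g * M.z * g⁻¹ * θ t0 = θ t0 * (g * M.z * g⁻¹) := by
      rw [← hgt, conj_mul, conj_mul, ← hz, ← map_mul, ← map_mul, cz_v4]
    have ht1 : θ t0 ≠ 1 := fun h => absurd (hinj (h.trans θ.map_one.symm)) (by decide)
    have ht2 : θ t0 * θ t0 = 1 := by rw [← map_mul, ← map_one θ, ← pow_two, t0_sq]
    obtain ⟨c, -, -, hc⟩ := M.toDatum.conj_in_cent (H := ⊤) ht2 ht1 (mem_top (g * M.z * g⁻¹))
      (mem_top (θ cy1)) hZ (by rw [← map_mul, ← map_mul, cy1_facts.2.2.1])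
      (by rw [conj_pow, M.toDatum.z_cube, mul_one, mul_inv_cancel])
      (by rw [← map_pow, cy1_facts.1, map_one])
      (fun h => M.toDatum.z_ne (conj_eq_one_iff.1 h))
      (fun h => cy1_facts.2.1 (hinj (h.trans θ.map_one.symm)))
    have hcard : Nat.card (centralizer ({θ cy1} : Set G)) = 180 := by
      rcases hc with h | h
      · rw [← h, card_centralizer_conj, card_centralizer_conj, M.card_cent_z]
      · rw [← card_centralizer_inv', ← h, card_centralizer_conj, card_centralizer_conj, M.card_cent_z]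
    obtain ⟨b, hb⟩ := exists_conj_cy1
    rw [← hb, map_mul, map_mul, map_inv, card_centralizer_conj, card_centralizer_of_le hinj hcy]
      at hcard
    have h36 := card_centralizer_cy
    rw [hcard] at h36
    norm_num at h36
  -- images of the nontrivial elements of the four group
  have himg : ∀ a, a ≠ 0 → ∃ c d, (c = 0 ∨ d = 0) ∧ n * θ (v4 a) * n⁻¹ = θ (v4 c * u4 d) := by
    intro a ha
    obtain ⟨x, hx, he⟩ : n * θ (v4 a) * n⁻¹ ∈ E0.map θ :=
      (mem_normalizer_iff.1 hn _).1 ⟨_, V0_le ⟨a, rfl⟩, rfl⟩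
    obtain ⟨c, d, rfl⟩ := mem_E0.1 hx
    refine ⟨c, d, ?_, he.symm⟩
    have hne : v4 c * u4 d ≠ 1 := fun h => by
      rw [h, map_one] at he
      have h1 := hinj ((conj_eq_one_iff.1 he.symm).trans θ.map_one.symm)
      have : ∀ a : Fin 4, v4 a = 1 → a = 0 := by decide
      exact ha (this a h1)
    rcases E0_mixed c d hne with h | h | h
    · exact Or.inl h
    · exact Or.inr h
    · exact absurd h (hnt a ha _ hx he.symm)
  obtain ⟨c₁, d₁, h₁, e₁⟩ := himg 1 (by decide)
  obtain ⟨c₂, d₂, h₂, e₂⟩ := himg 2 (by decide)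
  obtain ⟨c₃, d₃, h₃, e₃⟩ := himg 3 (by decide)
  have hprod : v4 c₁ * u4 d₁ * (v4 c₂ * u4 d₂) = v4 c₃ * u4 d₃ := hinj (by
    rw [map_mul, ← e₁, ← e₂, ← e₃, conj_mul, ← map_mul]
    exact congrArg (fun y => n * θ y * n⁻¹) (show v4 1 * v4 2 = v4 3 by decide))
  have hne : ∀ a c d, a ≠ 0 → n * θ (v4 a) * n⁻¹ = θ (v4 c * u4 d) → ¬ (c = 0 ∧ d = 0) := by
    rintro a c d ha he ⟨rfl, rfl⟩
    rw [show v4 0 * u4 0 = (1 : Alt8) from rfl, map_one, conj_eq_one_iff] at he
    have h1 := hinj (he.trans θ.map_one.symm)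
    have : ∀ a : Fin 4, v4 a = 1 → a = 0 := by decide
    exact ha (this a h1)
  have key : ∀ c₁ d₁ c₂ d₂ c₃ d₃ : Fin 4, (c₁ = 0 ∨ d₁ = 0) → (c₂ = 0 ∨ d₂ = 0) →
      (c₃ = 0 ∨ d₃ = 0) → ¬ (c₁ = 0 ∧ d₁ = 0) → ¬ (c₂ = 0 ∧ d₂ = 0) →
      c₃ = add4 c₁ c₂ → d₃ = add4 d₁ d₂ →
      (d₁ = 0 ∧ d₂ = 0) ∨ (c₁ = 0 ∧ c₂ = 0) := by decide
  have hadd : c₃ = add4 c₁ c₂ ∧ d₃ = add4 d₁ d₂ := by
    rw [e0_mul] at hprod
    have hinj' : Function.Injective fun p : Fin 4 × Fin 4 => v4 p.1 * u4 p.2 := by decide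
    have := @hinj' (add4 c₁ c₂, add4 d₁ d₂) (c₃, d₃) hprod
    exact ⟨(congrArg Prod.fst this).symm, (congrArg Prod.snd this).symm⟩
  have hnorm : ∀ g : G, (∀ a, a ≠ 0 → ∃ b, g * θ (v4 a) * g⁻¹ = θ (v4 b)) →
      g ∈ normalizer ((V0.map θ : Subgroup G) : Set G) := by
    intro g hg
    refine CfsgLib.CoprimeAction.mem_normalizer_of_conj_mem ?_
    rintro _ ⟨_, ⟨a, rfl⟩, rfl⟩
    by_cases ha : a = 0
    · rw [ha, show v4 0 = (1 : Alt8) from rfl, map_one, mul_one, mul_inv_cancel]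
      exact one_mem _
    · obtain ⟨b, hb⟩ := hg a ha
      rw [hb]; exact ⟨_, ⟨b, rfl⟩, rfl⟩
  rcases key _ _ _ _ _ _ h₁ h₂ h₃ (hne 1 _ _ (by decide) e₁) (hne 2 _ _ (by decide) e₂) hadd.1
    hadd.2 with ⟨rfl, rfl⟩ | ⟨rfl, rfl⟩
  · have hd₃ : d₃ = 0 := hadd.2.trans (by decide)
    subst hd₃
    refine M.norm_V0_le hinj hz (hnorm n fun a ha => ?_)
    rcases (show a = 1 ∨ a = 2 ∨ a = 3 by revert ha; revert a; decide) with rfl | rfl | rfl
    · exact ⟨c₁, e₁.trans (congrArg θ (mul_one _))⟩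
    · exact ⟨c₂, e₂.trans (congrArg θ (mul_one _))⟩
    · exact ⟨c₃, e₃.trans (congrArg θ (mul_one _))⟩
  · have hc₃ : c₃ = 0 := hadd.1.trans (by decide)
    subst hc₃
    have h' : θ aw * n ∈ θ.range := by
      refine M.norm_V0_le hinj hz (hnorm _ fun a ha => ?_)
      obtain ⟨d, hd⟩ : ∃ d, n * θ (v4 a) * n⁻¹ = θ (u4 d) := by
        rcases (show a = 1 ∨ a = 2 ∨ a = 3 by revert ha; revert a; decide) with rfl | rfl | rfl
        · exact ⟨d₁, e₁.trans (congrArg θ (one_mul _))⟩
        · exact ⟨d₂, e₂.trans (congrArg θ (one_mul _))⟩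
        · exact ⟨d₃, e₃.trans (congrArg θ (one_mul _))⟩
      obtain ⟨b, hb⟩ := aw_u4 d
      refine ⟨b, ?_⟩
      rw [← hb, map_mul, map_mul, map_inv, ← hd]; group
    simpa using mul_mem (inv_mem (⟨aw, rfl⟩ : θ aw ∈ θ.range)) h'

include M in
/-- The paired data give an embedded alternating group of degree eight. -/
theorem exists_emb : ∃ θ : Alt8 →* G, Emb θ := by
  obtain ⟨θ, hinj, hz⟩ := M.exists_hom
  exact ⟨θ, Emb.mk' hinj (M.cent_cz_le hinj hz) (M.cent_cy_le hinj hz) (M.norm_V0_le hinj hz)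
    (M.norm_E0_le hinj hz)⟩

end Paired

end CfsgLib.AEightThreeLocal
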