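import Cfsg.Agent.Lib.AEightThreeLocal.FinishA
import Cfsg.Agent.Lib.Involutions.BrauerSuzuki

/-!
The centraliser of an involution with support of size four: modulo that involution, the other
involutions of its four group are isolated, so Glauberman's theorem reduces it to the normaliser
of the four group.
-/

set_option autoImplicit false
set_option maxRecDepth 100000
set_option linter.style.haveILetI false
set_option linter.unusedSectionVars false

namespace CfsgLib.AEightThreeLocal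

open Subgroup Cfsg

universe u

theorem v4_two_facts : v4 3 = v4 2 * s0 ∧ v4 2 * s0 = s0 * v4 2 ∧ v4 2 ≠ 1 ∧ v4 2 ≠ s0 ∧
    v4 2 * v4 2 = 1 ∧ aq * s0 = s0 * aq ∧ aq ≠ 1 ∧ aw * s0 ≠ s0 * aw := by decide

theorem v4_conj_s0 {a : Fin 4} (ha : a ≠ 0) : ∃ g : Alt8, g * v4 a * g⁻¹ = s0 :=
  isConj_of_prime Nat.prime_two (by revert a; decide) (by revert a; decide) s0_sq (by decide)
    (by revert a; decide) (τ := Equiv.swap 4 5) (by decide) (by decide)

/-- The Sylow subgroup of the centraliser of `s0`. -/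
def S0 : Subgroup Alt8 := T0 ⊓ centralizer ({s0} : Set Alt8)

theorem mem_S0 {x : Alt8} : x ∈ S0 ↔ x ∈ T0 ∧ x * s0 = s0 * x := by
  rw [S0, mem_inf, mem_centralizer_singleton_iff]

theorem E0_le_S0 : E0 ≤ S0 := fun x hx => mem_S0.2 ⟨E0_le_T0 hx, E0_comm hx s0_mem_E0⟩

theorem card_S0 : Nat.card S0 = 32 := by
  have h16 : 16 ∣ Nat.card S0 := card_E0 ▸ card_dvd_of_le E0_le_S0
  have h64 : Nat.card S0 ∣ 64 := card_T0 ▸ card_dvd_of_le (inf_le_left : S0 ≤ T0)
  have hne64 : Nat.card S0 ≠ 64 := fun h => by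
    have e : S0 = T0 := eq_of_le_of_card_ge (inf_le_left : S0 ≤ T0) (by rw [h, card_T0])
    have haw : aw ∈ T0 := mem_T0.2 ⟨1, one_mem _, 2, by decide⟩
    exact v4_two_facts.2.2.2.2.2.2.2 (mem_S0.1 (e ▸ haw)).2
  have hne16 : Nat.card S0 ≠ 16 := fun h => by
    have e : E0 = S0 := eq_of_le_of_card_ge E0_le_S0 (by rw [h, card_E0])
    have haq : aq ∈ S0 := mem_S0.2 ⟨mem_T0.2 ⟨1, one_mem _, 1, by decide⟩, v4_two_facts.2.2.2.2.2.1⟩
    rw [← e] at haq
    obtain ⟨a, b, hab⟩ := mem_E0.1 haq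
    have key : ∀ a b, v4 a * u4 b ≠ aq := by decide
    exact key a b hab
  obtain ⟨k, hk⟩ := h16
  rw [hk] at h64 hne64 hne16 ⊢
  have h4 : k ∣ 4 := Nat.dvd_of_mul_dvd_mul_left (by norm_num : 0 < 16) h64
  have := Nat.le_of_dvd (by norm_num) h4
  interval_cases k <;> simp_all

variable {G : Type u} [Group G] [Finite G]

namespace Emb

variable {θ : Alt8 →* G} (hθ : Emb θ)
include hθ

theorem mem_cent_map {a x : Alt8} : θ x ∈ centralizer ({θ a} : Set G) ↔ x * a = a * x := by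
  rw [mem_centralizer_singleton_iff, ← map_mul, ← map_mul]
  exact hθ.inj.eq_iff

theorem card_cent_s0_t0 :
    centralizer ({s0} : Set Alt8) ⊓ centralizer ({t0} : Set Alt8) = S0 := by
  set H := centralizer ({s0} : Set Alt8) ⊓ centralizer ({t0} : Set Alt8) with hH
  have hle : S0 ≤ H := fun x hx => by
    rw [hH, mem_inf, mem_centralizer_singleton_iff, mem_centralizer_singleton_iff]
    exact ⟨(mem_S0.1 hx).2, t0_comm_T0 (mem_S0.1 hx).1⟩
  haveI : Fact (Nat.Prime 3) := ⟨Nat.prime_three⟩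
  have h3 : ¬ 3 ∣ Nat.card H := by
    intro h
    obtain ⟨x, hx⟩ := exists_prime_orderOf_dvd_card' (G := H) 3 h
    have hx3 : (x : Alt8) ^ 3 = 1 := by rw [← hx, ← Subgroup.orderOf_coe, pow_orderOf_eq_one]
    have hx' : (x : Alt8) * s0 = s0 * x ∧ (x : Alt8) * t0 = t0 * x :=
      ⟨mem_centralizer_singleton_iff.1 x.2.1, mem_centralizer_singleton_iff.1 x.2.2⟩
    have := cent_s0_t0_three hx'.1 hx'.2 hx3
    rw [← Subgroup.orderOf_coe, this, orderOf_one] at hx
    norm_num at hx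
  have h192 : Nat.card H ∣ 192 :=
    (card_dvd_of_le (inf_le_left : H ≤ centralizer ({s0} : Set Alt8))).trans card_centralizer_s0
  have h64 : Nat.card H ∣ 64 := by
    have hcop : (Nat.card H).Coprime 3 :=
      ((Nat.prime_three.coprime_iff_not_dvd).2 h3).symm
    exact hcop.dvd_of_dvd_mul_right (show Nat.card H ∣ 64 * 3 by norm_num; exact h192)
  have hne : Nat.card H ≠ 64 := fun h => by
    refine hθ.not_dvd_64_s0 ?_
    rw [← h, ← hθ.map_card]
    refine card_dvd_of_le ?_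
    rintro _ ⟨x, hx, rfl⟩
    rw [hθ.mem_cent_map]
    exact mem_centralizer_singleton_iff.1 hx.1
  refine (eq_of_le_of_card_ge hle ?_).symm
  have h32 : 32 ∣ Nat.card H := card_S0 ▸ card_dvd_of_le hle
  obtain ⟨k, hk⟩ := h32
  rw [hk] at h64 hne ⊢
  have h2 : k ∣ 2 := Nat.dvd_of_mul_dvd_mul_left (by norm_num : 0 < 32) h64
  have := Nat.le_of_dvd (by norm_num) h2
  rw [card_S0]
  interval_cases k <;> omega

/-- Fusion of `v4 2` inside the centraliser of `s0`. -/
theorem conj_v4_two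
    (ht : ∃ O : Subgroup G, O ≤ centralizer ({θ t0} : Set G) ∧
      centralizer ({θ t0} : Set G) ≤ normalizer (O : Set G) ∧ (Nat.card O).Coprime 6 ∧
      ∀ g ∈ centralizer ({θ t0} : Set G), ∃ o ∈ O, ∃ h ∈ θ.range, g = o * h)
    {g : G} (hg : g * θ s0 = θ s0 * g) {m : Alt8} (hm : m ∈ S0)
    (h : g * θ (v4 2) * g⁻¹ = θ m) : m = v4 2 ∨ m = v4 3 := by
  have hgs : g * θ s0 * g⁻¹ = θ s0 := by rw [hg, mul_inv_cancel_right]
  have h' : g * θ (v4 3) * g⁻¹ = θ (m * s0) := by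
    rw [v4_two_facts.1, map_mul, map_mul]
    calc g * (θ (v4 2) * θ s0) * g⁻¹ = (g * θ (v4 2) * g⁻¹) * (g * θ s0 * g⁻¹) := by group
      _ = _ := by rw [h, hgs]
  have hsmall : ∀ (a : Fin 4), a ≠ 0 → ∀ x : Alt8, g * θ (v4 a) * g⁻¹ = θ x →
      (x : Equiv.Perm (Fin 8)).support.card = 4 := by
    intro a ha x hx
    have hv2 : v4 a ^ 2 = 1 := by rw [pow_two, v4_mul, add4_self]; rfl
    have hv1 : v4 a ≠ 1 := (by decide : ∀ a : Fin 4, a ≠ 0 → v4 a ≠ 1) a ha
    have hx2 : x ^ 2 = 1 := by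
      apply hθ.inj
      rw [map_pow, ← hx, map_one, conj_pow, ← map_pow, hv2, map_one]
      group
    have hx1 : x ≠ 1 := by
      rintro rfl
      rw [map_one] at hx
      exact hv1 (hθ.inj ((conj_eq_one_iff.1 hx).trans (map_one θ).symm))
    refine (two_not_conj_small hx2 hx1).resolve_right ?_
    rintro ⟨c, hc⟩
    obtain ⟨d, hd⟩ := v4_conj_s0 ha
    refine hθ.st ?_
    have e1 : IsConj (θ (v4 a)) (θ s0) :=
      isConj_iff.2 ⟨θ d, by rw [← map_inv, ← map_mul, ← map_mul, hd]⟩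
    have e2 : IsConj (θ (v4 a)) (θ x) := isConj_iff.2 ⟨g, hx⟩
    have e3 : IsConj (θ x) (θ t0) :=
      isConj_iff.2 ⟨θ c, by rw [← map_inv, ← map_mul, ← map_mul, hc]⟩
    exact (e1.symm.trans e2).trans e3
  by_cases hmE : m ∈ E0
  · exact E0_small hmE (hsmall 2 (by decide) m h) (hsmall 3 (by decide) _ h')
  exfalso
  obtain ⟨hmT, hms⟩ := mem_S0.1 hm
  set F : Subgroup G := (E0.map θ).map (MulAut.conj g).toMonoidHom with hF
  have hFmem : ∀ e ∈ E0, g * θ e * g⁻¹ ∈ F := fun e he => ⟨θ e, ⟨e, he, rfl⟩, rfl⟩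
  have hmF : θ m ∈ F := h ▸ hFmem _ (V0_le ⟨2, rfl⟩)
  have hsF : θ s0 ∈ F := by
    have := hFmem _ s0_mem_E0
    rwa [hgs] at this
  have hFcomm : ∀ x ∈ F, ∀ y ∈ F, x * y = y * x := by
    rintro _ ⟨_, ⟨a, ha, rfl⟩, rfl⟩ _ ⟨_, ⟨b, hb, rfl⟩, rfl⟩
    rw [← map_mul, ← map_mul, ← map_mul, ← map_mul, E0_comm ha hb]
  have hFsq : ∀ x ∈ F, x * x = 1 := by
    rintro _ ⟨_, ⟨a, ha, rfl⟩, rfl⟩
    rw [← map_mul, ← map_mul, ← pow_two, E0_sq ha, map_one, map_one]
  -- involutions of `θ E0` commuting with `θ m` lie in `F`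
  have hkey : ∀ e ∈ E0, e * m = m * e → θ e ∈ F := by
    intro e he hem
    set y : G := g⁻¹ * θ e * g with hy
    have hy1 : y * θ s0 = θ s0 * y := by
      have he' : θ e * θ s0 = θ s0 * θ e := by rw [← map_mul, ← map_mul, E0_comm he s0_mem_E0]
      calc y * θ s0 = g⁻¹ * θ e * (g * θ s0) := by rw [hy]; group
        _ = g⁻¹ * (θ e * θ s0) * g := by rw [hg]; group
        _ = g⁻¹ * (θ s0 * θ e) * g := by rw [he']
        _ = g⁻¹ * (θ s0 * g) * (g⁻¹ * θ e * g) := by group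
        _ = g⁻¹ * (g * θ s0) * (g⁻¹ * θ e * g) := by rw [hg]
        _ = _ := by rw [hy]; group
    have hy2 : y * θ (v4 2) = θ (v4 2) * y := by
      have he' : θ e * θ m = θ m * θ e := by rw [← map_mul, ← map_mul, hem]
      have hv : θ (v4 2) = g⁻¹ * θ m * g := by rw [← h]; group
      rw [hv, hy]
      calc g⁻¹ * θ e * g * (g⁻¹ * θ m * g) = g⁻¹ * (θ e * θ m) * g := by group
        _ = g⁻¹ * (θ m * θ e) * g := by rw [he']
        _ = _ := by group
    have hyV : y ∈ centralizer ((V0.map θ : Subgroup G) : Set G) := by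
      rw [mem_centralizer_iff]
      rintro _ ⟨x, hx, rfl⟩
      obtain ⟨a, rfl⟩ := hx
      fin_cases a
      · show θ 1 * y = y * θ 1
        rw [map_one, one_mul, mul_one]
      · exact hy1.symm
      · exact hy2.symm
      · show θ (v4 3) * y = y * θ (v4 3)
        rw [v4_two_facts.1, map_mul, mul_assoc, ← hy1, ← mul_assoc, ← hy2, mul_assoc]
    obtain ⟨y', hy'⟩ := hθ.V (centralizer_le_normalizer _ hyV)
    have hyE : y' ∈ E0 := by
      refine invol_centV (hθ.inj ?_) (hθ.inj ?_) (hθ.inj ?_)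
      · rw [map_mul, map_mul, hy', s0_v4]; exact hy1
      · rw [map_mul, map_mul, hy']; exact hy2
      · rw [map_mul, hy', map_one, hy]
        calc g⁻¹ * θ e * g * (g⁻¹ * θ e * g) = g⁻¹ * θ (e * e) * g := by rw [map_mul]; group
          _ = 1 := by rw [← pow_two, E0_sq he, map_one]; group
    have := hFmem _ hyE
    rwa [hy', hy, show g * (g⁻¹ * θ e * g) * g⁻¹ = θ e by group] at this
  have htF : θ t0 ∈ F := hkey _ t0_mem_E0 (t0_comm_T0 hmT).symm
  have hFC : F ≤ centralizer ({θ t0} : Set G) := fun x hx =>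
    mem_centralizer_singleton_iff.2 (hFcomm x hx _ htF)
  obtain ⟨O, hOC, hON, hO6, hdec⟩ := ht
  -- `O` meets the embedded group trivially
  have hOtriv : ∀ a : Alt8, θ a ∈ O → a = 1 := by
    intro a ha
    have h1 : Nat.card (O.comap θ) ∣ Nat.card (centralizer ({t0} : Set Alt8)) := by
      refine card_dvd_of_le fun x hx => mem_centralizer_singleton_iff.2 ?_
      exact hθ.mem_cent_map.1 (hOC hx)
    have h2 : Nat.card (O.comap θ) ∣ Nat.card O := by
      rw [← hθ.map_card]; exact card_dvd_of_le (map_comap_le _ _)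
    have h3 := eq_one_of_coprime_six (hO6.coprime_dvd_left h2) card_centralizer_t0 h1
    have h4 : a ∈ O.comap θ := ha
    rwa [Subgroup.eq_bot_of_card_eq _ h3, mem_bot] at h4
  have hex : ∀ x : F, ∃ a : Alt8, (x : G) * (θ a)⁻¹ ∈ O := by
    intro x
    obtain ⟨o, ho, _, ⟨a, rfl⟩, he⟩ := hdec _ (hFC x.2)
    exact ⟨a, by rw [he, mul_inv_cancel_right]; exact ho⟩
  choose φ hφ using hex
  have hθC : ∀ x : F, θ (φ x) ∈ centralizer ({θ t0} : Set G) := fun x => by
    have := mul_mem (inv_mem (hOC (hφ x))) (hFC x.2)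
    rwa [show ((x : G) * (θ (φ x))⁻¹)⁻¹ * x = θ (φ x) by group] at this
  have huniq : ∀ (x : F) (a : Alt8), (x : G) * (θ a)⁻¹ ∈ O → φ x = a := by
    intro x a ha
    have := mul_mem (inv_mem (hφ x)) ha
    rw [show ((x : G) * (θ (φ x))⁻¹)⁻¹ * ((x : G) * (θ a)⁻¹) = θ (φ x) * (θ a)⁻¹ by group,
      ← map_inv, ← map_mul] at this
    exact mul_inv_eq_one.1 (hOtriv _ this)
  let Φ : F →* Alt8 := MonoidHom.mk' φ (fun x y => huniq _ _ (by
    have h1 : θ (φ x) * ((y : G) * (θ (φ y))⁻¹) * (θ (φ x))⁻¹ ∈ O :=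
      (mem_normalizer_iff.1 (hON (hθC x)) _).1 (hφ y)
    have h2 := mul_mem (hφ x) h1
    rw [map_mul]
    convert h2 using 1
    push_cast
    group))
  have hΦinj : Function.Injective Φ := (injective_iff_map_eq_one Φ).2 fun x hx => by
    have h1 := hφ x
    change φ x = 1 at hx
    rw [hx, map_one, inv_one, mul_one] at h1
    have ho : orderOf (⟨(x : G), h1⟩ : O) ∣ 2 := orderOf_dvd_of_pow_eq_one
      (Subtype.ext (by rw [pow_two]; exact hFsq _ x.2))
    have h6 : (Nat.card O).Coprime 2 := hO6.coprime_dvd_right (by norm_num)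
    have := Nat.eq_one_of_dvd_coprimes h6 (orderOf_dvd_natCard _) ho
    have h7 : (⟨(x : G), h1⟩ : O) = 1 := orderOf_eq_one_iff.1 this
    have h8 : (x : G) = 1 := congrArg Subtype.val h7
    exact Subtype.ext h8
  have hfix : ∀ (a : Alt8) (ha : θ a ∈ F), a ∈ Φ.range := fun a ha =>
    ⟨⟨θ a, ha⟩, huniq _ _ (by rw [mul_inv_cancel]; exact one_mem _)⟩
  set A : Subgroup Alt8 := Φ.range with hA
  have hAcomm : ∀ a ∈ A, ∀ b ∈ A, a * b = b * a := by
    rintro _ ⟨x, rfl⟩ _ ⟨y, rfl⟩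
    rw [← map_mul, ← map_mul, show x * y = y * x from Subtype.ext (hFcomm _ x.2 _ y.2)]
  have hAsq : ∀ a ∈ A, a * a = 1 := by
    rintro _ ⟨x, rfl⟩
    rw [← map_mul, show x * x = 1 from Subtype.ext (hFsq _ x.2), map_one]
  have hAT : A ≤ T0 := by
    intro a ha
    have hmem : a ∈ centralizer ({s0} : Set Alt8) ⊓ centralizer ({t0} : Set Alt8) := by
      rw [mem_inf, mem_centralizer_singleton_iff, mem_centralizer_singleton_iff]
      exact ⟨hAcomm _ ha _ (hfix _ hsF), hAcomm _ ha _ (hfix _ htF)⟩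
    rw [hθ.card_cent_s0_t0] at hmem
    exact (mem_S0.1 hmem).1
  have hAcard : Nat.card A = 16 := by
    rw [hA, ← Nat.card_congr (MonoidHom.ofInjective hΦinj).toEquiv, hF,
      card_map_of_injective (MulAut.conj g).injective, hθ.map_card, card_E0]
  exact hmE (eq_E0 hAT hAsq hAcard ▸ hfix _ hmF)

/-- The factorisation of the centraliser of `θ s0` through its odd core. -/
theorem prod_s0
    (ht : ∃ O : Subgroup G, O ≤ centralizer ({θ t0} : Set G) ∧
      centralizer ({θ t0} : Set G) ≤ normalizer (O : Set G) ∧ (Nat.card O).Coprime 6 ∧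
      ∀ g ∈ centralizer ({θ t0} : Set G), ∃ o ∈ O, ∃ h ∈ θ.range, g = o * h)
    (g : centralizer ({θ s0} : Set G)) :
    ∃ o ∈ oddCore (centralizer ({θ s0} : Set G)), ∃ h ∈ θ.range, (g : G) = o * h := by
  revert g
  set C := centralizer ({θ s0} : Set G) with hC
  intro g
  haveI : Fact (Nat.Prime 2) := ⟨Nat.prime_two⟩
  have hmemC : ∀ {a : Alt8}, a * s0 = s0 * a → θ a ∈ C := fun h => hθ.mem_cent_map.2 h
  set s : C := ⟨θ s0, hmemC rfl⟩ with hs
  set v : C := ⟨θ (v4 2), hmemC v4_two_facts.2.1⟩ with hv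
  have hscen : s ∈ center C := mem_center_iff.2 fun x =>
    Subtype.ext (mem_centralizer_singleton_iff.1 x.2)
  set Z : Subgroup C := zpowers s with hZ
  haveI hZn : Z.Normal := ⟨fun x hx k => by
    have hxc : x ∈ center C := zpowers_le.2 hscen hx
    rwa [mem_center_iff.1 hxc k, mul_inv_cancel_right]⟩
  have hs2 : orderOf s = 2 := by
    rw [hs, Subgroup.orderOf_mk, orderOf_injective θ hθ.inj]
    exact orderOf_eq_prime s0_sq (by decide)
  have hZmem : ∀ x ∈ Z, x = 1 ∨ x = s := by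
    intro x hx
    obtain ⟨k, hk⟩ := mem_powers_iff_mem_zpowers.2 (hZ ▸ hx)
    change s ^ k = x at hk
    rw [← pow_mod_orderOf, hs2] at hk
    rcases Nat.mod_two_eq_zero_or_one k with h | h <;> rw [h] at hk
    · exact Or.inl (by simpa using hk.symm)
    · exact Or.inr (by simpa using hk.symm)
  -- a Sylow subgroup of `C`
  have hS0C : S0.map θ ≤ C := by
    rintro _ ⟨x, hx, rfl⟩; exact hmemC (mem_S0.1 hx).2
  set SC : Subgroup C := (S0.map θ).subgroupOf C with hSC
  have hSCc : Nat.card SC = 32 := by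
    rw [hSC, Nat.card_congr (subgroupOfEquivOfLe hS0C).toEquiv, hθ.map_card, card_S0]
  obtain ⟨P, hP⟩ := (IsPGroup.of_card (p := 2) (n := 5) (G := SC)
    (by rw [hSCc]; norm_num)).exists_le_sylow
  have hPS : (P : Subgroup C) = SC := by
    refine (eq_of_le_of_card_ge hP ?_).symm
    obtain ⟨k, hk⟩ := IsPGroup.iff_card.1 P.2
    rw [hSCc, hk]
    by_contra hlt
    have : 6 ≤ k := by
      by_contra hk6
      have : 2 ^ k ≤ 2 ^ 5 := Nat.pow_le_pow_right (by norm_num) (by omega)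
      omega
    exact hθ.not_dvd_64_s0 (((pow_dvd_pow 2 this).trans hk.symm.dvd).trans
      (card_subgroup_dvd_card _))
  set π := QuotientGroup.mk' Z with hπ
  have hπs : π s = 1 := (QuotientGroup.eq_one_iff s).2 (mem_zpowers s)
  have hπv : orderOf (π v) = 2 := by
    refine orderOf_eq_prime ?_ ?_
    · rw [← map_pow, show v ^ 2 = 1 from Subtype.ext (by
        push_cast; rw [hv, pow_two, ← map_mul, v4_two_facts.2.2.2.2.1, map_one]), map_one]
    · intro h
      rcases hZmem _ ((QuotientGroup.eq_one_iff v).1 h) with h | h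
      · exact v4_two_facts.2.2.1 (hθ.inj ((congrArg Subtype.val h).trans (map_one θ).symm))
      · exact v4_two_facts.2.2.2.1 (hθ.inj (congrArg Subtype.val h))
  have hsP : s ∈ (P : Subgroup C) := by
    rw [hPS]; exact ⟨s0, E0_le_S0 s0_mem_E0, rfl⟩
  have hiso : ∀ q, q * π v * q⁻¹ ∈ P.mapSurjective (QuotientGroup.mk'_surjective Z) →
      q * π v * q⁻¹ = π v := by
    intro q hq
    obtain ⟨k, rfl⟩ := QuotientGroup.mk'_surjective Z q
    obtain ⟨p, hp, hpk⟩ : π k * π v * (π k)⁻¹ ∈ (P : Subgroup C).map π := hq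
    rw [← map_inv, ← map_mul, ← map_mul] at hpk ⊢
    have hkP : k * v * k⁻¹ ∈ (P : Subgroup C) := by
      have h1 : p⁻¹ * (k * v * k⁻¹) ∈ Z := (QuotientGroup.eq).1 hpk
      have := mul_mem hp (show p⁻¹ * (k * v * k⁻¹) ∈ (P : Subgroup C) by
        rcases hZmem _ h1 with h | h <;> rw [h]
        exacts [one_mem _, hsP])
      rwa [mul_inv_cancel_left] at this
    rw [hPS] at hkP
    obtain ⟨m, hm, hmk⟩ := hkP
    have hk' : (k : G) * θ (v4 2) * (k : G)⁻¹ = θ m := by rw [hmk]; rfl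
    rcases hθ.conj_v4_two ht (mem_centralizer_singleton_iff.1 k.2) hm hk' with h | h
    · rw [show k * v * k⁻¹ = v from Subtype.ext (hmk.symm.trans (congrArg θ h))]
    · rw [show k * v * k⁻¹ = v * s from Subtype.ext (hmk.symm.trans
        ((congrArg θ (h.trans v4_two_facts.1)).trans (map_mul θ _ _))), map_mul, hπs, mul_one]
  -- `⟨θ V0⟩` and the odd core
  set V : Subgroup C := (V0.map θ).subgroupOf C with hV
  have hV0C : V0.map θ ≤ C := by
    rintro _ ⟨x, hx, rfl⟩; exact hmemC (E0_comm (V0_le hx) s0_mem_E0)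
  have hVc : Nat.card V = 4 := by
    have hinj : Function.Injective v4 := by decide
    rw [hV, Nat.card_congr (subgroupOfEquivOfLe hV0C).toEquiv, hθ.map_card]
    show Nat.card ↥(Set.range v4) = 4
    rw [Nat.card_range_of_injective hinj, Nat.card_fin]
  have hVmem : ∀ x ∈ V, x = 1 ∨ x = s ∨ x = v ∨ x = v * s := by
    rintro x ⟨_, ⟨a, rfl⟩, hax⟩
    fin_cases a
    · exact Or.inl (Subtype.ext (hax.symm.trans (map_one θ)))
    · exact Or.inr (Or.inl (Subtype.ext hax.symm))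
    · exact Or.inr (Or.inr (Or.inl (Subtype.ext hax.symm)))
    · exact Or.inr (Or.inr (Or.inr (Subtype.ext
        (hax.symm.trans ((congrArg θ v4_two_facts.1).trans (map_mul θ _ _))))))
  have hvV : v ∈ V := ⟨v4 2, ⟨2, rfl⟩, rfl⟩
  have hsV : s ∈ V := ⟨v4 1, ⟨1, rfl⟩, rfl⟩
  haveI hOn : (oddCore C).Normal := inferInstance
  set M : Subgroup C := oddCore C ⊔ V with hM
  have hconjv : ∀ k : C, k * v * k⁻¹ ∈ M := by
    intro k
    have h1 := CfsgLib.Involutions.zstar_isolated _ hπv hiso (π k)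
    rw [← map_inv, ← map_inv, ← map_mul, ← map_mul, ← map_mul] at h1
    obtain ⟨d, hd, hde⟩ := AEightThreeClasses.central_two_preimage hZ hs2 hscen h1
    have hmem : v * k * v⁻¹ * k⁻¹ ∈ M := by
      rcases hde with e | e <;> rw [e]
      · exact mem_sup_left hd
      · exact mul_mem (mem_sup_left hd) (mem_sup_right hsV)
    have h2 := inv_mem (mul_mem (inv_mem (mem_sup_right hvV : v ∈ M)) hmem)
    rwa [show (v⁻¹ * (v * k * v⁻¹ * k⁻¹))⁻¹ = k * v * k⁻¹ by group] at h2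
  have hconjV : ∀ x ∈ V, (g : C) * x * g⁻¹ ∈ M := by
    intro x hx
    have hgs : g * s * g⁻¹ = s := by rw [mem_center_iff.1 hscen g, mul_inv_cancel_right]
    rcases hVmem x hx with rfl | rfl | rfl | rfl
    · rw [mul_one, mul_inv_cancel]; exact one_mem _
    · rw [hgs]; exact mem_sup_right hsV
    · exact hconjv g
    · rw [show g * (v * s) * g⁻¹ = (g * v * g⁻¹) * (g * s * g⁻¹) by group, hgs]
      exact mul_mem (hconjv g) (mem_sup_right hsV)
  have hVp : IsPGroup 2 V := IsPGroup.of_card (n := 2) (by rw [hVc]; norm_num)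
  obtain ⟨P1, hP1⟩ := (hVp.comap_subtype (K := M)).exists_le_sylow
  obtain ⟨P2, hP2⟩ :=
    ((hVp.map (MulAut.conj g).toMonoidHom).comap_subtype (K := M)).exists_le_sylow
  obtain ⟨c, hc⟩ := MulAction.exists_smul_eq M P2 P1
  have hP1V : ∀ x ∈ (P1 : Subgroup M), (x : C) ∈ V := by
    intro x hx
    obtain ⟨o, ho, w, hw, how⟩ := mem_sup_of_normal_left.1 (show (x : C) ∈ oddCore C ⊔ V from x.2)
    have hwM : w ∈ M := mem_sup_right hw
    have hoP : (⟨o, mem_sup_left ho⟩ : M) ∈ (P1 : Subgroup M) := by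
      have := mul_mem hx (inv_mem (hP1 (show (⟨w, hwM⟩ : M) ∈ V.subgroupOf M from hw)))
      convert this using 1
      exact Subtype.ext (by push_cast; rw [← how, mul_inv_cancel_right])
    obtain ⟨j, hj⟩ := P1.2 ⟨_, hoP⟩
    have ho2 : o ^ 2 ^ j = 1 := congrArg (fun z : (P1 : Subgroup M) => ((z : M) : C)) hj
    have hodd : Odd (orderOf o) :=
      CfsgLib.Cores.odd_card_oddCore.of_dvd_nat (orderOf_dvd_natCard _ ho)
    have ho1 : o = 1 := orderOf_eq_one_iff.1 (Nat.eq_one_of_dvd_coprimes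
      ((Nat.coprime_two_right.2 hodd).pow_right j) dvd_rfl (orderOf_dvd_of_pow_eq_one ho2))
    rw [← how, ho1, one_mul]
    exact hw
  set n : C := (c : C) * g with hn
  have hnV : ∀ x ∈ V, n * x * n⁻¹ ∈ V := by
    intro x hx
    have h1 : (⟨g * x * g⁻¹, hconjV x hx⟩ : M) ∈ (P2 : Subgroup M) := hP2 ⟨x, hx, rfl⟩
    have h2 : c * ⟨g * x * g⁻¹, hconjV x hx⟩ * c⁻¹ ∈ (P1 : Subgroup M) := by
      rw [← hc]; exact ⟨_, h1, rfl⟩
    have h3 := hP1V _ h2
    rw [hn]
    convert h3 using 1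
    push_cast
    group
  have hnN : (n : G) ∈ normalizer ((V0.map θ : Subgroup G) : Set G) := by
    refine mem_normalizer_fintype fun y hy => ?_
    have := hnV ⟨y, hV0C hy⟩ hy
    exact this
  obtain ⟨o, ho, w, hw, how⟩ := mem_sup_of_normal_left.1 (show ((c⁻¹ : M) : C) ∈ oddCore C ⊔ V from (c⁻¹ : M).2)
  refine ⟨o, ho, (w : G) * n, mul_mem (map_le_range θ V0 hw) (hθ.V hnN), ?_⟩
  have : g = o * (w * n) := by
    rw [← mul_assoc, how, hn]
    push_cast
    group
  exact congrArg Subtype.val this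

/-- The centraliser of `θ s0` is the product of a normal subgroup of order prime to six and its
intersection with the embedded group. -/
theorem locOdd_s0
    (ht : ∃ O : Subgroup G, O ≤ centralizer ({θ t0} : Set G) ∧
      centralizer ({θ t0} : Set G) ≤ normalizer (O : Set G) ∧ (Nat.card O).Coprime 6 ∧
      ∀ g ∈ centralizer ({θ t0} : Set G), ∃ o ∈ O, ∃ h ∈ θ.range, g = o * h) :
    ∃ O : Subgroup G, O ≤ centralizer ({θ s0} : Set G) ∧
      centralizer ({θ s0} : Set G) ≤ normalizer (O : Set G) ∧ (Nat.card O).Coprime 6 ∧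
      ∀ g ∈ centralizer ({θ s0} : Set G), ∃ o ∈ O, ∃ h ∈ θ.range, g = o * h :=
  hθ.locOdd_of_oddCore (a := s0) (x := AEightThreeLocal.cz) (e := au) s0_sq
    (card_centralizer_s0.trans (by norm_num)) cz_s0 au_facts.1 cz_pow (by decide) au_facts.2
    hθ.cz (hθ.prod_s0 ht)

end Emb

end CfsgLib.AEightThreeLocal
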