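import Cfsg.Agent.Lib.AEightThreeLocal.FinishA

/-!
The centraliser of an involution of type `t0`: modulo the involution an element of order three
generates a self-centralising subgroup.
-/

set_option autoImplicit false
set_option maxRecDepth 100000
set_option linter.style.haveILetI false
set_option linter.unusedSectionVars false

namespace CfsgLib.AEightThreeLocal

open Subgroup Cfsg

universe u

/-- A nilpotent group is an extension of its odd core by a 2-group. -/
theorem index_oddCore_of_nilpotent {N : Type u} [Group N] [Finite N] (hN : Group.IsNilpotent N) :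
    ∃ j, (oddCore N).index = 2 ^ j := by
  haveI : Fact (Nat.Prime 2) := ⟨Nat.prime_two⟩
  haveI := hN
  by_cases h2 : 2 ∣ Nat.card N
  · have hmem : 2 ∈ (Nat.card N).primeFactors :=
      Nat.mem_primeFactors.2 ⟨Nat.prime_two, h2, Nat.card_pos.ne'⟩
    obtain ⟨P⟩ : Nonempty (Sylow 2 N) := inferInstance
    have hn : ∀ {p : ℕ} [Fact p.Prime] (Q : Sylow p N), Q.Normal := fun Q =>
      Q.normal_of_normalizerCondition normalizerCondition_of_isNilpotent
    let e := Sylow.directProductOfNormal (G := N) hn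
    let f : N →* P :=
      ((Pi.evalMonoidHom (fun Q : Sylow 2 N => ↥Q) P).comp
        (Pi.evalMonoidHom (fun p : (Nat.card N).primeFactors => ∀ Q : Sylow p.1 N, ↥Q) ⟨2, hmem⟩)).comp
        e.symm.toMonoidHom
    have hf : Function.Surjective f := by
      intro x
      obtain ⟨a, ha⟩ := Function.surjective_eval (α := (Nat.card N).primeFactors)
        (β := fun p => ∀ Q : Sylow p.1 N, ↥Q) ⟨2, hmem⟩
        (Classical.choose (Function.surjective_eval (α := Sylow 2 N) (β := fun Q => ↥Q) P x))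
      refine ⟨e a, ?_⟩
      have hx := Classical.choose_spec (Function.surjective_eval (α := Sylow 2 N) (β := fun Q => ↥Q) P x)
      show (e.symm (e a)) ⟨2, hmem⟩ P = x
      rw [e.symm_apply_apply]
      simp only [Function.eval] at ha hx
      rw [ha]
      exact hx
    have hcard : f.ker.index = Nat.card P := by
      rw [index_eq_card, Nat.card_congr (QuotientGroup.quotientKerEquivOfSurjective f hf).toEquiv]
    have hodd : Odd (Nat.card f.ker) := by
      have h := f.ker.card_mul_index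
      have h' := (P : Subgroup N).card_mul_index
      rw [hcard, ← h', mul_comm] at h
      rw [Nat.eq_of_mul_eq_mul_left Nat.card_pos h, Nat.odd_iff]
      have := P.not_dvd_index
      omega
    obtain ⟨k, hk⟩ := IsPGroup.iff_card.1 P.2
    have hdvd : (oddCore N).index ∣ 2 ^ k := by
      rw [← hk, ← hcard]; exact index_dvd_of_le (CfsgLib.Cores.le_oddCore hodd)
    obtain ⟨j, -, hj⟩ := (Nat.dvd_prime_pow Nat.prime_two).1 hdvd
    exact ⟨j, hj⟩
  · refine ⟨0, ?_⟩
    rw [pow_zero, index_eq_one, eq_top_iff]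
    exact CfsgLib.Cores.le_oddCore (by rw [card_top, Nat.odd_iff]; omega)

variable {G : Type u} [Group G] [Finite G] {θ : Alt8 →* G}

theorem t0_facts : orderOf t0 = 2 ∧ orderOf cy1 = 3 := by
  haveI : Fact (Nat.Prime 3) := ⟨Nat.prime_three⟩
  exact ⟨orderOf_eq_prime t0_sq (by decide), orderOf_eq_prime cy1_facts.1 cy1_facts.2.1⟩

/-- The centraliser of `θ t0`. -/
theorem Emb.locOdd_t0 (hθ : Emb θ) :
    ∃ O : Subgroup G, O ≤ centralizer ({θ t0} : Set G) ∧
      centralizer ({θ t0} : Set G) ≤ normalizer (O : Set G) ∧ (Nat.card O).Coprime 6 ∧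
      ∀ g ∈ centralizer ({θ t0} : Set G), ∃ o ∈ O, ∃ h ∈ θ.range, g = o * h := by
  haveI : Fact (Nat.Prime 2) := ⟨Nat.prime_two⟩
  haveI : Fact (Nat.Prime 3) := ⟨Nat.prime_three⟩
  refine hθ.locOdd_of_oddCore t0_sq card_centralizer_t0 (x := cy1) (e := s0) cy1_facts.2.2.1
    (by decide) cy1_facts.1 cy1_facts.2.1 cy1_facts.2.2.2 hθ.cent_cy1 ?_
  set H := centralizer ({t0} : Set Alt8) with hH
  set C := centralizer ({θ t0} : Set G) with hC
  have hmemC : ∀ h ∈ H, θ h ∈ C := fun h hh => by
    rw [hC, mem_centralizer_singleton_iff, ← map_mul, ← map_mul, mem_centralizer_singleton_iff.1 hh]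
  have hyH : cy1 ∈ H := mem_centralizer_singleton_iff.2 cy1_facts.2.2.1
  have htH : t0 ∈ H := mem_centralizer_singleton_iff.2 rfl
  have hHc : Nat.card H = 192 := by
    have h1 : 64 ∣ Nat.card H := card_T0 ▸ card_dvd_of_le
      (fun x hx => mem_centralizer_singleton_iff.2 (t0_comm_T0 hx))
    have h2 : 3 ∣ Nat.card H := t0_facts.2 ▸ orderOf_dvd_natCard _ hyH
    have h3 : 192 ∣ Nat.card H :=
      Nat.Coprime.mul_dvd_of_dvd_of_dvd (show Nat.Coprime 64 3 by norm_num) h1 h2
    obtain ⟨k, hk⟩ := h3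
    have h384 : Nat.card H ∣ 384 := card_centralizer_t0
    have hk2 : k ∣ 2 := Nat.dvd_of_mul_dvd_mul_left (by norm_num : 0 < 192) (by rw [← hk]; exact h384)
    rcases (Nat.dvd_prime Nat.prime_two).1 hk2 with rfl | rfl
    · rw [hk]
    · exfalso
      apply hθ.not_dvd_128
      refine dvd_trans ?_ (card_subgroup_dvd_card (H.map θ))
      rw [hθ.map_card, hk]
      norm_num
  set φ : H →* C := (θ.comp H.subtype).codRestrict C (fun h => hmemC h h.2) with hφ
  have hφinj : Function.Injective φ := fun a b h =>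
    Subtype.ext (hθ.inj (congrArg Subtype.val h))
  set tC : C := φ ⟨t0, htH⟩ with htC
  have htCord : orderOf tC = 2 := by
    rw [htC, orderOf_injective φ hφinj, Subgroup.orderOf_mk, t0_facts.1]
  have htCc : tC ∈ center C := mem_center_iff.2 fun c => Subtype.ext (mem_centralizer_singleton_iff.1 c.2)
  set Z : Subgroup C := zpowers tC with hZ
  haveI : Z.Normal := ⟨fun x hx g => by
    rw [mem_center_iff.1 ((zpowers_le.2 htCc) hx) g, mul_inv_cancel_right]; exact hx⟩
  have htt : tC * tC = 1 := by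
    have := pow_orderOf_eq_one tC; rwa [htCord, pow_two] at this
  have hZmem : ∀ x : C, x ∈ Z → x = 1 ∨ x = tC := by
    intro x hx
    obtain ⟨i, rfl⟩ := mem_zpowers_iff.1 hx
    rcases Int.even_or_odd i with ⟨j, rfl⟩ | ⟨j, rfl⟩
    · left; rw [← two_mul, zpow_mul, zpow_two, htt, one_zpow]
    · right; rw [zpow_add, zpow_mul, zpow_two, htt, one_zpow, one_mul, zpow_one]
  set π : C →* C ⧸ Z := QuotientGroup.mk' Z with hπ
  have hπsurj : Function.Surjective π := QuotientGroup.mk'_surjective Z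
  have hZc : Nat.card Z = 2 := by rw [hZ, Nat.card_zpowers, htCord]
  have hQ2 : Nat.card C = Nat.card (C ⧸ Z) * 2 := by
    rw [card_eq_card_quotient_mul_card_subgroup Z, hZc]
  set yQ : C ⧸ Z := π (φ ⟨cy1, hyH⟩) with hyQ
  have hy3 : yQ ^ 3 = 1 := by
    rw [hyQ, ← map_pow, ← map_pow, show (⟨cy1, hyH⟩ : H) ^ 3 = 1 from Subtype.ext cy1_facts.1,
      map_one, map_one]
  have hy1 : yQ ≠ 1 := by
    intro h
    rcases hZmem _ ((QuotientGroup.eq_one_iff _).1 h) with h' | h'
    · exact cy1_facts.2.1 (congrArg Subtype.val (hφinj (h'.trans (map_one φ).symm)))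
    · exact absurd (show cy1 = t0 from congrArg Subtype.val (hφinj (htC ▸ h'))) (by decide)
  have hyord : orderOf yQ = 3 := orderOf_eq_prime hy3 hy1
  set X : Subgroup (C ⧸ Z) := zpowers yQ with hX
  have hXc : Nat.card X = 3 := by rw [hX, Nat.card_zpowers, hyord]
  have hcent : centralizer (X : Set (C ⧸ Z)) = X := by
    refine le_antisymm ?_ ?_
    · intro q hq
      obtain ⟨g, rfl⟩ := hπsurj q
      have hgy := hq yQ (mem_zpowers yQ)
      rw [hyQ, ← map_mul, ← map_mul] at hgy
      set yC : C := φ ⟨cy1, hyH⟩ with hyC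
      have hz : (yC * g)⁻¹ * (g * yC) ∈ Z := QuotientGroup.eq.1 hgy
      have hcom : (g : G) * θ cy1 = θ cy1 * g := by
        rcases hZmem _ hz with h | h
        · exact (congrArg Subtype.val (inv_mul_eq_one.1 h)).symm
        · exfalso
          have hconj : g * yC * g⁻¹ = yC * tC := by
            rw [inv_mul_eq_iff_eq_mul] at h
            rw [h, mul_assoc yC g tC, mem_center_iff.1 htCc g]
            group
          have hy3' : yC ^ 3 = 1 := by
            rw [hyC, ← map_pow, show (⟨cy1, hyH⟩ : H) ^ 3 = 1 from Subtype.ext cy1_facts.1, map_one]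
          have h3 : (g * yC * g⁻¹) ^ 3 = 1 := by rw [conj_pow, hy3']; group
          rw [hconj, Commute.mul_pow (show Commute yC tC from mem_center_iff.1 htCc yC), hy3', one_mul,
            pow_succ, pow_two, htt, one_mul] at h3
          rw [h3, orderOf_one] at htCord
          norm_num at htCord
      obtain ⟨n, hn⟩ := hθ.cent_cy1 (mem_centralizer_singleton_iff.2 hcom)
      have hny : n * cy1 = cy1 * n := hθ.inj (by rw [map_mul, map_mul, hn]; exact hcom)
      have hnt : n * t0 = t0 * n :=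
        hθ.inj (by rw [map_mul, map_mul, hn]; exact mem_centralizer_singleton_iff.1 g.2)
      obtain ⟨i, j, rfl⟩ := cent_cy1_t0 hny hnt
      have hg : g = yC ^ i.val * tC ^ j.val := Subtype.ext (by rw [← hn, map_mul, map_pow, map_pow]; rfl)
      have ht1 : π tC = 1 := (QuotientGroup.eq_one_iff _).2 (mem_zpowers _)
      rw [hg, map_mul, map_pow, map_pow, ht1, one_pow, mul_one]
      exact pow_mem (mem_zpowers yQ) _
    · intro x hx
      rw [mem_centralizer_iff]
      intro h hh
      obtain ⟨i, rfl⟩ := mem_zpowers_iff.1 hx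
      obtain ⟨j, rfl⟩ := mem_zpowers_iff.1 hh
      exact (zpow_mul_comm yQ j i)
  -- orders
  set J : Subgroup (C ⧸ Z) := φ.range.map π with hJ
  have hJc : Nat.card J = 96 := by
    have hle : Z ≤ φ.range := zpowers_le.2 ⟨_, rfl⟩
    have h := CfsgLib.Cores.card_comap_mk' Z J
    rw [← hπ, hJ, comap_map_eq, hπ, QuotientGroup.ker_mk', sup_eq_left.2 hle, hZc,
      Nat.card_congr (MonoidHom.ofInjective hφinj).toEquiv.symm, hHc] at h
    rw [hJ, hπ]
    omega
  have hQn : ¬ 64 ∣ Nat.card (C ⧸ Z) := fun h => hθ.not_dvd_128_sub C (by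
    rw [hQ2]; exact Nat.mul_dvd_mul h (dvd_refl 2))
  have h96 : 96 ∣ Nat.card (C ⧸ Z) := hJc ▸ card_subgroup_dvd_card J
  have hpow : ∀ m a : ℕ, Nat.card (C ⧸ Z) = 2 ^ a * m → ¬ 2 ∣ m → a = 5 := by
    intro m a h hm
    have h32 : 2 ^ 5 ∣ 2 ^ a * m := h ▸ (dvd_trans (by norm_num) h96)
    have hcop : (2 ^ 5).Coprime m := ((Nat.prime_two.coprime_iff_not_dvd).2 hm).pow_left 5
    have := (Nat.pow_dvd_pow_iff_le_right (by norm_num : 1 < 2)).1 (hcop.dvd_of_dvd_mul_right h32)
    by_contra hne
    exact hQn (h ▸ Dvd.dvd.mul_right (dvd_trans (by norm_num) (pow_dvd_pow 2 (show 6 ≤ a by omega))) m)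
  rcases Cfsg.Agent.S3331.result X hXc hcent with ⟨N, hNn, hnil, hcop, hquot⟩ | ⟨N, hNn, -, hN2, ⟨e⟩⟩ | ⟨⟨e⟩⟩
  · haveI := hNn
    obtain ⟨j, hj⟩ := index_oddCore_of_nilpotent (N := N) hnil
    set O : Subgroup (C ⧸ Z) := (oddCore N).map N.subtype with hO
    haveI hOn : O.Normal := CfsgLib.Cores.normal_map_subtype N (oddCore N)
    have hOodd : Odd (Nat.card O) := by
      rw [hO, card_map_of_injective N.subtype_injective]; exact CfsgLib.Cores.odd_card_oddCore
    have hN : Nat.card N = 2 ^ j * Nat.card O := by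
      rw [hO, card_map_of_injective N.subtype_injective, ← hj, mul_comm, card_mul_index]
    have hq : Nat.card ((C ⧸ Z) ⧸ N) = 3 ∨ Nat.card ((C ⧸ Z) ⧸ N) = 6 := by
      rcases hquot with h | ⟨⟨e⟩⟩
      · exact Or.inl h
      · right; rw [Nat.card_congr e.toEquiv, Nat.card_perm, Nat.card_fin]; rfl
    have hoddO : ¬ 2 ∣ Nat.card O := by have := Nat.odd_iff.1 hOodd; omega
    have hcard : Nat.card (C ⧸ Z) = 96 * Nat.card O := by
      rcases hq with h | h
      · have h' := card_eq_card_quotient_mul_card_subgroup N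
        rw [h, hN] at h'
        have := hpow (3 * Nat.card O) j (by rw [h']; ring) (fun hd => hoddO
          ((Nat.Coprime.dvd_of_dvd_mul_left (by norm_num) hd)))
        rw [h', this]; ring
      · have h' := card_eq_card_quotient_mul_card_subgroup N
        rw [h, hN] at h'
        have := hpow (3 * Nat.card O) (j + 1) (by rw [h']; ring) (fun hd => hoddO
          ((Nat.Coprime.dvd_of_dvd_mul_left (by norm_num) hd)))
        rw [h', show j = 4 by omega]; ring
    have hO3 : ¬ 3 ∣ Nat.card O := fun h => by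
      have h1 : Nat.card O ∣ Nat.card N := Dvd.intro_left _ hN.symm
      exact absurd (Nat.eq_one_of_dvd_coprimes hcop (h.trans h1) (dvd_refl 3)) (by norm_num)
    have hcompl : IsComplement' O J := by
      refine isComplement'_of_coprime (by rw [hcard, hJc, mul_comm]) ?_
      rw [hJc, show (96 : ℕ) = 2 ^ 5 * 3 by norm_num]
      exact Nat.Coprime.mul_right (((Nat.prime_two.coprime_iff_not_dvd).2 hoddO).symm.pow_right 5)
        ((Nat.prime_three.coprime_iff_not_dvd).2 hO3).symm
    intro g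
    obtain ⟨⟨⟨o, ho⟩, ⟨q, hq'⟩⟩, hoq⟩ := hcompl.2 (π g)
    obtain ⟨_, ⟨⟨h, hh⟩, rfl⟩, hqq⟩ := hq'
    have hoq' : o * q = π g := hoq
    have hmem : π (g * (φ ⟨h, hh⟩)⁻¹) ∈ oddCore (C ⧸ Z) := by
      rw [map_mul, map_inv, hqq, ← hoq', mul_inv_cancel_right]
      exact CfsgLib.Cores.le_oddCore hOodd ho
    obtain ⟨d, hd, hcase⟩ := CfsgLib.AEightThreeClasses.central_two_preimage hZ htCord htCc hmem
    rcases hcase with hcase | hcase
    · refine ⟨d, hd, θ h, ⟨_, rfl⟩, ?_⟩
      rw [eq_comm, eq_mul_inv_iff_mul_eq] at hcase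
      exact (congrArg Subtype.val hcase).symm
    · refine ⟨d, hd, θ t0 * θ h, mul_mem ⟨_, rfl⟩ ⟨_, rfl⟩, ?_⟩
      rw [eq_comm, eq_mul_inv_iff_mul_eq] at hcase
      rw [← mul_assoc]
      exact (congrArg Subtype.val hcase).symm
  · exfalso
    haveI := hNn
    have hNp : IsPGroup 2 N := fun x => ⟨1, Subtype.ext (by rw [pow_one]; exact hN2 x x.2)⟩
    obtain ⟨k, hk⟩ := IsPGroup.iff_card.1 hNp
    have hA5 : Nat.card ((C ⧸ Z) ⧸ N) = 60 := by
      rw [Nat.card_congr e.toEquiv, nat_card_alternatingGroup, Nat.card_fin]; rfl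
    have hcardQ : Nat.card (C ⧸ Z) = 2 ^ (k + 2) * 15 := by
      rw [card_eq_card_quotient_mul_card_subgroup N, hA5, hk, pow_add]; ring
    have hk3 : k = 3 := by have := hpow 15 (k + 2) hcardQ (by norm_num); omega
    have hfix : ∀ n ∈ N, yQ * n * yQ⁻¹ = n → n = 1 := by
      intro n hn h
      have hnX : n ∈ X := by
        rw [← hcent, hX, mem_centralizer_iff]
        intro v hv
        obtain ⟨i, rfl⟩ := mem_zpowers_iff.1 hv
        exact ((show Commute yQ n from mul_inv_eq_iff_eq_mul.1 h).zpow_left i).eq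
      have hd : orderOf n ∣ 3 := hXc ▸ orderOf_dvd_natCard _ hnX
      have hd2 : orderOf n ∣ 2 := orderOf_dvd_of_pow_eq_one (hN2 n hn)
      exact orderOf_eq_one_iff.1 (Nat.eq_one_of_dvd_coprimes (by norm_num) hd2 hd)
    let act : X →* MulAut N := (MulAut.conjNormal (H := N)).comp X.subtype
    letI : MulAction X N := MulAction.compHom N act
    have hXp : IsPGroup 3 X := IsPGroup.of_card (n := 1) (by rw [hXc, pow_one])
    have hmod := hXp.card_modEq_card_fixedPoints N
    have hfp : MulAction.fixedPoints X N = {1} := by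
      ext n
      rw [MulAction.mem_fixedPoints, Set.mem_singleton_iff]
      constructor
      · intro h
        exact Subtype.ext (hfix n n.2 (congrArg Subtype.val (h ⟨yQ, mem_zpowers yQ⟩)))
      · rintro rfl x
        show act x 1 = 1
        exact map_one _
    rw [hk, hk3, hfp, Nat.card_coe_set_eq, Set.ncard_singleton] at hmod
    exact absurd hmod (by decide)
  · exfalso
    haveI : Fact (Nat.Prime 7) := ⟨by norm_num⟩
    have h := CfsgLib.ClassicalLinear.card_PSL_two_of_odd (F := ZMod 7) (q := 7) (ZMod.card 7)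
      ⟨3, rfl⟩
    rw [← Nat.card_congr e.toEquiv] at h
    obtain ⟨m, hm⟩ := h96
    rw [hm] at h
    omega

end CfsgLib.AEightThreeLocal
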