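import Cfsg.Agent.Lib.AEightThreeLocal.AltEight
import Cfsg.Agent.Lib.CoprimeAction.Abelian
import Cfsg.Agent.Lib.Involutions.Basic
import Cfsg.Agent.S0205
import Cfsg.Agent.S0217

/-!
An embedded alternating group of degree eight with controlled centralisers of two of its involutions
and of its elements of order three is the whole group.
-/

set_option autoImplicit false
set_option linter.style.haveILetI false
set_option linter.unusedSectionVars false

namespace CfsgLib.AEightThreeLocal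

open Subgroup

variable {G : Type*} [Group G]

/-- The centraliser of `a` is the product of a normal subgroup of order prime to six and its part in
`H`. -/
def LocOdd (H : Subgroup G) (a : G) : Prop :=
  ∃ O : Subgroup G, O ≤ centralizer {a} ∧ centralizer {a} ≤ normalizer (O : Set G) ∧
    (Nat.card O).Coprime 6 ∧ ∀ g ∈ centralizer {a}, ∃ o ∈ O, ∃ h ∈ H, g = o * h

/-- The join of the subgroups of order prime to six centralising `a`. -/
def core6 (a : G) : Subgroup G :=
  sSup {U : Subgroup G | U ≤ centralizer {a} ∧ (Nat.card U).Coprime 6}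

theorem le_core6 {a : G} {U : Subgroup G} (h : U ≤ centralizer {a})
    (hU : (Nat.card U).Coprime 6) : U ≤ core6 a :=
  le_sSup ⟨h, hU⟩

variable (θ : Alt8 →* G)

/-- `LocOdd` at an element of the copy, together with the exponent of its centraliser there. -/
def Good (x : Alt8) : Prop :=
  LocOdd θ.range (θ x) ∧ ∀ k : Alt8, k * x = x * k → k ^ 384 = 1

theorem conj_mem_centralizer {a g c : G} (h : c ∈ centralizer ({a} : Set G)) :
    g * c * g⁻¹ ∈ centralizer ({g * a * g⁻¹} : Set G) :=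
  mem_centralizer_singleton_iff.mpr (by rw [conj_mul, conj_mul, mem_centralizer_singleton_iff.mp h])

theorem Good.conj {x : Alt8} (h : Good θ x) (g : Alt8) : Good θ (g * x * g⁻¹) := by
  obtain ⟨⟨O, hO, hON, hO6, hprod⟩, hexp⟩ := h
  refine ⟨⟨O.map (MulAut.conj (θ g)).toMonoidHom, ?_, ?_, ?_, ?_⟩, ?_⟩
  · rintro _ ⟨o, ho, rfl⟩
    simpa using conj_mem_centralizer (g := θ g) (hO ho)
  · intro c hc
    have hc' : (θ g)⁻¹ * c * θ g ∈ centralizer ({θ x} : Set G) := by
      have := conj_mem_centralizer (g := (θ g)⁻¹) hc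
      simpa [mul_assoc] using this
    refine mem_normalizer_iff.mpr fun y => ⟨?_, ?_⟩
    · rintro ⟨o, ho, rfl⟩
      refine ⟨_, (mem_normalizer_iff.mp (hON hc') o).mp ho, ?_⟩
      simp [mul_assoc]
    · rintro ⟨o, ho, he⟩
      refine ⟨_, (mem_normalizer_iff.mp (hON (inv_mem hc')) o).mp ho, ?_⟩
      have he' : y = c⁻¹ * (θ g * o * (θ g)⁻¹) * c := by
        simp only [MulEquiv.coe_toMonoidHom, MulAut.conj_apply] at he
        rw [he]; group
      rw [he']
      simp [mul_assoc]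
  · rwa [card_map_of_injective (f := (MulAut.conj (θ g)).toMonoidHom) (MulAut.conj (θ g)).injective]
  · intro c hc
    have hc' : (θ g)⁻¹ * c * θ g ∈ centralizer ({θ x} : Set G) := by
      have := conj_mem_centralizer (g := (θ g)⁻¹) hc
      simpa [mul_assoc] using this
    obtain ⟨o, ho, h, hh, he⟩ := hprod _ hc'
    refine ⟨θ g * o * (θ g)⁻¹, ⟨o, ho, by simp⟩, θ g * h * (θ g)⁻¹,
      mul_mem (mul_mem ⟨g, rfl⟩ hh) (inv_mem ⟨g, rfl⟩), ?_⟩
    rw [conj_mul, ← he]
    group
  · intro k hk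
    have h1 := hexp (g⁻¹ * k * g) (by
      calc g⁻¹ * k * g * x = g⁻¹ * (k * (g * x * g⁻¹)) * g := by group
        _ = g⁻¹ * (g * x * g⁻¹ * k) * g := by rw [hk]
        _ = _ := by group)
    have h2 := congrArg (fun u => g * u * g⁻¹) h1
    simp only [← conj_pow, mul_one, mul_inv_cancel] at h2
    rwa [show g * (g⁻¹ * k * g) * g⁻¹ = k by group] at h2

theorem good_of_dvd {x : Alt8} (h : LocOdd θ.range (θ x))
    (hd : Nat.card (centralizer ({x} : Set Alt8)) ∣ 384) : Good θ x :=
  ⟨h, fun k hk => orderOf_dvd_iff_pow_eq_one.mp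
    ((orderOf_dvd_natCard _ (mem_centralizer_singleton_iff.mpr hk)).trans hd)⟩

theorem good_of_invol (hs : LocOdd θ.range (θ s0)) (ht : LocOdd θ.range (θ t0)) {x : Alt8}
    (hx : x ^ 2 = 1) (hx1 : x ≠ 1) : Good θ x := by
  rcases order_two_cases hx hx1 with ⟨g, hg⟩ | ⟨g, hg⟩
  · rw [show x = g⁻¹ * s0 * g⁻¹⁻¹ by rw [← hg]; group]
    exact (good_of_dvd θ hs (card_centralizer_s0.trans (by norm_num))).conj θ _
  · rw [show x = g⁻¹ * t0 * g⁻¹⁻¹ by rw [← hg]; group]
    exact (good_of_dvd θ ht card_centralizer_t0).conj θ _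

variable [Finite G] (hinj : Function.Injective θ)

omit [Finite G] in
theorem eq_one_of_coprime {g : G} (hg : (orderOf g).Coprime 6) {n : ℕ} (hn : g ^ n = 1)
    (h : n ∣ 384) : g = 1 :=
  orderOf_eq_one_iff.mp
    (eq_one_of_coprime_six hg h (orderOf_dvd_of_pow_eq_one hn))

include hinj in
theorem core6_spec {x : Alt8} (h : Good θ x) :
    core6 (θ x) ≤ centralizer {θ x} ∧ (Nat.card (core6 (θ x))).Coprime 6 ∧
      (∀ g ∈ centralizer {θ x}, ∃ o ∈ core6 (θ x), ∃ k ∈ θ.range, g = o * k) ∧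
      core6 (θ x) ⊓ θ.range = ⊥ := by
  obtain ⟨⟨O, hO, hON, hO6, hprod⟩, hexp⟩ := h
  set C := centralizer ({θ x} : Set G)
  haveI : (O.subgroupOf C).Normal := normal_subgroupOf_of_le_normalizer hON
  have hk : ∀ h ∈ θ.range, h ∈ C → h ^ 384 = 1 := by
    rintro _ ⟨k, rfl⟩ hc
    rw [← map_pow, hexp k (hinj (by
      rw [map_mul, map_mul]; exact mem_centralizer_singleton_iff.mp hc)), map_one]
  have heq : core6 (θ x) = O := by
    refine le_antisymm (sSup_le ?_) (le_core6 hO hO6)
    rintro U ⟨hUC, hU6⟩ g hg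
    obtain ⟨o, ho, k, hkH, rfl⟩ := hprod g (hUC hg)
    have hkC : k ∈ C := by simpa using mul_mem (inv_mem (hO ho)) (hUC hg)
    let q := QuotientGroup.mk' (O.subgroupOf C)
    have h1 : q ⟨o * k, hUC hg⟩ = q ⟨k, hkC⟩ := by
      rw [show (⟨o * k, hUC hg⟩ : C) = ⟨o, hO ho⟩ * ⟨k, hkC⟩ from rfl, map_mul]
      have : q ⟨o, hO ho⟩ = 1 := (QuotientGroup.eq_one_iff _).mpr (mem_subgroupOf.mpr ho)
      rw [this, one_mul]
    have h2 : q ⟨o * k, hUC hg⟩ = 1 := by
      refine orderOf_eq_one_iff.mp (eq_one_of_coprime_six (Nat.Coprime.coprime_dvd_left ?_ hU6)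
        dvd_rfl (orderOf_dvd_of_pow_eq_one ?_))
      · refine (orderOf_map_dvd q _).trans ?_
        rw [Subgroup.orderOf_mk]
        exact U.orderOf_dvd_natCard hg
      · rw [h1, ← map_pow]
        rw [show (⟨k, hkC⟩ : C) ^ 384 = 1 from Subtype.ext (by simpa using hk k hkH hkC), map_one]
    exact mem_subgroupOf.mp ((QuotientGroup.eq_one_iff _).mp h2)
  rw [heq]
  refine ⟨hO, hO6, hprod, eq_bot_iff.mpr fun g hg => mem_bot.mpr ?_⟩
  exact eq_one_of_coprime (hO6.coprime_dvd_left (O.orderOf_dvd_natCard hg.1))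
    (hk g hg.2 (hO hg.1)) dvd_rfl

include hinj in
/-- All involution centralisers of the copy lie in it. -/
theorem centralizer_invol_le (hz : centralizer {θ cz} ≤ θ.range)
    (hy : centralizer {θ cy} ≤ θ.range) (hs : LocOdd θ.range (θ s0))
    (ht : LocOdd θ.range (θ t0)) {x : Alt8} (hx : x ^ 2 = 1) (hx1 : x ≠ 1) :
    centralizer {θ x} ≤ θ.range := by
  classical
  haveI : Fact (Nat.Prime 2) := ⟨Nat.prime_two⟩
  haveI : Fact (Nat.Prime 3) := ⟨Nat.prime_three⟩
  have hgood : ∀ a ∈ E0, a ≠ 1 → Good θ a := fun a ha h1 => good_of_invol θ hs ht (E0_sq ha) h1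
  set A := E0.map θ with hA
  have hAc : ∀ a ∈ A, ∀ b ∈ A, a * b = b * a := by
    rintro _ ⟨a, ha, rfl⟩ _ ⟨b, hb, rfl⟩
    rw [← map_mul, ← map_mul, E0_comm ha hb]
  haveI : IsMulCommutative A := ⟨⟨fun a b => Subtype.ext (hAc _ a.2 _ b.2)⟩⟩
  have hA2 : ∀ a ∈ A, a ^ 2 = 1 := by
    rintro _ ⟨a, ha, rfl⟩
    rw [← map_pow, E0_sq ha, map_one]
  have hA16 : Nat.card A = 16 := by rw [hA, card_map_of_injective hinj, card_E0]
  have hAn : ¬ IsCyclic A := by
    intro h
    obtain ⟨g, hg⟩ := IsCyclic.exists_generator (α := A)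
    have h1 : orderOf g = 16 := by rw [orderOf_eq_card_of_forall_mem_zpowers hg, hA16]
    have h2 : orderOf g ∣ 2 := orderOf_dvd_of_pow_eq_one (Subtype.ext (hA2 _ g.2))
    rw [h1] at h2
    norm_num at h2
  have spec := fun a (ha : a ∈ E0) (h1 : a ≠ 1) => core6_spec θ hinj (hgood a ha h1)
  have hAmem : ∀ b ∈ A, b ≠ 1 → ∃ a ∈ E0, a ≠ 1 ∧ θ a = b := by
    rintro _ ⟨a, ha, rfl⟩ hne
    exact ⟨a, ha, fun h => hne (by rw [h, map_one]), rfl⟩
  have hconj : ∀ g b : G, ∀ x ∈ core6 b, g * x * g⁻¹ ∈ core6 (g * b * g⁻¹) := by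
    intro g b
    suffices core6 b ≤ (core6 (g * b * g⁻¹)).comap (MulAut.conj g).toMonoidHom from
      fun x hx => this hx
    refine sSup_le fun U hU => map_le_iff_le_comap.mp (le_core6 ?_ ?_)
    · rintro _ ⟨u, hu, rfl⟩
      exact conj_mem_centralizer (hU.1 hu)
    · rw [card_map_of_injective (f := (MulAut.conj g).toMonoidHom) (MulAut.conj g).injective]
      exact hU.2
  obtain ⟨hW2, hWC⟩ := Cfsg.Agent.S0217.result (p := 2) A hAc hA2 (by rw [hA16]; norm_num)
    (core6 (G := G))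
    (fun b hb h1 => by obtain ⟨a, ha, ha1, rfl⟩ := hAmem b hb h1; exact (spec a ha ha1).1)
    (fun b hb h1 => by
      obtain ⟨a, ha, ha1, rfl⟩ := hAmem b hb h1
      intro h2
      have := Nat.Coprime.coprime_dvd_left h2 (spec a ha ha1).2.1
      norm_num at this)
    (fun b hb h1 c hc y hy => by
      have := hconj c b y hy
      rwa [hAc c hc b hb, mul_inv_cancel_right] at this)
    (fun b hb h1 => by
      obtain ⟨a, ha, ha1, rfl⟩ := hAmem b hb h1
      exact Cfsg.Agent.S0205.result (Nat.Coprime.odd_of_right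
        ((spec a ha ha1).2.1.coprime_dvd_right (by norm_num))))
    (fun b hb h1 c hc hc1 => le_core6 inf_le_right (by
      obtain ⟨a, ha, ha1, rfl⟩ := hAmem b hb h1
      exact (spec a ha ha1).2.1.coprime_dvd_left (card_dvd_of_le inf_le_left)))
  set W := ⨆ b : {b : G // b ∈ A ∧ b ≠ 1}, core6 (b : G) with hW
  have hWle : ∀ b ∈ A, b ≠ 1 → core6 b ≤ W := fun b hb h1 =>
    le_iSup (fun b : {b : G // b ∈ A ∧ b ≠ 1} => core6 (b : G)) ⟨b, hb, h1⟩
  have hWconj : ∀ g : G, (∀ b ∈ A, g * b * g⁻¹ ∈ A) → ∀ y ∈ W, g * y * g⁻¹ ∈ W := by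
    intro g hg
    suffices W ≤ W.comap (MulAut.conj g).toMonoidHom from fun y hy => this hy
    refine iSup_le fun b y hy => hWle _ (hg _ b.2.1) (fun h => b.2.2 ?_) (hconj g _ y hy)
    have := congrArg (fun u => g⁻¹ * u * g) h
    simpa [mul_assoc] using this
  have hnorm : ∀ B : Subgroup G, (∀ g ∈ B, ∀ b ∈ A, g * b * g⁻¹ ∈ A) →
      B ≤ normalizer (W : Set G) := fun B hB g hg => mem_normalizer_iff.mpr fun y =>
    ⟨hWconj g (hB g hg) y, fun h => by
      have := hWconj g⁻¹ (hB _ (inv_mem hg)) _ h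
      simpa [mul_assoc] using this⟩
  have hAW : A ≤ normalizer (W : Set G) := hnorm A fun g hg b hb => by
    rw [hAc g hg b hb, mul_inv_cancel_right]; exact hb
  have hcopA : ∀ U : Subgroup G, U ≤ W → (Nat.card A).Coprime (Nat.card U) := fun U hU => by
    rw [hA16, show 16 = 2 ^ 4 by norm_num]
    refine (Nat.prime_two.coprime_iff_not_dvd.mpr fun h => hW2 (h.trans (card_dvd_of_le hU))).pow_left 4
  -- `W` meets the copy trivially
  have hWH : W ⊓ θ.range = ⊥ := by
    refine eq_bot_iff.mpr (CfsgLib.CoprimeAction.le_of_centralizers hAn ?_ (hcopA _ inf_le_left)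
      fun b hb h1 => ?_)
    · intro g hg
      have hgH : g ∈ θ.range := by obtain ⟨a, _, rfl⟩ := hg; exact ⟨a, rfl⟩
      refine mem_normalizer_iff.mpr fun y => ⟨fun h => ?_, fun h => ?_⟩
      · exact ⟨(mem_normalizer_iff.mp (hAW hg) y).mp h.1,
          θ.range.mul_mem (θ.range.mul_mem hgH h.2) (θ.range.inv_mem hgH)⟩
      · refine ⟨(mem_normalizer_iff.mp (hAW hg) y).mpr h.1, ?_⟩
        have := θ.range.mul_mem (θ.range.mul_mem (θ.range.inv_mem hgH) h.2) hgH
        simpa [mul_assoc] using this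
    · rw [inf_right_comm, hWC b hb h1]
      obtain ⟨a, ha, ha1, rfl⟩ := hAmem b hb h1
      exact (spec a ha ha1).2.2.2.le
  -- `W` has order prime to three
  have hW3 : ¬ 3 ∣ Nat.card W := by
    intro h3
    obtain ⟨P, hP⟩ := CfsgLib.CoprimeAction.exists_invariant_sylow hAW (hcopA W le_rfl)
      (Or.inl (CfsgLib.CoprimeAction.isSolvable_of_isMulCommutative A)) 3
    have hPW : (P : Subgroup W).map W.subtype ≤ W := map_subtype_le _
    have hbot : (P : Subgroup W).map W.subtype ≤ ⊥ := by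
      refine CfsgLib.CoprimeAction.le_of_centralizers hAn hP (hcopA _ hPW) fun b hb h1 y hy => ?_
      have hyc : y ∈ core6 b := (hWC b hb h1).le ⟨hPW hy.1, hy.2⟩
      obtain ⟨n, hn⟩ := (P.isPGroup'.map W.subtype) ⟨y, hy.1⟩
      obtain ⟨a, ha, ha1, rfl⟩ := hAmem b hb h1
      have h6 := (spec a ha ha1).2.1.coprime_dvd_left (orderOf_dvd_natCard _ hyc)
      refine mem_bot.mpr (orderOf_eq_one_iff.mp (Nat.eq_one_of_dvd_coprimes
        (Nat.Coprime.pow_right n (h6.coprime_dvd_right (show 3 ∣ 6 by norm_num))) dvd_rfl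
        (orderOf_dvd_of_pow_eq_one ?_)))
      simpa using congrArg Subtype.val hn
    have hPbot : (P : Subgroup W) = ⊥ :=
      (map_eq_bot_iff_of_injective _ W.subtype_injective).mp (le_bot_iff.mp hbot)
    exact P.ne_bot_of_dvd_card h3 hPbot
  -- a group of order nine acts on `W` with centralisers in the copy
  set D0 := closure ({cw, cz} : Set Alt8) with hD0
  have hD0c : IsMulCommutative D0 := Subgroup.isMulCommutative_closure (by
    rintro a (rfl | rfl) b (rfl | rfl) <;> first | rfl | exact cw_cz | exact cw_cz.symm)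
  have hD03 : ∀ a ∈ D0, a ^ 3 = 1 := fun a ha => by
    induction ha using closure_induction with
    | mem a ha => rcases ha with rfl | rfl <;> [exact cw_pow; exact cz_pow]
    | one => exact one_pow 3
    | mul a b ha hb iha ihb =>
      have hab : Commute a b := congrArg Subtype.val (hD0c.is_comm.comm ⟨a, ha⟩ ⟨b, hb⟩)
      rw [hab.mul_pow, iha, ihb, one_mul]
    | inv a _ iha => rw [inv_pow, iha, inv_one]
  have hD0A : ∀ g ∈ D0, ∀ a ∈ E0, g * a * g⁻¹ ∈ E0 := fun g hg => by
    induction hg using closure_induction with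
    | mem g hg => rcases hg with rfl | rfl <;> [exact fun a => cw_E0; exact fun a => cz_E0]
    | one => exact fun a ha => by simpa using ha
    | mul g h _ _ ihg ihh =>
      exact fun a ha => by
        rw [show g * h * a * (g * h)⁻¹ = g * (h * a * h⁻¹) * g⁻¹ by group]
        exact ihg _ (ihh a ha)
    | inv g hg ihg =>
      intro a ha
      rw [show g⁻¹ = g * g by
        rw [inv_eq_iff_mul_eq_one, ← mul_assoc, ← pow_three', hD03 g hg],
        show g * g * a * (g * g)⁻¹ = g * (g * a * g⁻¹) * g⁻¹ by group]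
      exact ihg _ (ihg a ha)
  set B := D0.map θ with hB
  haveI : IsMulCommutative B := by rw [hB]; infer_instance
  have hBp : IsPGroup 3 B := by
    rintro ⟨_, a, ha, rfl⟩
    exact ⟨1, Subtype.ext (by simp [← map_pow, hD03 a ha])⟩
  have hBn : ¬ IsCyclic B := by
    intro h
    obtain ⟨⟨g, hgB⟩, hg⟩ := IsCyclic.exists_generator (α := B)
    obtain ⟨a, ha, rfl⟩ := hgB
    have hz' : ∀ c ∈ D0, ∃ i : Fin 3, c = a ^ i.val := fun c hc => by
      obtain ⟨k, hk⟩ := hg ⟨θ c, c, hc, rfl⟩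
      have hk' : θ (a ^ k) = θ c := by simpa using congrArg Subtype.val hk
      refine ⟨⟨(k % 3).toNat, by omega⟩, ?_⟩
      rw [← hinj hk', ← zpow_natCast, Int.toNat_of_nonneg (Int.emod_nonneg _ (by norm_num))]
      conv_lhs => rw [← Int.emod_add_mul_ediv k 3, zpow_add, zpow_mul,
        show a ^ (3 : ℤ) = 1 by exact_mod_cast hD03 a ha, one_zpow, mul_one]
    obtain ⟨i, hi⟩ := hz' cw (subset_closure (by simp))
    obtain ⟨j, hj⟩ := hz' cz (subset_closure (by simp))
    have key : ∀ i j : Fin 3, cw ^ j.val ≠ cz ^ i.val ∨ (i.val = 0 ∧ j.val = 0) := by decide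
    rcases key i j with h | ⟨h, -⟩
    · refine h ?_
      rw [hi, hj, ← pow_mul, ← pow_mul, mul_comm]
    · rw [h, pow_zero] at hi
      exact absurd hi (by decide)
  have hCB : ∀ b ∈ B, b ≠ 1 → centralizer {b} ≤ θ.range := by
    rintro _ ⟨d, hd, rfl⟩ h1 c hc
    have hd1 : d ≠ 1 := fun h => h1 (by rw [h, map_one])
    rcases order_three_cases (hD03 d hd) hd1 with ⟨g, hg⟩ | ⟨g, hg⟩
    all_goals
      have hc' : θ g * c * (θ g)⁻¹ ∈ θ.range := by
        first
          | exact hz (by simpa [← map_inv, ← map_mul, hg] using conj_mem_centralizer (g := θ g) hc)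
          | exact hy (by simpa [← map_inv, ← map_mul, hg] using conj_mem_centralizer (g := θ g) hc)
      have h2 := mul_mem (mul_mem (inv_mem (⟨g, rfl⟩ : θ g ∈ θ.range)) hc') ⟨g, rfl⟩
      simpa [mul_assoc] using h2
  have hW1 : W = ⊥ := by
    refine eq_bot_iff.mpr (CfsgLib.CoprimeAction.le_of_centralizers hBn (hnorm B ?_) ?_
      fun b hb h1 => ?_)
    · rintro _ ⟨g, hg, rfl⟩ _ ⟨a, ha, rfl⟩
      exact ⟨g * a * g⁻¹, hD0A g hg a ha, by simp⟩
    · obtain ⟨k, hk⟩ := IsPGroup.iff_card.mp hBp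
      rw [hk]
      exact (Nat.prime_three.coprime_iff_not_dvd.mpr hW3).pow_left k
    · exact hWH ▸ le_inf inf_le_left (inf_le_right.trans (hCB b hb h1))
  have hs0 : ∀ a ∈ E0, a ≠ 1 → centralizer {θ a} ≤ θ.range := fun a ha ha1 g hg => by
    obtain ⟨o, ho, k, hk, rfl⟩ := (spec a ha ha1).2.2.1 g hg
    have ho1 : o = 1 := mem_bot.mp (hW1 ▸ hWle (θ a) ⟨a, ha, rfl⟩
      (fun h => ha1 (hinj (h.trans θ.map_one.symm))) ho)
    rwa [ho1, one_mul]
  intro c hc
  obtain ⟨g, a, ha, ha1, hg⟩ : ∃ g, ∃ a ∈ E0, a ≠ 1 ∧ g * x * g⁻¹ = a := by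
    rcases order_two_cases hx hx1 with ⟨g, hg⟩ | ⟨g, hg⟩
    · exact ⟨g, _, s0_mem_E0, by decide, hg⟩
    · exact ⟨g, _, t0_mem_E0, by decide, hg⟩
  have hc' : θ g * c * (θ g)⁻¹ ∈ θ.range :=
    hs0 a ha ha1 (by simpa [← map_inv, ← map_mul, hg] using conj_mem_centralizer (g := θ g) hc)
  have h2 := mul_mem (mul_mem (inv_mem (⟨g, rfl⟩ : θ g ∈ θ.range)) hc') ⟨g, rfl⟩
  simpa [mul_assoc] using h2

include hinj in
/-- The copy is the whole group. -/
theorem surjective_of_local (hz : centralizer {θ cz} ≤ θ.range)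
    (hy : centralizer {θ cy} ≤ θ.range) (hne : ¬ IsConj (θ s0) (θ t0))
    (hs : LocOdd θ.range (θ s0)) (ht : LocOdd θ.range (θ t0)) : Function.Surjective θ := by
  classical
  have hord : ∀ a : Alt8, a ^ 2 = 1 → a ≠ 1 → orderOf (θ a) = 2 := fun a ha h1 => by
    rw [orderOf_injective θ hinj]; exact orderOf_eq_prime ha h1
  have hinv : ∀ w : G, orderOf w = 2 → w ∈ θ.range := by
    intro w hw
    obtain ⟨a, ha, ha1, hnc⟩ : ∃ a : Alt8, a ^ 2 = 1 ∧ a ≠ 1 ∧ ¬ IsConj (θ a) w := by
      by_cases h : IsConj (θ s0) w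
      · exact ⟨t0, t0_sq, by decide, fun h' => hne (h.trans h'.symm)⟩
      · exact ⟨s0, s0_sq, by decide, h⟩
    obtain ⟨i, hi, hia, hiw, -⟩ :=
      CfsgLib.Involutions.exists_commuting_involution (hord a ha ha1) hw hnc
    obtain ⟨k, rfl⟩ :=
      centralizer_invol_le θ hinj hz hy hs ht ha ha1 (mem_centralizer_singleton_iff.mpr hia)
    rw [orderOf_injective θ hinj] at hi
    refine centralizer_invol_le θ hinj hz hy hs ht (hi ▸ pow_orderOf_eq_one k)
      (fun h => by rw [h, orderOf_one] at hi; norm_num at hi)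
      (mem_centralizer_singleton_iff.mpr hiw.symm)
  -- the copy is normal
  let K : Subgroup Alt8 :=
    { carrier := {a | ∀ g : G, g * θ a * g⁻¹ ∈ θ.range}
      one_mem' := fun g => ⟨1, by simp⟩
      mul_mem' := fun {a b} ha hb g => by
        rw [map_mul, ← conj_mul]; exact mul_mem (ha g) (hb g)
      inv_mem' := fun {a} ha g => by
        rw [map_inv, ← conj_inv]; exact inv_mem (ha g) }
  haveI : K.Normal := ⟨fun a ha b g => by
    have := ha (g * θ b)
    rw [map_mul, map_mul, map_inv]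
    simpa [mul_assoc] using this⟩
  have hK : K = ⊤ := by
    haveI := alternatingGroup.isSimpleGroup (α := Fin 8) (by simp)
    refine (Subgroup.Normal.eq_bot_or_eq_top inferInstance).resolve_left fun h => ?_
    have h1 : s0 ∈ K := fun g => hinv _ (by
      rw [CfsgLib.Involutions.orderOf_conj]; exact hord s0 s0_sq (by decide))
    rw [h, mem_bot] at h1
    exact absurd h1 (by decide)
  intro g
  obtain ⟨x, hx⟩ : g * θ cz * g⁻¹ ∈ θ.range := (hK ▸ mem_top cz : cz ∈ K) g
  have hx3 : x ^ 3 = 1 := hinj (by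
    rw [map_pow, hx, conj_pow, ← map_pow, cz_pow, map_one, mul_one, mul_inv_cancel])
  have hx1 : x ≠ 1 := fun h => by
    rw [h, map_one] at hx
    have : θ cz = 1 := by
      have := congrArg (fun u => g⁻¹ * u * g) hx.symm
      simpa [mul_assoc] using this
    exact absurd (hinj (this.trans θ.map_one.symm)) (by decide)
  rcases order_three_cases hx3 hx1 with ⟨k, hk⟩ | ⟨k, hk⟩
  · have hm : θ k * g ∈ θ.range := by
      refine hz (mem_centralizer_singleton_iff.mpr ?_)
      have : θ k * (g * θ cz * g⁻¹) * (θ k)⁻¹ = θ cz := by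
        rw [← hx, ← map_inv, ← map_mul, ← map_mul, hk]
      calc θ k * g * θ cz = θ k * (g * θ cz * g⁻¹) * (θ k)⁻¹ * (θ k * g) := by group
        _ = _ := by rw [this]
    obtain ⟨m, hm⟩ := hm
    exact ⟨k⁻¹ * m, by rw [map_mul, map_inv, hm, inv_mul_cancel_left]⟩
  · exfalso
    have hg' : θ k * g * θ cz * (θ k * g)⁻¹ = θ cy := by
      rw [← hk, map_mul, map_mul, map_inv, hx]; group
    have hcard : ∀ c : Alt8, centralizer {θ c} ≤ θ.range →
        Nat.card (centralizer ({θ c} : Set G)) = Nat.card (centralizer ({c} : Set Alt8)) := by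
      intro c hc
      rw [← card_map_of_injective (K := centralizer ({c} : Set Alt8)) hinj]
      congr 2
      ext y
      constructor
      · intro hy'
        obtain ⟨m, rfl⟩ := hc hy'
        refine ⟨m, mem_centralizer_singleton_iff.mpr (hinj ?_), rfl⟩
        rw [map_mul, map_mul]
        exact mem_centralizer_singleton_iff.mp hy'
      · rintro ⟨m, hm, rfl⟩
        exact mem_centralizer_singleton_iff.mpr
          (by rw [← map_mul, ← map_mul, mem_centralizer_singleton_iff.mp hm])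
    have heq : Nat.card (centralizer ({θ cz} : Set G)) =
        Nat.card (centralizer ({θ cy} : Set G)) := by
      rw [← card_map_of_injective (K := centralizer ({θ cz} : Set G))
        (f := (MulAut.conj (θ k * g)).toMonoidHom) (MulAut.conj (θ k * g)).injective]
      congr 2
      ext y
      constructor
      · rintro ⟨c, hc, rfl⟩
        rw [← hg']
        exact conj_mem_centralizer hc
      · intro hy'
        refine ⟨(θ k * g)⁻¹ * y * (θ k * g), ?_, by simp [mul_assoc]⟩
        have := conj_mem_centralizer (g := (θ k * g)⁻¹) hy'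
        rw [← hg'] at this
        simpa [mul_assoc] using this
    rw [hcard cz hz, hcard cy hy] at heq
    have h5 := five_dvd_card_centralizer_cz.trans (heq ▸ card_centralizer_cy)
    norm_num at h5

end CfsgLib.AEightThreeLocal
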