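import Cfsg.Agent.Lib.AEightThreeLocal.CentV
import Cfsg.Agent.Lib.AEightThreeLocal.Embed
import Cfsg.Agent.Lib.AEightThreeLocal.FinishB
import Cfsg.Agent.Lib.AEightThreeLocal.FinishAT
import Cfsg.Agent.Lib.AEightThreeLocal.FinishAS

/-!
A group with the three-local data is alternating of degree eight.
-/

set_option autoImplicit false

namespace CfsgLib.AEightThreeLocal

universe u

/-- The three-local data determine the group. -/
theorem nonempty_equiv {G : Type u} [Group G] [Finite G] (L : Datum G) :
    Nonempty (G ≃* alternatingGroup (Fin 8)) := by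
  obtain ⟨M⟩ := L.exists_paired
  obtain ⟨θ, hθ⟩ := M.exists_emb
  have ht := hθ.locOdd_t0
  have hs := hθ.locOdd_s0 ht
  have hsurj : Function.Surjective θ := surjective_of_local θ hθ.inj hθ.cz hθ.cy hθ.st hs ht
  exact ⟨(MulEquiv.ofBijective θ ⟨hθ.inj, hsurj⟩).symm⟩

end CfsgLib.AEightThreeLocal
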