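import Cfsg.Agent.Lib.InvChar.Transfer
import Cfsg.Agent.Lib.PGroups.MaximalClass
import Cfsg.Agent.S4399

/-!
Involutions of a finite group whose Sylow 2-subgroup has a self-centralising four-group `V`: an
involution lying in every normal subgroup of index two is conjugate into `V`.
-/

set_option autoImplicit false
set_option linter.style.haveILetI false

namespace CfsgLib.AEightThreeLocal

/-- A 2-group with a self-centralising four-group has a cyclic subgroup of index two, whose
involution lies in the four-group. -/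
theorem exists_index_two_unique_involution {P : Type*} [Group P] [Finite P] (hP : IsPGroup 2 P)
    (A : Subgroup P) (hA4 : Nat.card A = 4) (hexp : ∀ a ∈ A, a * a = 1)
    (hC : Subgroup.centralizer (A : Set P) = A) :
    ∃ M : Subgroup P, M.index = 2 ∧ ∃ c ∈ A, ∀ m ∈ M, m * m = 1 → m = 1 ∨ m = c := by
  haveI : Fact (Nat.Prime 2) := ⟨Nat.prime_two⟩
  obtain ⟨a, ha⟩ : ∃ a : P, orderOf a * 2 = Nat.card P := by
    obtain ⟨n, hn⟩ := IsPGroup.iff_card.1 hP
    have h2n : 2 ≤ n := by
      by_contra h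
      have h1 : Nat.card A ≤ 2 ^ n := hn ▸ Subgroup.card_le_card_group A
      have h2 : 2 ^ n ≤ 2 ^ 1 := Nat.pow_le_pow_right (by norm_num) (by omega)
      omega
    rcases Nat.eq_or_lt_of_le h2n with h | h
    · haveI : Nontrivial A := Finite.one_lt_card_iff_nontrivial.mp (by omega)
      obtain ⟨a, ha1⟩ := exists_ne (1 : A)
      refine ⟨a, ?_⟩
      rw [orderOf_eq_prime (p := 2) (by rw [pow_two]; exact hexp a a.2)
        (fun h' => ha1 (Subtype.ext h')), hn, ← h]
      norm_num
    · obtain ⟨m, rfl⟩ : ∃ m, n = m + 3 := ⟨n - 3, by omega⟩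
      have hcl := CfsgLib.PGroups.class_of_self_centralizing_sq (m + 3) hn A
        (by rw [hA4]; norm_num) hC
      have hcc := CfsgLib.PGroups.card_commutator_of_maximal_class (by omega) hn hcl
      haveI hK := CfsgLib.PGroups.isKleinFour_abelianization hn (by rw [hcc]; congr 1)
      rcases Cfsg.Agent.S4399.result hP hK.card_four
        (fun x => by rw [pow_two]; exact IsKleinFour.mul_self (G := P ⧸ commutator P) x) with
        h4 | ⟨k, ⟨e⟩⟩ | ⟨k, hc, a, b, ha, -, -⟩ | ⟨k, ⟨e⟩⟩
      · exfalso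
        rw [hn] at h4
        have := Nat.pow_right_injective le_rfl (h4.trans (show 4 = 2 ^ 2 by norm_num))
        omega
      · refine ⟨e.symm (DihedralGroup.r 1), ?_⟩
        haveI : NeZero (2 ^ (k + 2)) := ⟨by positivity⟩
        rw [MulEquiv.orderOf_eq, DihedralGroup.orderOf_r_one, Nat.card_congr e.toEquiv,
          DihedralGroup.nat_card]
        ring
      · exact ⟨a, by rw [ha, hc, ← pow_succ]⟩
      · refine ⟨e.symm (QuaternionGroup.a 1), ?_⟩
        haveI : NeZero (2 ^ (k + 1)) := ⟨by positivity⟩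
        rw [MulEquiv.orderOf_eq, QuaternionGroup.orderOf_a_one, Nat.card_congr e.toEquiv,
          Nat.card_eq_fintype_card, QuaternionGroup.card]
        ring
  set M := Subgroup.zpowers a with hMdef
  have hidx : M.index = 2 := by
    have h1 := M.card_mul_index
    rw [hMdef, Nat.card_zpowers, ← ha] at h1
    exact Nat.eq_of_mul_eq_mul_left (orderOf_pos a) h1
  haveI hMn : M.Normal := Subgroup.normal_of_index_eq_two hidx
  have huniq : ∀ x ∈ M, ∀ y ∈ M, x * x = 1 → y * y = 1 → x ≠ 1 → y ≠ 1 → x = y := by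
    intro x hx y hy hxx hyy hx1 hy1
    classical
    haveI := Fintype.ofFinite M
    have hcyc : IsCyclic M := Subgroup.isCyclic_zpowers a
    have h2 := hcyc.card_pow_eq_one_le (α := M) two_pos
    by_contra hne
    have hsub : ({1, ⟨x, hx⟩, ⟨y, hy⟩} : Finset M) ⊆ Finset.univ.filter (fun u : M => u ^ 2 = 1) := by
      intro u hu
      simp only [Finset.mem_insert, Finset.mem_singleton] at hu
      simp only [Finset.mem_filter, Finset.mem_univ, true_and]
      rcases hu with rfl | rfl | rfl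
      · exact one_pow 2
      · exact Subtype.ext (by rw [pow_two]; exact hxx)
      · exact Subtype.ext (by rw [pow_two]; exact hyy)
    have h3 := (Finset.card_le_card hsub).trans h2
    rw [Finset.card_insert_of_notMem (by simp [Subtype.ext_iff, Ne.symm hx1, Ne.symm hy1]),
      Finset.card_insert_of_notMem (by simp [Subtype.ext_iff, hne]), Finset.card_singleton] at h3
    omega
  refine ⟨M, hidx, ?_⟩
  by_cases hex : ∃ m ∈ M, m * m = 1 ∧ m ≠ 1
  · obtain ⟨m, hm, hmm, hm1⟩ := hex
    refine ⟨m, hC.le (Subgroup.mem_centralizer_iff.mpr fun g _ => ?_), fun x hx hxx =>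
      or_iff_not_imp_left.mpr fun hx1 => huniq x hx m hm hxx hmm hx1 hm1⟩
    have h := huniq _ (hMn.conj_mem m hm g) m hm
      (by rw [show g * m * g⁻¹ * (g * m * g⁻¹) = g * (m * m) * g⁻¹ by group, hmm]; group) hmm
      (fun h' => hm1 (conj_eq_one_iff.mp h')) hm1
    exact mul_inv_eq_iff_eq_mul.mp h
  · exact ⟨1, one_mem A, fun x hx hxx => by
      by_contra hc
      exact hex ⟨x, hx, hxx, fun h => hc (Or.inl h)⟩⟩

/-- An involution lying in every normal subgroup of index two is conjugate into a four-group whose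
centraliser has no further 2-elements. -/
theorem conj_mem_four {G : Type*} [Group G] [Finite G] (V : Subgroup G) (hV4 : Nat.card V = 4)
    (hexp : ∀ a ∈ V, a * a = 1)
    (hself : ∀ g ∈ Subgroup.centralizer (V : Set G), (∃ k : ℕ, g ^ 2 ^ k = 1) → g ∈ V)
    {x : G} (hx : x * x = 1) (hx1 : x ≠ 1)
    (hall : ∀ L : Subgroup G, L.Normal → L.index = 2 → x ∈ L) :
    ∃ g : G, g * x * g⁻¹ ∈ V := by
  haveI : Fact (Nat.Prime 2) := ⟨Nat.prime_two⟩
  have hVp : IsPGroup 2 V := IsPGroup.of_card (n := 2) (by rw [hV4]; norm_num)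
  obtain ⟨S, hS⟩ := hVp.exists_le_sylow
  set A := V.subgroupOf (S : Subgroup G) with hA
  have hA4 : Nat.card A = 4 := by
    rw [Nat.card_congr (Subgroup.subgroupOfEquivOfLe hS).toEquiv, hV4]
  have hAe : ∀ a ∈ A, a * a = 1 := fun a ha => Subtype.ext (hexp _ ha)
  have hAC : Subgroup.centralizer (A : Set (S : Subgroup G)) = A := by
    refine le_antisymm (fun g hg => hself _ (Subgroup.mem_centralizer_iff.mpr fun v hv => ?_) ?_)
      (fun g hg => Subgroup.mem_centralizer_iff.mpr fun v hv => ?_)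
    · exact congrArg Subtype.val (Subgroup.mem_centralizer_iff.mp hg ⟨v, hS hv⟩ hv)
    · obtain ⟨k, hk⟩ := S.isPGroup' g
      exact ⟨k, congrArg Subtype.val hk⟩
    · have hvg := hAe _ (A.mul_mem hv hg)
      calc v * g = v⁻¹ * g⁻¹ := by
            rw [inv_eq_of_mul_eq_one_right (hAe v hv), inv_eq_of_mul_eq_one_right (hAe g hg)]
        _ = (g * v)⁻¹ := (mul_inv_rev g v).symm
        _ = g * v := inv_eq_of_mul_eq_one_right (hAe _ (A.mul_mem hg hv))
  obtain ⟨M, hMi, c, hcA, hM⟩ := exists_index_two_unique_involution S.isPGroup' A hA4 hAe hAC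
  obtain ⟨g₀, hg₀⟩ : ∃ g : G, g * x * g⁻¹ ∈ (S : Subgroup G) := by
    have hxp : IsPGroup 2 (Subgroup.zpowers x) := by
      refine IsPGroup.of_card_dvd_pow (n := 1) ?_
      rw [Nat.card_zpowers, pow_one]
      exact orderOf_dvd_of_pow_eq_one (by rw [pow_two]; exact hx)
    obtain ⟨T, hT⟩ := hxp.exists_le_sylow
    obtain ⟨g, hg⟩ := MulAction.exists_smul_eq G T S
    refine ⟨g, ?_⟩
    rw [← hg]
    exact Subgroup.smul_mem_pointwise_smul x (MulAut.conj g) (T : Subgroup G)
      (hT (Subgroup.mem_zpowers x))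
  set x' := g₀ * x * g₀⁻¹ with hx'
  have hx'1 : x' ≠ 1 := fun h => hx1 (conj_eq_one_iff.mp h)
  have hx'2 : x' * x' = 1 := by
    rw [hx', show g₀ * x * g₀⁻¹ * (g₀ * x * g₀⁻¹) = g₀ * (x * x) * g₀⁻¹ by group, hx]; group
  obtain ⟨g, hg⟩ : ∃ g : G, g * x' * g⁻¹ ∈ M.map (S : Subgroup G).subtype := by
    by_contra! hno
    obtain ⟨H, hHn, hH2, hxH⟩ := CfsgLib.InvChar.exists_index_two_not_mem S
      (M.map (S : Subgroup G).subtype)
      (by rw [Subgroup.relIndex, Subgroup.subgroupOf,
        Subgroup.comap_map_eq_self_of_injective (Subgroup.subtype_injective _), hMi])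
      1 le_rfl
      (fun y _ hyM => by
        rw [Nat.sub_self, pow_zero]
        refine lt_of_le_of_ne (orderOf_pos y) fun h => hyM ?_
        rw [orderOf_eq_one_iff.mp h.symm]
        exact one_mem _)
      x' hg₀ (by rw [pow_one]; exact orderOf_eq_prime (by rw [pow_two]; exact hx'2) hx'1) hno
    exact hxH (hHn.conj_mem x (hall H hHn hH2) g₀)
  obtain ⟨m, hm, hmg⟩ := hg
  simp only [Subgroup.coe_subtype] at hmg
  have hmm : m * m = 1 := Subtype.ext (by
    rw [Subgroup.coe_mul, hmg, Subgroup.coe_one,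
      show g * x' * g⁻¹ * (g * x' * g⁻¹) = g * (x' * x') * g⁻¹ by group, hx'2]; group)
  refine ⟨g * g₀, ?_⟩
  rw [show g * g₀ * x * (g * g₀)⁻¹ = g * x' * g⁻¹ by rw [hx']; group, ← hmg]
  rcases hM m hm hmm with h | h
  · rw [h]; exact one_mem V
  · rw [h]; exact hcA

/-- An element of odd order lies in every subgroup of index two. -/
theorem mem_of_index_two_of_cube {G : Type*} [Group G] {L : Subgroup G} (hL : L.index = 2)
    {a : G} (ha : a ^ 3 = 1) : a ∈ L := by
  have h2 := Subgroup.sq_mem_of_index_two hL (a ^ 2)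
  rwa [← pow_mul, show 2 * 2 = 3 + 1 from rfl, pow_add, ha, one_mul, pow_one] at h2

end CfsgLib.AEightThreeLocal
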