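import Cfsg.Agent.Lib.AEightThreeLocal.Local
import Cfsg.Agent.Lib.AEightThreeLocal.FourTransfer
import Cfsg.Agent.Lib.CoprimeAction.Abelian

/-!
The centralizer of the four-group: after relabelling, it is the product of the two four-groups and
`⟨z⟩`.
-/

set_option autoImplicit false
set_option linter.style.haveILetI false
set_option linter.unusedSectionVars false

namespace CfsgLib.AEightThreeLocal

open Equiv Subgroup

/-! ### Finite checks in the model -/

set_option maxRecDepth 100000 in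
theorem perm5_cent_klein : ∀ b : Perm (Fin 5),
    (∀ i, (vfun i).1.2 * b = b * (vfun i).1.2) → ∃ i, (vfun i).1.2 = b := by decide

/-- The four-group on the points `0, 1, 2, 4`. -/
def kfun (i : Fin 4) : Perm (Fin 5) := Equiv.swap 3 4 * (vfun i).1.2 * Equiv.swap 3 4

/-- Conjugation by the three-cycle. -/
def cj (b : Perm (Fin 5)) : Perm (Fin 5) := c5 * b * c5⁻¹

set_option maxRecDepth 100000 in
set_option maxHeartbeats 2000000 in
theorem perm5_invariant : ∀ b : Perm (Fin 5), Perm.sign b = 1 →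
    ((b * b * b * cj b) ^ 3 = 1 → b * b * b * cj b = 1) →
    ((b * b * cj b) ^ 3 = 1 → b * b * cj b = 1) →
    ((b * cj b * b * cj (cj b)) ^ 3 = 1 → b * cj b * b * cj (cj b) = 1) →
    (b ^ 3 = 1 → b = 1) →
    (∃ i, (vfun i).1.2 = b) ∨ ∃ i, kfun i = b := by decide

set_option maxRecDepth 100000 in
theorem klein_pair : ∀ i j : Fin 4, i ≠ 0 → j ≠ 0 →
    ((vfun i).1.2 * kfun j) ^ 3 = 1 ∧ (vfun i).1.2 * kfun j ≠ 1 ∨
    ((vfun i).1.2 * cj (kfun j)) ^ 3 = 1 ∧ (vfun i).1.2 * cj (kfun j) ≠ 1 ∨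
    ((vfun i).1.2 * cj (cj (kfun j))) ^ 3 = 1 ∧ (vfun i).1.2 * cj (cj (kfun j)) ≠ 1 := by decide

theorem klein_orbit : ∀ i j : Fin 4, i ≠ 0 → j ≠ 0 → vfun j = vfun i ∨
    vfun j = wm * vfun i * wm⁻¹ ∨ vfun j = wm * (wm * vfun i * wm⁻¹) * wm⁻¹ := by decide

theorem vfun_fst : ∀ i, (vfun i).1.1 = 1 := by decide

theorem vfun_ne : ∀ i, i ≠ 0 → vfun i ≠ 1 := by decide

theorem vfun_three : ∀ i, ∃ a b : M35, a ^ 3 = 1 ∧ b ^ 3 = 1 ∧ vfun i = a * b := by
  intro i
  fin_cases i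
  · exact ⟨1, 1, by simp, by simp, by decide⟩
  · exact ⟨⟨(1, Equiv.swap 0 1 * Equiv.swap 1 2), by decide⟩,
      ⟨(1, Equiv.swap 1 2 * Equiv.swap 2 3), by decide⟩, by decide, by decide, by decide⟩
  · exact ⟨⟨(1, Equiv.swap 0 2 * Equiv.swap 2 1), by decide⟩,
      ⟨(1, Equiv.swap 2 1 * Equiv.swap 1 3), by decide⟩, by decide, by decide, by decide⟩
  · exact ⟨⟨(1, Equiv.swap 0 3 * Equiv.swap 3 1), by decide⟩,
      ⟨(1, Equiv.swap 3 1 * Equiv.swap 1 2), by decide⟩, by decide, by decide, by decide⟩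

theorem rzm_three : ∃ a b : M35, a ^ 3 = 1 ∧ b ^ 3 = 1 ∧ rzm = a * b :=
  ⟨⟨(1, Equiv.swap 0 1 * Equiv.swap 1 3), by decide⟩,
    ⟨(1, Equiv.swap 1 3 * Equiv.swap 3 4), by decide⟩, by decide, by decide, by decide⟩

set_option maxRecDepth 100000 in
theorem perm5_norm_c5 : ∀ b : Perm (Fin 5), Perm.sign b = 1 →
    (b * c5 * b⁻¹ = c5 ∨ b * c5 * b⁻¹ = c5 * c5) →
    b = 1 ∨ b = c5 ∨ b = c5 * c5 ∨ b = (rzm).1.2 ∨ b = c5 * (rzm).1.2 ∨
      b = c5 * c5 * (rzm).1.2 := by decide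

set_option maxRecDepth 100000 in
theorem perm3_commute_sign : ∀ a : Perm (Fin 3), a * c3 = c3 * a → Perm.sign a = 1 := by decide

set_option maxRecDepth 100000 in
theorem perm5_even_order : ∀ b : Perm (Fin 5), Perm.sign b = 1 → b ^ 3 = 1 ∨ b ^ 10 = 1 := by decide

set_option maxRecDepth 100000 in
theorem perm5_three_in_pair : ∀ b : Perm (Fin 5), b * c5 = c5 * b → b ^ 3 = 1 → b ≠ 1 →
    b = c5 ∨ b = c5 * c5 := by decide

theorem sign_eq_of_mem (g : M35) : Perm.sign g.1.1 = Perm.sign g.1.2 := by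
  have h : Perm.sign g.1.1 * Perm.sign g.1.2 = 1 := g.2
  rcases Int.units_eq_one_or (Perm.sign g.1.1) with h1 | h1 <;>
    rcases Int.units_eq_one_or (Perm.sign g.1.2) with h2 | h2 <;>
      rw [h1, h2] at h ⊢ <;> first | rfl | exact absurd h (by decide)

theorem commute_zm {g : M35} (h : g * zm = zm * g) :
    (g.1.1 = 1 ∨ g.1.1 = c3 ∨ g.1.1 = c3⁻¹) ∧ Perm.sign g.1.2 = 1 := by
  have h1 : g.1.1 * c3 = c3 * g.1.1 := congrArg (fun x : M35 => x.1.1) h
  have h2 := perm3_commute_sign _ h1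
  refine ⟨perm3_of_cube _ ?_, (sign_eq_of_mem g).symm.trans h2⟩
  revert h2
  generalize g.1.1 = a
  revert a
  decide

theorem cent_vm {g : M35} (h : ∀ i, vfun i * g = g * vfun i) :
    g * zm = zm * g ∧ ∃ i, ∃ n : ℕ, g = vfun i * zm ^ n := by
  obtain ⟨i, hi⟩ := perm5_cent_klein g.1.2 fun i => congrArg (fun x : M35 => x.1.2) (h i)
  have hs : Perm.sign g.1.1 = 1 := by
    rw [sign_eq_of_mem, ← hi, ← sign_eq_of_mem, vfun_fst, map_one]
  have hc : g.1.1 * c3 = c3 * g.1.1 := mul_inv_eq_iff_eq_mul.1 (perm3_even_central _ hs)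
  refine ⟨Subtype.ext (Prod.ext hc (show g.1.2 * 1 = 1 * g.1.2 by rw [one_mul, mul_one])), i, ?_⟩
  have ha : g.1.1 = c3 ^ 0 ∨ g.1.1 = c3 ^ 1 ∨ g.1.1 = c3 ^ 2 := by
    revert hs
    generalize g.1.1 = a
    revert a
    decide
  have key : ∀ n, g.1.1 = c3 ^ n → g = vfun i * zm ^ n := fun n hn =>
    Subtype.ext (Prod.ext (show g.1.1 = (vfun i).1.1 * _ by rw [vfun_fst, one_mul, hn]; rfl)
      (show g.1.2 = (vfun i).1.2 * _ by
        rw [hi, show ((zm ^ n : M35) : Perm (Fin 3) × Perm (Fin 5)).2 = 1 from one_pow n, mul_one]))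
  rcases ha with h' | h' | h'
  exacts [⟨0, key 0 h'⟩, ⟨1, key 1 h'⟩, ⟨2, key 2 h'⟩]

namespace Datum

universe u

variable {G : Type u} [Group G] [Finite G] (L : Datum G)

theorem z_cube : L.z ^ 3 = 1 := L.cube _ L.z_mem

theorem w_cube : L.w ^ 3 = 1 := L.cube _ L.w_mem

theorem orderOf_z : orderOf L.z = 3 := by
  haveI : Fact (Nat.Prime 3) := ⟨Nat.prime_three⟩
  exact orderOf_eq_prime L.z_cube L.z_ne

theorem mem_range_of_commute {g : G} (h : g * L.z = L.z * g) : ∃ m, L.φ m = g ∧ m * zm = zm * m := by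
  have hg : g ∈ normalizer (zpowers L.z : Set G) := by
    refine centralizer_le_normalizer _ (mem_centralizer_iff.2 fun x hx => ?_)
    obtain ⟨k, rfl⟩ := mem_zpowers_iff.1 hx
    exact ((show Commute g L.z from h).zpow_right k).eq.symm
  rw [← L.φ_range] at hg
  obtain ⟨m, rfl⟩ := hg
  exact ⟨m, rfl, L.φ_inj (by rw [map_mul, map_mul, L.φ_zm]; exact h)⟩

include L in
/-- A Sylow `3`-subgroup of the centralizer of an involution has order at most `3`. -/
theorem card_le_three {x : G} (hx : x * x = 1) (hx1 : x ≠ 1) {Q : Subgroup G} (hQ : IsPGroup 3 Q)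
    (hQx : ∀ q ∈ Q, q * x = x * q) : Nat.card Q ≤ 3 := by
  haveI : Fact (Nat.Prime 3) := ⟨Nat.prime_three⟩
  have hDp : IsPGroup 3 L.D := IsPGroup.of_card (n := 2) (by rw [L.card_D]; norm_num)
  obtain ⟨T, hT⟩ := hQ.exists_le_sylow
  obtain ⟨g, hg⟩ := MulAction.exists_smul_eq G T (hDp.toSylow L.not_dvd)
  obtain ⟨k, hk⟩ := IsPGroup.iff_card.1 hQ
  have hTD : (T : Subgroup G).map (MulAut.conj g).toMonoidHom = L.D := congrArg Sylow.toSubgroup hg
  have hle : Q.map (MulAut.conj g).toMonoidHom ≤ L.D := hTD ▸ map_mono hT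
  have hc := card_le_of_le hle
  rw [card_map_of_injective (MulAut.conj g).injective, L.card_D] at hc
  by_contra hlt
  have hk2 : 2 ≤ k := by
    by_contra h
    exact hlt (hk ▸ (Nat.pow_le_pow_right (by norm_num) (by omega : k ≤ 1)))
  have h9 : 9 ≤ Nat.card Q := hk ▸ Nat.pow_le_pow_right (show 0 < 3 by norm_num) hk2
  have heq : Q.map (MulAut.conj g).toMonoidHom = L.D :=
    eq_of_le_of_card_ge hle (by
      rw [card_map_of_injective (MulAut.conj g).injective, L.card_D]; exact h9)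
  have hmem : g * x * g⁻¹ ∈ L.D := by
    rw [← L.self_cent]
    refine mem_centralizer_iff.2 fun d hd => ?_
    rw [← heq] at hd
    obtain ⟨q, hq, rfl⟩ := hd
    show g * q * g⁻¹ * (g * x * g⁻¹) = g * x * g⁻¹ * (g * q * g⁻¹)
    calc g * q * g⁻¹ * (g * x * g⁻¹) = g * (q * x) * g⁻¹ := by group
      _ = g * (x * q) * g⁻¹ := by rw [hQx q hq]
      _ = g * x * g⁻¹ * (g * q * g⁻¹) := by group
  have h3 := L.cube _ hmem
  rw [conj_pow, conj_eq_one_iff, pow_succ, pow_two, hx, one_mul] at h3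
  exact hx1 h3

include L in
/-- Two elements of order three commuting with an involution are conjugate up to inversion. -/
theorem conj_in_cent {H : Subgroup G} {x a b : G} (hx : x * x = 1) (hx1 : x ≠ 1) (ha : a ∈ H)
    (hb : b ∈ H) (hax : a * x = x * a) (hbx : b * x = x * b) (ha3 : a ^ 3 = 1) (hb3 : b ^ 3 = 1)
    (ha1 : a ≠ 1) (hb1 : b ≠ 1) :
    ∃ k ∈ H, k * x = x * k ∧ (k * a * k⁻¹ = b ∨ k * a * k⁻¹ = b⁻¹) := by
  haveI : Fact (Nat.Prime 3) := ⟨Nat.prime_three⟩
  set C := H ⊓ centralizer ({x} : Set G) with hC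
  have hsyl : ∀ {c : G}, c ∈ C → c ^ 3 = 1 → c ≠ 1 → ∃ T : Sylow 3 C,
      (T : Subgroup C).map C.subtype = zpowers c := by
    intro c hc hc3 hc1
    have hp : IsPGroup 3 (zpowers (⟨c, hc⟩ : C)) := by
      refine IsPGroup.of_card_dvd_pow (n := 1) ?_
      rw [Nat.card_zpowers, pow_one]
      exact orderOf_dvd_of_pow_eq_one (Subtype.ext hc3)
    obtain ⟨T, hT⟩ := hp.exists_le_sylow
    have hle : zpowers c ≤ (T : Subgroup C).map C.subtype :=
      zpowers_le.2 ⟨⟨c, hc⟩, hT (mem_zpowers _), rfl⟩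
    refine ⟨T, (eq_of_le_of_card_ge hle ?_).symm⟩
    rw [Nat.card_zpowers, orderOf_eq_prime hc3 hc1]
    refine L.card_le_three hx hx1 (T.isPGroup'.map _) ?_
    rintro _ ⟨q, -, rfl⟩
    exact mem_centralizer_singleton_iff.1 q.2.2
  have haC : a ∈ C := ⟨ha, mem_centralizer_singleton_iff.2 hax⟩
  have hbC : b ∈ C := ⟨hb, mem_centralizer_singleton_iff.2 hbx⟩
  obtain ⟨Ta, hTa⟩ := hsyl haC ha3 ha1
  obtain ⟨Tb, hTb⟩ := hsyl hbC hb3 hb1
  obtain ⟨k, hk⟩ := MulAction.exists_smul_eq C Ta Tb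
  refine ⟨k, k.2.1, mem_centralizer_singleton_iff.1 k.2.2, ?_⟩
  obtain ⟨q, hq, hqa⟩ := hTa.ge (mem_zpowers a)
  have h1 : (k : G) * a * (k : G)⁻¹ ∈ zpowers b := by
    rw [← hTb, ← hk]
    exact ⟨k * q * k⁻¹, smul_mem_pointwise_smul q (MulAut.conj k) (Ta : Subgroup C) hq, by
      simp only [map_mul, map_inv, hqa]; rfl⟩
  obtain ⟨j, hj⟩ := mem_zpowers_iff.1 h1
  have hj3 := Int.emod_add_mul_ediv j 3
  have hb3' : b ^ (3 : ℤ) = 1 := by rw [zpow_ofNat]; exact hb3
  rw [← hj3, zpow_add, zpow_mul, hb3', one_zpow, mul_one] at hj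
  have h0 := Int.emod_nonneg j (show (3 : ℤ) ≠ 0 by norm_num)
  have h2 := Int.emod_lt_of_pos j (show (0 : ℤ) < 3 by norm_num)
  rcases (by omega : j % 3 = 0 ∨ j % 3 = 1 ∨ j % 3 = 2) with h | h | h <;> rw [h] at hj
  · rw [zpow_zero] at hj
    exact absurd (conj_eq_one_iff.1 hj.symm) ha1
  · exact Or.inl (by rw [← hj, zpow_one])
  · refine Or.inr (eq_inv_of_mul_eq_one_left ?_)
    rw [← hj, zpow_ofNat, ← pow_succ]
    exact hb3

/-- The elements of `V` conjugate to each other under `⟨w⟩`. -/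
theorem V_orbit {u v : G} (hu : u ∈ L.V) (hv : v ∈ L.V) (hu1 : u ≠ 1) (hv1 : v ≠ 1) :
    ∃ g ∈ zpowers L.w, g * u * g⁻¹ = v := by
  obtain ⟨x, ⟨i, rfl⟩, rfl⟩ := hu
  obtain ⟨y, ⟨j, rfl⟩, rfl⟩ := hv
  have hi : i ≠ 0 := fun h => hu1 (by rw [h]; exact map_one _)
  have hj : j ≠ 0 := fun h => hv1 (by rw [h]; exact map_one _)
  rcases klein_orbit i j hi hj with h | h | h
  · exact ⟨1, one_mem _, by rw [h, one_mul, inv_one, mul_one]⟩
  · exact ⟨L.w, mem_zpowers _, by rw [h, map_mul, map_mul, map_inv, L.φ_wm]⟩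
  · exact ⟨L.w * L.w, mul_mem (mem_zpowers _) (mem_zpowers _), by
      rw [h, map_mul, map_mul, map_mul, map_mul, map_inv, L.φ_wm]; group⟩

theorem rz_props : L.rz * L.rz = 1 ∧ L.rz ≠ 1 ∧ L.rz * L.z = L.z * L.rz ∧
    L.rz * L.w * L.rz⁻¹ = L.w⁻¹ := by
  refine ⟨?_, fun h => ?_, ?_, ?_⟩
  · rw [rz, ← map_mul, ← map_one L.φ]; exact congrArg L.φ (by decide)
  · rw [rz, ← map_one L.φ] at h; exact absurd (L.φ_inj h) (by decide)
  · rw [rz, ← L.φ_zm, ← map_mul, ← map_mul]; exact congrArg L.φ (by decide)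
  · rw [rz, ← L.φ_wm, ← map_inv, ← map_inv, ← map_mul, ← map_mul]
    exact congrArg L.φ (by decide)

/-- Elements of the model which are products of two elements of order three map into every subgroup
of index two. -/
theorem map_mem {H : Subgroup G} (hH : H.index = 2) {ψ : M35 →* G} {m : M35}
    (hm : ∃ a b : M35, a ^ 3 = 1 ∧ b ^ 3 = 1 ∧ m = a * b) : ψ m ∈ H := by
  obtain ⟨a, b, ha, hb, rfl⟩ := hm
  rw [map_mul]
  exact mul_mem (mem_of_index_two_of_cube hH (by rw [← map_pow, ha, map_one]))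
    (mem_of_index_two_of_cube hH (by rw [← map_pow, hb, map_one]))

/-- An element of `N(D)` fixing `z` lies in every subgroup of index two. -/
theorem cent_z_norm_D {H : Subgroup G} (hH : H.index = 2) {g : G} (hgz : g * L.z = L.z * g)
    (hgD : g ∈ normalizer (L.D : Set G)) : g ∈ H := by
  obtain ⟨m, rfl, hm⟩ := L.mem_range_of_commute hgz
  obtain ⟨ha, hb⟩ := commute_zm hm
  have hconj : m.1.2 * c5 * m.1.2⁻¹ = c5 ∨ m.1.2 * c5 * m.1.2⁻¹ = c5 * c5 := by
    have h1 : L.φ (m * wm * m⁻¹) ∈ L.D := by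
      rw [map_mul, map_mul, map_inv, L.φ_wm]
      exact (mem_normalizer_iff.1 hgD L.w).1 L.w_mem
    have h2 : (m * wm * m⁻¹) * zm = zm * (m * wm * m⁻¹) := L.φ_inj (by
      rw [map_mul L.φ (m * wm * m⁻¹), map_mul L.φ zm, L.φ_zm]
      exact L.comm _ h1 _ L.z_mem)
    have h3 : (m * wm * m⁻¹) * wm = wm * (m * wm * m⁻¹) := L.φ_inj (by
      rw [map_mul L.φ (m * wm * m⁻¹), map_mul L.φ wm, L.φ_wm]
      exact L.comm _ h1 _ L.w_mem)
    have h4 : (m.1.2 * c5 * m.1.2⁻¹) * c5 = c5 * (m.1.2 * c5 * m.1.2⁻¹) :=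
      congrArg (fun x : M35 => x.1.2) h3
    have h5 : (m.1.2 * c5 * m.1.2⁻¹) ^ 3 = 1 := by
      rw [conj_pow, show c5 ^ 3 = 1 by decide]; group
    have h6 : m.1.2 * c5 * m.1.2⁻¹ ≠ 1 := fun h => absurd (conj_eq_one_iff.1 h) (by decide)
    exact perm5_three_in_pair _ h4 h5 h6
  obtain ⟨a', ha'⟩ : ∃ a' : M35, a' ^ 3 = 1 ∧ a'.1 = (m.1.1, (1 : Perm (Fin 5))) := by
    rcases ha with h | h | h
    · exact ⟨1, one_pow 3, by rw [h]; rfl⟩
    · exact ⟨zm, by decide, by rw [h]; rfl⟩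
    · exact ⟨zm⁻¹, by decide, by rw [h]; decide⟩
  obtain ⟨b', hb'⟩ : ∃ b' : M35, L.φ b' ∈ H ∧ b'.1 = ((1 : Perm (Fin 3)), m.1.2) := by
    have hw : L.φ wm ∈ H := mem_of_index_two_of_cube hH (by rw [L.φ_wm]; exact L.w_cube)
    have hr : L.φ rzm ∈ H := map_mem hH rzm_three
    rcases perm5_norm_c5 _ hb hconj with h | h | h | h | h | h
    · exact ⟨1, by rw [map_one]; exact one_mem H, by rw [h]; rfl⟩
    · exact ⟨wm, hw, by rw [h]; rfl⟩
    · exact ⟨wm * wm, by rw [map_mul]; exact mul_mem hw hw, by rw [h]; rfl⟩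
    · exact ⟨rzm, hr, by rw [h]; rfl⟩
    · exact ⟨wm * rzm, by rw [map_mul]; exact mul_mem hw hr, by rw [h]; rfl⟩
    · exact ⟨wm * wm * rzm, by rw [map_mul, map_mul]; exact mul_mem (mul_mem hw hw) hr,
        by rw [h]; rfl⟩
  have hm' : m = a' * b' := Subtype.ext (by
    rw [Subgroup.coe_mul, ha'.2, hb'.2, Prod.mk_mul_mk, mul_one, one_mul])
  rw [hm', map_mul]
  exact mul_mem (mem_of_index_two_of_cube hH (by rw [← map_pow, ha'.1, map_one])) hb'.1

/-- The centralizer of `V` is larger than `V × ⟨z⟩`. -/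
theorem exists_cent_not_mem :
    ∃ g ∈ centralizer (L.V : Set G), (∃ k : ℕ, g ^ 2 ^ k = 1) ∧ g ∉ L.V := by
  by_contra hcon
  push Not at hcon
  have hself : ∀ g ∈ centralizer (L.V : Set G), (∃ k : ℕ, g ^ 2 ^ k = 1) → g ∈ L.V :=
    fun g hg hk => hcon g hg hk
  obtain ⟨hr2, hr1, hrz, hrw⟩ := L.rz_props
  obtain ⟨hs2, hs1, hsw, hsz⟩ := L.swap.rz_props
  rw [L.swap_z] at hsw
  rw [L.swap_w] at hsz
  -- `t` lies in every subgroup of index two
  have ht : ∀ H : Subgroup G, H.Normal → H.index = 2 → L.t ∈ H := by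
    intro H _ hH
    by_contra htH
    have hVH : L.V ≤ H := by
      rintro _ ⟨x, ⟨i, rfl⟩, rfl⟩
      exact map_mem hH (vfun_three i)
    have hV4 : Nat.card (L.V.subgroupOf H) = 4 := by
      rw [Nat.card_congr (subgroupOfEquivOfLe hVH).toEquiv, L.card_V]
    have hself' : ∀ g ∈ centralizer (L.V.subgroupOf H : Set H),
        (∃ k : ℕ, g ^ 2 ^ k = 1) → g ∈ L.V.subgroupOf H := by
      rintro g hg ⟨k, hk⟩
      refine hself _ (mem_centralizer_iff.2 fun v hv => ?_) ⟨k, congrArg Subtype.val hk⟩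
      exact congrArg Subtype.val (mem_centralizer_iff.1 hg ⟨v, hVH hv⟩ hv)
    have hintoV : ∀ (ψ : M35 →* G), ψ rzm ≠ 1 → ψ rzm * ψ rzm = 1 →
        ∃ g ∈ H, g * ψ rzm * g⁻¹ ∈ L.V := by
      intro ψ h1 h2
      have hmemH : ψ rzm ∈ H := map_mem hH rzm_three
      obtain ⟨g, hg⟩ := conj_mem_four (L.V.subgroupOf H) hV4
        (fun a ha => Subtype.ext (L.V_sq _ ha)) hself' (x := (⟨ψ rzm, hmemH⟩ : H))
        (Subtype.ext h2) (fun h => h1 (congrArg Subtype.val h))
        (fun K _ hK => by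
          obtain ⟨a, b, ha, hb, hab⟩ := rzm_three
          have haH : ψ a ∈ H := mem_of_index_two_of_cube hH (by rw [← map_pow, ha, map_one])
          have hbH : ψ b ∈ H := mem_of_index_two_of_cube hH (by rw [← map_pow, hb, map_one])
          have e : (⟨ψ rzm, hmemH⟩ : H) = ⟨ψ a, haH⟩ * ⟨ψ b, hbH⟩ :=
            Subtype.ext (show ψ rzm = ψ a * ψ b by rw [hab, map_mul])
          rw [e]
          exact mul_mem
            (mem_of_index_two_of_cube hK (Subtype.ext (show ψ a ^ 3 = 1 by rw [← map_pow, ha, map_one])))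
            (mem_of_index_two_of_cube hK (Subtype.ext (show ψ b ^ 3 = 1 by rw [← map_pow, hb, map_one]))))
      exact ⟨g, g.2, hg⟩
    obtain ⟨g1, hg1H, hg1⟩ := hintoV L.φ hr1 hr2
    obtain ⟨g2, hg2H, hg2⟩ := hintoV L.φ' hs1 hs2
    obtain ⟨g3, hg3, hg3e⟩ := L.V_orbit hg1 hg2 (fun h => hr1 (conj_eq_one_iff.1 h))
      (fun h => hs1 (conj_eq_one_iff.1 h))
    have hwH : L.w ∈ H := mem_of_index_two_of_cube hH L.w_cube
    have hzH : L.z ∈ H := mem_of_index_two_of_cube hH L.z_cube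
    set l := g2⁻¹ * (g3 * g1) with hl
    have hlH : l ∈ H := mul_mem (inv_mem hg2H) (mul_mem (zpowers_le.2 hwH hg3) hg1H)
    have hlr : l * L.rz * l⁻¹ = L.swap.rz := by
      calc l * L.rz * l⁻¹ = g2⁻¹ * (g3 * (g1 * L.φ rzm * g1⁻¹) * g3⁻¹) * g2 := by
            rw [hl]; show _ = _; simp only [rz]; group
        _ = g2⁻¹ * (g2 * L.φ' rzm * g2⁻¹) * g2 := by rw [hg3e]
        _ = L.swap.rz := by show _ = L.φ' rzm; group
    -- move `z` to `w` inside `H`
    have hax : l * L.z * l⁻¹ * L.swap.rz = L.swap.rz * (l * L.z * l⁻¹) := by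
      rw [← hlr]
      calc l * L.z * l⁻¹ * (l * L.rz * l⁻¹) = l * (L.z * L.rz) * l⁻¹ := by group
        _ = l * (L.rz * L.z) * l⁻¹ := by rw [hrz]
        _ = l * L.rz * l⁻¹ * (l * L.z * l⁻¹) := by group
    obtain ⟨k, hkH, -, hk⟩ := L.conj_in_cent (H := H) hs2 hs1
      (mul_mem (mul_mem hlH hzH) (inv_mem hlH)) hwH hax hsw.symm
      (by rw [conj_pow, L.z_cube]; group) L.w_cube
      (fun h => L.z_ne (conj_eq_one_iff.1 h)) L.w_ne
    obtain ⟨g, hgH, hgz⟩ : ∃ g ∈ H, g * L.z * g⁻¹ = L.w := by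
      rcases hk with h | h
      · exact ⟨k * l, mul_mem hkH hlH, by rw [← h]; group⟩
      · refine ⟨L.rz * (k * l), mul_mem (map_mem hH rzm_three) (mul_mem hkH hlH), ?_⟩
        calc L.rz * (k * l) * L.z * (L.rz * (k * l))⁻¹
            = L.rz * (k * (l * L.z * l⁻¹) * k⁻¹) * L.rz⁻¹ := by group
          _ = L.rz * L.w⁻¹ * L.rz⁻¹ := by rw [h]
          _ = (L.rz * L.w * L.rz⁻¹)⁻¹ := by group
          _ = L.w := by rw [hrw, inv_inv]
    -- Burnside: the conjugation can be realised in `N(D)`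
    haveI : Fact (Nat.Prime 3) := ⟨Nat.prime_three⟩
    set C := H ⊓ centralizer ({L.w} : Set G) with hC
    have hDH : L.D ≤ H := fun a ha => mem_of_index_two_of_cube hH (L.cube a ha)
    have hDC : L.D ≤ C := fun a ha =>
      ⟨hDH ha, mem_centralizer_singleton_iff.2 (L.comm a ha _ L.w_mem)⟩
    have hD'C : L.D.map (MulAut.conj g).toMonoidHom ≤ C := by
      rintro _ ⟨a, ha, rfl⟩
      refine mem_inf.2 ⟨mul_mem (mul_mem hgH (hDH ha)) (inv_mem hgH),
        mem_centralizer_singleton_iff.2 ?_⟩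
      show g * a * g⁻¹ * L.w = L.w * (g * a * g⁻¹)
      rw [← hgz]
      calc g * a * g⁻¹ * (g * L.z * g⁻¹) = g * (a * L.z) * g⁻¹ := by group
        _ = g * (L.z * a) * g⁻¹ := by rw [L.comm a ha _ L.z_mem]
        _ = g * L.z * g⁻¹ * (g * a * g⁻¹) := by group
    have hDp : IsPGroup 3 L.D := IsPGroup.of_card (n := 2) (by rw [L.card_D]; norm_num)
    have hsyl : ∀ {Q : Subgroup G}, Q ≤ C → Nat.card Q = 9 →
        ∃ T : Sylow 3 C, (T : Subgroup C).map C.subtype = Q := by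
      intro Q hQC hQ9
      have hQp : IsPGroup 3 (Q.subgroupOf C) := IsPGroup.of_card (n := 2) (by
        rw [Nat.card_congr (subgroupOfEquivOfLe hQC).toEquiv, hQ9]; norm_num)
      obtain ⟨T, hT⟩ := hQp.exists_le_sylow
      have hle : Q ≤ (T : Subgroup C).map C.subtype := fun q hq => ⟨⟨q, hQC hq⟩, hT hq, rfl⟩
      refine ⟨T, (eq_of_le_of_card_ge hle ?_).symm⟩
      obtain ⟨T', hT'⟩ := (T.isPGroup'.map C.subtype).exists_le_sylow
      refine (card_le_of_le hT').trans ?_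
      rw [hQ9, ← L.card_D, Sylow.card_eq_multiplicity T',
        ← Sylow.card_eq_multiplicity (hDp.toSylow L.not_dvd)]
      exact le_of_eq rfl
    obtain ⟨T1, hT1⟩ := hsyl hD'C (by
      rw [card_map_of_injective (MulAut.conj g).injective, L.card_D])
    obtain ⟨T2, hT2⟩ := hsyl hDC L.card_D
    obtain ⟨c, hc⟩ := MulAction.exists_smul_eq C T1 T2
    set nn := (c : G) * g with hnn
    have hnD : nn ∈ normalizer (L.D : Set G) := by
      refine mem_normalizer_fintype fun a ha => ?_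
      obtain ⟨q, hq, hqa⟩ := hT1.ge ⟨a, ha, rfl⟩
      show nn * a * nn⁻¹ ∈ L.D
      rw [← hT2, ← hc]
      refine ⟨c * q * c⁻¹, smul_mem_pointwise_smul q (MulAut.conj c) (T1 : Subgroup C) hq, ?_⟩
      simp only [map_mul, map_inv, hqa]
      show (c : G) * (g * a * g⁻¹) * (c : G)⁻¹ = _
      rw [hnn]; group
    have hnz : nn * L.z * nn⁻¹ = L.w := by
      calc nn * L.z * nn⁻¹ = c * (g * L.z * g⁻¹) * (c : G)⁻¹ := by rw [hnn]; group
        _ = L.w := by
          rw [hgz, mem_centralizer_singleton_iff.1 c.2.2, mul_inv_cancel_right]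
    have htn : L.t * nn ∈ H := by
      refine L.cent_z_norm_D hH ?_ (mul_mem L.t_mem hnD)
      have h1 : nn * L.z = L.w * nn := by rw [← hnz]; group
      have h2 : L.t * L.w = L.z * L.t := by
        rw [← L.tw, mul_assoc, L.t_sq, mul_one]
      calc L.t * nn * L.z = L.t * L.w * nn := by rw [mul_assoc, h1, ← mul_assoc]
        _ = L.z * (L.t * nn) := by rw [h2, mul_assoc]
    exact htH (by
      have := mul_mem htn (inv_mem (mul_mem c.2.1 hgH))
      rwa [hnn, mul_inv_cancel_right] at this)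
  have ht1 : L.t ≠ 1 := by
    intro h
    have h1 := L.tz
    rw [h, one_mul, mul_one] at h1
    have h2 : L.φ zm = L.φ wm := by rw [L.φ_zm, L.φ_wm]; exact h1
    exact absurd (L.φ_inj h2) (by decide)
  obtain ⟨g, hg⟩ := conj_mem_four L.V L.card_V L.V_sq hself L.t_sq ht1 ht
  set v := g * L.t * g⁻¹ with hv
  have hv1 : v ≠ 1 := fun h => ht1 (conj_eq_one_iff.1 h)
  set y := L.z * L.w with hy
  have hty : L.t * y = y * L.t := by
    have h1 : L.t * L.z = L.w * L.t := by rw [← L.tz, mul_assoc, L.t_sq, mul_one]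
    have h2 : L.t * L.w = L.z * L.t := by rw [← L.tw, mul_assoc, L.t_sq, mul_one]
    rw [hy, ← mul_assoc, h1, mul_assoc, h2, ← mul_assoc, ← L.zw_comm]
  have hgy : g * y * g⁻¹ * v = v * (g * y * g⁻¹) := by
    rw [hv]
    calc g * y * g⁻¹ * (g * L.t * g⁻¹) = g * (y * L.t) * g⁻¹ := by group
      _ = g * (L.t * y) * g⁻¹ := by rw [hty]
      _ = g * L.t * g⁻¹ * (g * y * g⁻¹) := by group
  have hy3 : y ^ 3 = 1 := L.cube _ (mul_mem L.z_mem L.w_mem)
  have hy1 : y ≠ 1 := by
    intro h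
    have h1 : L.φ (zm * wm) = L.φ 1 := by rw [map_mul, L.φ_zm, L.φ_wm, map_one]; exact h
    exact absurd (L.φ_inj h1) (by decide)
  obtain ⟨k, -, -, hk⟩ := L.conj_in_cent (H := ⊤) (L.V_sq _ hg) hv1 (mem_top _) (mem_top _)
    hgy (L.z_comm_V _ hg) (by rw [conj_pow, hy3]; group) L.z_cube
    (fun h => hy1 (conj_eq_one_iff.1 h)) L.z_ne
  have h180 : ∀ b, (b = L.z ∨ b = L.z⁻¹) → k * (g * y * g⁻¹) * k⁻¹ = b → False := by
    intro b hb hkb
    have hcz : 180 ≤ Nat.card (centralizer ({L.z} : Set G)) := by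
      have hidx : (centralizer ({L.z} : Set G)).relIndex (normalizer (zpowers L.z : Set G)) ≤ 2 := by
        rw [← centralizer_closure, ← zpowers_eq_closure, relIndex, index]
        have key := card_le_card_group (G := MulAut (zpowers L.z))
          (zpowers L.z).normalizerMonoidHom.range
        rw [← Nat.card_congr (QuotientGroup.quotientKerEquivRange _).toEquiv,
          normalizerMonoidHom_ker] at key
        refine key.trans ?_
        rw [IsCyclic.card_mulAut, Nat.card_zpowers, L.orderOf_z]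
        decide
      have h1 := (centralizer ({L.z} : Set G)).subgroupOf (normalizer (zpowers L.z : Set G))
        |>.card_mul_index
      rw [L.card_norm] at h1
      have h2 : Nat.card ((centralizer ({L.z} : Set G)).subgroupOf
          (normalizer (zpowers L.z : Set G))) ≤ Nat.card (centralizer ({L.z} : Set G)) := by
        refine Nat.card_le_card_of_injective (fun u => (⟨u.1, u.2⟩ : centralizer ({L.z} : Set G)))
          fun u w huw => ?_
        exact Subtype.ext (Subtype.ext (congrArg Subtype.val huw :))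
      rw [relIndex] at hidx
      nlinarith
    have hle : (centralizer ({L.z} : Set G)).map (MulAut.conj (k * g)⁻¹).toMonoidHom ≤
        centralizer ({y} : Set G) := by
      rintro _ ⟨u, hu, rfl⟩
      refine mem_centralizer_singleton_iff.2 ?_
      have hu' : u * b = b * u := by
        rcases hb with rfl | rfl
        · exact mem_centralizer_singleton_iff.1 hu
        · exact (show Commute u L.z from mem_centralizer_singleton_iff.1 hu).inv_right
      show (k * g)⁻¹ * u * (k * g)⁻¹⁻¹ * y = y * ((k * g)⁻¹ * u * (k * g)⁻¹⁻¹)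
      have hyb : y = (k * g)⁻¹ * b * (k * g) := by rw [← hkb]; group
      rw [hyb, inv_inv]
      calc (k * g)⁻¹ * u * (k * g) * ((k * g)⁻¹ * b * (k * g))
          = (k * g)⁻¹ * (u * b) * (k * g) := by group
        _ = (k * g)⁻¹ * (b * u) * (k * g) := by rw [hu']
        _ = (k * g)⁻¹ * b * (k * g) * ((k * g)⁻¹ * u * (k * g)) := by group
    have := card_le_of_le hle
    rw [card_map_of_injective (MulAut.conj (k * g)⁻¹).injective, L.card_zw] at this
    omega
  rcases hk with h | h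
  exacts [h180 _ (Or.inl rfl) h, h180 _ (Or.inr rfl) h]

theorem z_mem_cent_V : L.z ∈ centralizer (L.V : Set G) :=
  mem_centralizer_iff.2 fun v hv => (L.z_comm_V v hv).symm

theorem eq_of_cent_V {g : G} (hg : g ∈ centralizer (L.V : Set G))
    (hgz : g ∈ normalizer (zpowers L.z : Set G)) :
    g * L.z = L.z * g ∧ ∃ v ∈ L.V, ∃ n : ℕ, g = v * L.z ^ n := by
  rw [← L.φ_range] at hgz
  obtain ⟨m, rfl⟩ := hgz
  obtain ⟨hm, i, n, hn⟩ := cent_vm (g := m) fun i => L.φ_inj (by
    rw [map_mul, map_mul]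
    exact mem_centralizer_iff.1 hg _ ⟨vfun i, ⟨i, rfl⟩, rfl⟩)
  refine ⟨by rw [← L.φ_zm, ← map_mul, hm, map_mul], L.φ (vfun i), ⟨_, ⟨i, rfl⟩, rfl⟩, n, ?_⟩
  rw [hn, map_mul, map_pow, L.φ_zm]

/-- The normal `3`-complement of the centralizer of `V`. -/
theorem exists_complement : ∃ K : Subgroup G, K ≤ centralizer (L.V : Set G) ∧ L.V ≤ K ∧
    ¬ 3 ∣ Nat.card K ∧ (∀ d ∈ L.D, ∀ u ∈ K, d * u * d⁻¹ ∈ K) ∧
    (∀ u ∈ centralizer (L.V : Set G), ¬ 3 ∣ orderOf u → u ∈ K) ∧
    centralizer (L.V : Set G) = K ⊔ zpowers L.z := by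
  haveI : Fact (Nat.Prime 3) := ⟨Nat.prime_three⟩
  set X := centralizer (L.V : Set G) with hX
  set Z := zpowers (⟨L.z, L.z_mem_cent_V⟩ : X) with hZ
  have hZ3 : Nat.card Z = 3 := by
    rw [hZ, Nat.card_zpowers, ← orderOf_injective X.subtype X.subtype_injective]
    exact L.orderOf_z
  obtain ⟨v, hv, hv1⟩ : ∃ v ∈ L.V, v ≠ 1 := ⟨L.φ (vfun 1), ⟨_, ⟨1, rfl⟩, rfl⟩, fun h =>
    vfun_ne 1 (by decide) (L.φ_inj (h.trans (map_one _).symm))⟩
  have hZp : IsPGroup 3 Z := IsPGroup.of_card (n := 1) (by rw [hZ3, pow_one])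
  obtain ⟨P, hP⟩ := hZp.exists_le_sylow
  have hPeq : (P : Subgroup X) = Z := by
    refine (eq_of_le_of_card_ge hP ?_).symm
    rw [hZ3, ← card_map_of_injective X.subtype_injective]
    refine L.card_le_three (L.V_sq v hv) hv1 (P.isPGroup'.map _) ?_
    rintro _ ⟨q, -, rfl⟩
    exact (mem_centralizer_iff.1 q.2 v hv).symm
  have hNC : normalizer ((P : Subgroup X) : Set X) ≤ centralizer (P : Set X) := by
    intro g hg
    refine mem_centralizer_iff.2 fun q hq => ?_
    rw [hPeq] at hg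
    have hgn : (g : G) ∈ normalizer (zpowers L.z : Set G) := by
      refine mem_normalizer_fintype fun u hu => ?_
      obtain ⟨j, rfl⟩ := mem_zpowers_iff.1 hu
      obtain ⟨i, hi⟩ := mem_zpowers_iff.1 ((mem_normalizer_iff.1 hg _).1
        (zpow_mem (mem_zpowers (⟨L.z, L.z_mem_cent_V⟩ : X)) j))
      refine mem_zpowers_iff.2 ⟨i, ?_⟩
      have := congrArg Subtype.val hi
      simpa using this
    have hcomm : Commute g (⟨L.z, L.z_mem_cent_V⟩ : X) :=
      Subtype.ext (L.eq_of_cent_V g.2 hgn).1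
    rw [SetLike.mem_coe] at hq
    have hq' : q ∈ Z := hPeq ▸ hq
    obtain ⟨j, rfl⟩ := mem_zpowers_iff.1 hq'
    exact ((hcomm.zpow_right j).eq).symm
  set f := MonoidHom.transferSylow P hNC
  have hcompl := MonoidHom.ker_transferSylow_isComplement' P hNC
  have hKmem : ∀ u : X, ¬ 3 ∣ orderOf u → u ∈ f.ker := by
    intro u hu
    rw [MonoidHom.mem_ker, ← orderOf_eq_one_iff]
    have h1 := orderOf_map_dvd f u
    have h2 : orderOf (f u) ∣ 3 := by
      have h3 := orderOf_dvd_natCard (f u)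
      have hc : Nat.card (P : Subgroup X) = 3 := by rw [hPeq]; exact hZ3
      rw [hc] at h3
      exact h3
    rcases (Nat.dvd_prime Nat.prime_three).1 h2 with h | h
    · exact h
    · exact absurd (h ▸ h1) hu
  have hK3 : ¬ 3 ∣ Nat.card f.ker := MonoidHom.not_dvd_card_ker_transferSylow P hNC
  refine ⟨f.ker.map X.subtype, map_subtype_le _, fun u hu => ⟨⟨u, ?_⟩, hKmem _ ?_, rfl⟩, ?_, ?_,
    fun u hu h3 => ⟨⟨u, hu⟩, hKmem _ (by rwa [← orderOf_injective X.subtype X.subtype_injective]),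
      rfl⟩, ?_⟩
  · exact mem_centralizer_iff.2 fun a ha => L.V_comm a ha u hu
  · rw [← orderOf_injective X.subtype X.subtype_injective]
    exact fun h => absurd (h.trans (orderOf_dvd_of_pow_eq_one (n := 2) (show u ^ 2 = 1 by
      rw [pow_two]; exact L.V_sq u hu))) (by decide)
  · rwa [card_map_of_injective X.subtype_injective]
  · intro a ha u hu
    obtain ⟨u, huK, rfl⟩ := hu
    have hnorm : a ∈ normalizer (L.V : Set G) := by
      rw [L.D_eq] at ha
      refine (closure_le _).2 ?_ ha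
      rintro b (rfl | rfl)
      · exact mem_normalizer_fintype fun q hq => by
          rw [L.z_comm_V q hq, mul_inv_cancel_right]; exact hq
      · exact mem_normalizer_fintype fun q hq => L.w_norm_V q hq
    have hmem : a * X.subtype u * a⁻¹ ∈ X := mem_centralizer_iff.2 fun q hq => by
      have hq' : a⁻¹ * q * a ∈ L.V := (mem_normalizer_iff''.1 hnorm q).1 hq
      have h := mem_centralizer_iff.1 u.2 _ hq'
      calc q * (a * X.subtype u * a⁻¹) = a * ((a⁻¹ * q * a) * u) * a⁻¹ := by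
            show q * (a * (u : G) * a⁻¹) = _; group
        _ = a * ((u : G) * (a⁻¹ * q * a)) * a⁻¹ := by rw [h]
        _ = a * X.subtype u * a⁻¹ * q := by show _ = a * (u : G) * a⁻¹ * q; group
    refine ⟨⟨_, hmem⟩, hKmem _ ?_, rfl⟩
    rw [← orderOf_injective X.subtype X.subtype_injective]
    show ¬ 3 ∣ orderOf (a * (u : G) * a⁻¹)
    have he : orderOf (a * (u : G) * a⁻¹) = orderOf (⟨u, huK⟩ : f.ker) := by
      rw [show a * (u : G) * a⁻¹ = MulAut.conj a (u : G) from rfl, MulEquiv.orderOf_eq,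
        Subgroup.orderOf_mk, orderOf_coe]
    rw [he]
    exact fun h => hK3 (h.trans (orderOf_dvd_natCard _))
  · have hsup : f.ker ⊔ (P : Subgroup X) = ⊤ := hcompl.sup_eq_top
    have hP' : (P : Subgroup X).map X.subtype = zpowers L.z := by
      rw [hPeq, hZ, MonoidHom.map_zpowers]; rfl
    have := congrArg (Subgroup.map X.subtype) hsup
    rw [Subgroup.map_sup, hP', ← MonoidHom.range_eq_map, range_subtype] at this
    exact this.symm

/-- The part centralized by a diagonal element is trivial. -/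
theorem inf_cent_eq_bot {K : Subgroup G} (hK3 : ¬ 3 ∣ Nat.card K)
    (hnorm : ∀ d ∈ L.D, ∀ u ∈ K, d * u * d⁻¹ ∈ K) {y : G} (hy : y ∈ L.D)
    (hyN : centralizer ({y} : Set G) ≤ normalizer (L.D : Set G)) :
    ∀ u ∈ K, u * y = y * u → u = 1 := by
  intro u hu huy
  have hN : u ∈ normalizer (L.D : Set G) := hyN (mem_centralizer_singleton_iff.2 huy)
  have key : ∀ a ∈ K, a ^ 3 = 1 → a = 1 := fun a ha ha3 => by
    by_contra ha1
    haveI : Fact (Nat.Prime 3) := ⟨Nat.prime_three⟩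
    have h := orderOf_dvd_natCard (⟨a, ha⟩ : K)
    rw [Subgroup.orderOf_mk, orderOf_eq_prime ha3 ha1] at h
    exact hK3 h
  have hcent : u ∈ L.D := by
    rw [← L.self_cent]
    refine mem_centralizer_iff.2 fun d hd => ?_
    have h1 : d * u * d⁻¹ * u⁻¹ ∈ K := mul_mem (hnorm d hd u hu) (inv_mem hu)
    have h2 : d * u * d⁻¹ * u⁻¹ ∈ L.D := by
      rw [show d * u * d⁻¹ * u⁻¹ = d * (u * d⁻¹ * u⁻¹) by group]
      exact mul_mem hd ((mem_normalizer_iff.1 hN _).1 (inv_mem hd))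
    exact mul_inv_eq_iff_eq_mul.1 (mul_inv_eq_one.1 (key _ h1 (L.cube _ h2)))
  exact key u hu (L.cube u hcent)

/-- The elements of `D`. -/
theorem exists_pow_pow {a : G} (ha : a ∈ L.D) : ∃ i j : Fin 3, a = L.z ^ i.val * L.w ^ j.val := by
  rw [L.D_eq] at ha
  induction ha using closure_induction with
  | mem b hb =>
    rcases hb with rfl | rfl
    · exact ⟨1, 0, by simp⟩
    · exact ⟨0, 1, by simp⟩
  | one => exact ⟨0, 0, by simp⟩
  | mul b c _ _ hb hc =>
    obtain ⟨i, j, rfl⟩ := hb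
    obtain ⟨i', j', rfl⟩ := hc
    have hzw : Commute L.z L.w := L.zw_comm
    refine ⟨i + i', j + j', ?_⟩
    rw [((hzw.symm.pow_pow _ _)).mul_mul_mul_comm, ← pow_add, ← pow_add, Fin.val_add,
      Fin.val_add, ← pow_eq_pow_mod _ L.z_cube, ← pow_eq_pow_mod _ L.w_cube]
  | inv b _ hb =>
    obtain ⟨i, j, rfl⟩ := hb
    have hzw : Commute L.z L.w := L.zw_comm
    refine ⟨2 * i, 2 * j, ?_⟩
    rw [mul_inv_rev, ← ((hzw.pow_pow _ _).inv_inv).eq,
      Fin.val_mul, Fin.val_mul, ← pow_eq_pow_mod _ L.z_cube, ← pow_eq_pow_mod _ L.w_cube]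
    congr 1
    · refine inv_eq_of_mul_eq_one_right ?_
      rw [← pow_add, show i.val + (2 : Fin 3).val * i.val = 3 * i.val from by
        rw [show (2 : Fin 3).val = 2 from rfl]; ring, pow_mul, L.z_cube, one_pow]
    · refine inv_eq_of_mul_eq_one_right ?_
      rw [← pow_add, show j.val + (2 : Fin 3).val * j.val = 3 * j.val from by
        rw [show (2 : Fin 3).val = 2 from rfl]; ring, pow_mul, L.w_cube, one_pow]

/-- Changing the model of `N(⟨w⟩)` by the outer transposition of the last two points. -/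
def relabel : Datum G :=
  { L with
    φ' := L.φ'.comp (outer (1, Equiv.swap 3 4))
    φ'_inj := L.φ'_inj.comp (outer_bijective _).1
    φ'_range := by
      rw [MonoidHom.range_comp, MonoidHom.range_eq_top.2 (outer_bijective _).2,
        ← MonoidHom.range_eq_map]
      exact L.φ'_range
    φ'_zm := by
      rw [MonoidHom.comp_apply, show outer (1, Equiv.swap 3 4) zm = zm from by decide]
      exact L.φ'_zm
    φ'_wm := by
      rw [MonoidHom.comp_apply, show outer (1, Equiv.swap 3 4) wm = wm from by decide]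
      exact L.φ'_wm }

theorem relabel_V : L.relabel.V = L.V := rfl

theorem centV_of_le {L : Datum G} (h : L.V' ≤ centralizer (L.V : Set G))
    (hX : centralizer (L.V : Set G) ≤ L.V ⊔ L.V' ⊔ zpowers L.z) :
    centralizer (L.V : Set G) = L.V ⊔ L.V' ⊔ zpowers L.z := by
  refine le_antisymm hX (sup_le (sup_le ?_ h) (zpowers_le.2 L.z_mem_cent_V))
  exact fun a ha => mem_centralizer_iff.2 fun b hb => L.V_comm b hb a ha

/-- After possibly relabelling the model of `N(⟨w⟩)`, the second four-group centralizes the first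
and `C(V) = V V' ⟨z⟩`. -/
theorem exists_label : ∃ L' : Datum G, L'.V = L.V ∧ L'.z = L.z ∧
    L'.V' ≤ centralizer (L'.V : Set G) ∧ (L' = L ∨ L' = L.relabel) ∧
    centralizer (L'.V : Set G) = L'.V ⊔ L'.V' ⊔ zpowers L'.z := by
  obtain ⟨K, hKX, hVK, hK3, hKn, hK', hXeq⟩ := L.exists_complement
  have key3 : ∀ a ∈ K, a ^ 3 = 1 → a = 1 := fun a ha ha3 => by
    by_contra ha1
    haveI : Fact (Nat.Prime 3) := ⟨Nat.prime_three⟩
    have h := orderOf_dvd_natCard (⟨a, ha⟩ : K)
    rw [Subgroup.orderOf_mk, orderOf_eq_prime ha3 ha1] at h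
    exact hK3 h
  set U := K ⊓ centralizer ({L.w} : Set G) with hU
  set Um := U.comap L.φ' with hUm
  -- the shape of the part centralized by `w`
  have hconj : ∀ m ∈ Um, wm * m * wm⁻¹ ∈ Um := by
    rintro m ⟨hmK, hmw⟩
    refine ⟨?_, mem_centralizer_singleton_iff.2 ?_⟩
    · rw [map_mul, map_mul, map_inv, L.φ'_wm]
      exact hKn _ L.z_mem _ hmK
    · rw [map_mul, map_mul, map_inv, L.φ'_wm]
      have h1 : Commute (L.φ' m) L.w := mem_centralizer_singleton_iff.1 hmw
      have h2 : Commute L.z L.w := L.zw_comm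
      exact ((h2.mul_left h1).mul_left h2.inv_left).eq
  have hfst : ∀ m ∈ Um, m.1.1 = 1 ∧ Perm.sign m.1.2 = 1 ∧ (m.1.2 ^ 3 = 1 → m.1.2 = 1) := by
    rintro m ⟨hmK, hmw⟩
    obtain ⟨ha, hb⟩ := commute_zm (g := m) (L.φ'_inj (by
      rw [map_mul, map_mul, L.φ'_zm]; exact mem_centralizer_singleton_iff.1 hmw))
    have h3 : m.1.1 ^ 3 = 1 := by
      rcases ha with h | h | h <;> rw [h] <;> decide
    have hm3 : ∀ {n : M35}, L.φ' n ∈ K → n ^ 3 = 1 → n = 1 := fun {n} hn hn3 =>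
      L.φ'_inj ((key3 _ hn (by rw [← map_pow, hn3, map_one])).trans (map_one _).symm)
    have ha1 : m.1.1 = 1 := by
      -- a power of `m` isolates the first coordinate
      rcases perm5_even_order _ hb with h | h
      · have := hm3 hmK (Subtype.ext (Prod.ext h3 h))
        rw [this]; rfl
      · have h1 := hm3 (n := m ^ 10) (by rw [map_pow]; exact pow_mem hmK _)
          (Subtype.ext (Prod.ext (show (m.1.1 ^ 10) ^ 3 = 1 by
            rw [← pow_mul, mul_comm, pow_mul, h3, one_pow])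
            (show (m.1.2 ^ 10) ^ 3 = 1 by rw [h, one_pow])))
        have h2 : m.1.1 ^ 10 = 1 := congrArg (fun x : M35 => x.1.1) h1
        rwa [show 10 = 3 * 3 + 1 from rfl, pow_succ, pow_mul, h3, one_pow, one_mul] at h2
    refine ⟨ha1, hb, fun h => ?_⟩
    have := hm3 hmK (Subtype.ext (Prod.ext h3 h))
    rw [this]; rfl
  have hclass : ∀ m ∈ Um, (∃ i, vfun i = m) ∨ ∃ i, outer (1, Equiv.swap 3 4) (vfun i) = m := by
    intro m hm
    obtain ⟨ha, hb, hb3⟩ := hfst m hm
    have c1 := hconj m hm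
    have c2 := hconj _ c1
    have w1 := (hfst _ (mul_mem (mul_mem (mul_mem hm hm) hm) c1)).2.2
    have w2 := (hfst _ (mul_mem (mul_mem hm hm) c1)).2.2
    have w3 := (hfst _ (mul_mem (mul_mem (mul_mem hm c1) hm) c2)).2.2
    rcases perm5_invariant m.1.2 hb w1 w2 w3 hb3 with ⟨i, hi⟩ | ⟨i, hi⟩
    · exact Or.inl ⟨i, Subtype.ext (Prod.ext ((vfun_fst i).trans ha.symm) hi)⟩
    · refine Or.inr ⟨i, Subtype.ext (Prod.ext ?_ ?_)⟩
      · show (1 : Perm (Fin 3)) * (vfun i).1.1 * (1 : Perm (Fin 3))⁻¹ = _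
        rw [vfun_fst, ha, one_mul, inv_one, mul_one]
      · show Equiv.swap 3 4 * (vfun i).1.2 * (Equiv.swap 3 4)⁻¹ = _
        rw [Equiv.swap_inv]; exact hi
  -- `K` is generated by `V` and that part
  have hgen : ∀ W : Subgroup G, L.V ≤ W → U ≤ W → K ≤ W := by
    intro W hVW hUW
    haveI : IsMulCommutative L.D := ⟨⟨fun a b => Subtype.ext (L.comm a a.2 b b.2)⟩⟩
    refine CfsgLib.CoprimeAction.le_of_centralizers (A := L.D) ?_ ?_ ?_ ?_
    · intro hcyc
      obtain ⟨a, ha⟩ := IsCyclic.exists_ofOrder_eq_natCard (α := L.D)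
      have h1 : orderOf a ∣ 3 := orderOf_dvd_of_pow_eq_one (Subtype.ext (L.cube a a.2))
      rw [ha, L.card_D] at h1
      exact absurd h1 (by decide)
    · exact fun a ha => mem_normalizer_fintype fun u hu => hKn a ha u hu
    · rw [L.card_D, show 9 = 3 ^ 2 from rfl]
      exact Nat.Coprime.pow_left _ ((Nat.prime_three.coprime_iff_not_dvd).2 hK3)
    · intro a ha ha1 u hu
      obtain ⟨huK, hua⟩ := hu
      have huc : Commute u a := mem_centralizer_singleton_iff.1 hua
      obtain ⟨i, j, rfl⟩ := L.exists_pow_pow ha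
      have hy : ∀ {y : G}, y ∈ L.D → centralizer ({y} : Set G) ≤ normalizer (L.D : Set G) →
          Commute u y → u ∈ W := fun hyD hyN huy => by
        rw [L.inf_cent_eq_bot hK3 hKn hyD hyN u huK huy.eq]; exact one_mem W
      have hzV : Commute u L.z → u ∈ W := fun huz => by
        have hun : u ∈ normalizer (zpowers L.z : Set G) := by
          refine centralizer_le_normalizer _ (mem_centralizer_iff.2 fun x hx => ?_)
          obtain ⟨k, rfl⟩ := mem_zpowers_iff.1 hx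
          exact (huz.zpow_right k).eq.symm
        obtain ⟨-, v, hv, n, rfl⟩ := L.eq_of_cent_V (hKX huK) hun
        have hzn : L.z ^ n ∈ K := by
          have := mul_mem (inv_mem (hVK hv)) huK
          rwa [inv_mul_cancel_left] at this
        rw [key3 _ hzn (by rw [← pow_mul, mul_comm, pow_mul, L.z_cube, one_pow]), mul_one]
        exact hVW hv
      have hwU : Commute u L.w → u ∈ W := fun huw =>
        hUW ⟨huK, mem_centralizer_singleton_iff.2 huw.eq⟩
      have hzw : Commute L.z L.w := L.zw_comm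
      have hyD : L.z * L.w ∈ L.D := mul_mem L.z_mem L.w_mem
      have hyD' : L.z * L.w⁻¹ ∈ L.D := mul_mem L.z_mem (inv_mem L.w_mem)
      have hw2 : L.w ^ 2 = L.w⁻¹ := eq_inv_of_mul_eq_one_left (by rw [← pow_succ]; exact L.w_cube)
      have hz2 : L.z ^ 2 = L.z⁻¹ := eq_inv_of_mul_eq_one_left (by rw [← pow_succ]; exact L.z_cube)
      fin_cases i <;> fin_cases j <;>
        simp only [pow_zero, pow_one, one_mul, mul_one, hw2, hz2] at huc ha1 ⊢
      · exact absurd rfl ha1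
      · exact hwU huc
      · exact hwU (by simpa using huc.inv_right)
      · exact hzV huc
      · exact hy hyD L.zw_le huc
      · exact hy hyD' L.zw'_le huc
      · exact hzV (by simpa using huc.inv_right)
      · refine hy hyD' L.zw'_le ?_
        have := huc.inv_right
        rwa [mul_inv_rev, inv_inv, ← hzw.inv_right.eq] at this
      · refine hy hyD L.zw_le ?_
        have := huc.inv_right
        rwa [mul_inv_rev, inv_inv, inv_inv, ← hzw.eq] at this
  -- the part is not trivial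
  obtain ⟨m, hm, hm1⟩ : ∃ m ∈ Um, m ≠ 1 := by
    by_contra! hall
    have hKV : K ≤ L.V := hgen _ le_rfl (by
      rintro u hu
      obtain ⟨m, rfl, -⟩ := L.swap.mem_range_of_commute (g := u)
        (mem_centralizer_singleton_iff.1 hu.2)
      have h : L.φ' m = 1 := by rw [hall m hu, map_one]
      rw [show L.swap.φ m = L.φ' m from rfl, h]
      exact one_mem _)
    obtain ⟨g, hg, ⟨k, hk⟩, hgV⟩ := L.exists_cent_not_mem
    refine hgV (hKV (hK' g hg fun h => ?_))
    have := h.trans (orderOf_dvd_of_pow_eq_one hk)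
    exact absurd (Nat.prime_three.dvd_of_dvd_pow this) (by decide)
  -- relabel so that it is the second four-group
  obtain ⟨L', hL', hz, hw, hmem, hUm'⟩ : ∃ L' : Datum G, (L' = L ∨ L' = L.relabel) ∧
      L'.z = L.z ∧ L'.w = L.w ∧ (∀ i, L'.φ' (vfun i) ∈ U) ∧
      ∀ u ∈ U, u ∈ L'.V' := by
    have horb : ∀ (σ : M35 →* M35), σ wm = wm → ∀ i, i ≠ 0 → σ (vfun i) ∈ Um →
        ∀ j, σ (vfun j) ∈ Um := by
      intro σ hσ i hi hmem j
      by_cases hj : j = 0
      · rw [hj]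
        show σ 1 ∈ Um
        rw [map_one]; exact one_mem _
      rcases klein_orbit i j hi hj with h | h | h <;> rw [h]
      · exact hmem
      · rw [map_mul, map_mul, map_inv, hσ]; exact hconj _ hmem
      · rw [map_mul, map_mul, map_mul, map_mul, map_inv, hσ]; exact hconj _ (hconj _ hmem)
    have hσw : outer (1, Equiv.swap 3 4) wm = wm := by decide
    -- the two four-groups cannot both meet the part
    have hexcl : ∀ i j, i ≠ 0 → j ≠ 0 → vfun i ∈ Um →
        outer (1, Equiv.swap 3 4) (vfun j) ∈ Um → False := by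
      intro i j hi hj h1 h2
      have c1 := hconj _ h2
      have c2 := hconj _ c1
      have e : (outer (1, Equiv.swap 3 4) (vfun j)).1.2 = kfun j := by
        show Equiv.swap 3 4 * (vfun j).1.2 * (Equiv.swap 3 4)⁻¹ = _
        rw [Equiv.swap_inv]; rfl
      have e1 : (wm * outer (1, Equiv.swap 3 4) (vfun j) * wm⁻¹).1.2 = cj (kfun j) := by
        rw [← e]; rfl
      have e2 : (wm * (wm * outer (1, Equiv.swap 3 4) (vfun j) * wm⁻¹) * wm⁻¹).1.2 =
          cj (cj (kfun j)) := by rw [← e1]; rfl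
      rcases klein_pair i j hi hj with ⟨h3, h4⟩ | ⟨h3, h4⟩ | ⟨h3, h4⟩
      · have := (hfst _ (mul_mem h1 h2)).2.2
        rw [Subgroup.coe_mul, Prod.snd_mul, e] at this
        exact h4 (this h3)
      · have := (hfst _ (mul_mem h1 c1)).2.2
        rw [Subgroup.coe_mul, Prod.snd_mul, e1] at this
        exact h4 (this h3)
      · have := (hfst _ (mul_mem h1 c2)).2.2
        rw [Subgroup.coe_mul, Prod.snd_mul, e2] at this
        exact h4 (this h3)
    have hU' : ∀ u ∈ U, ∃ n, L.φ' n = u ∧ n ∈ Um := fun u hu => by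
      obtain ⟨n, rfl, -⟩ := L.swap.mem_range_of_commute (g := u)
        (mem_centralizer_singleton_iff.1 hu.2)
      exact ⟨n, rfl, hu⟩
    rcases hclass m hm with ⟨i, rfl⟩ | ⟨i, rfl⟩
    · have hi : i ≠ 0 := fun h => hm1 (by rw [h]; rfl)
      refine ⟨L, Or.inl rfl, rfl, rfl, fun j => horb (MonoidHom.id _) rfl i hi hm j, fun u hu => ?_⟩
      obtain ⟨n, rfl, hn⟩ := hU' u hu
      rcases hclass n hn with ⟨j, rfl⟩ | ⟨j, rfl⟩
      · exact ⟨_, ⟨j, rfl⟩, rfl⟩
      · by_cases hj : j = 0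
        · rw [hj, show outer (1, Equiv.swap 3 4) (vfun 0) = 1 from map_one _, map_one]
          exact one_mem _
        · exact (hexcl i j hi hj hm hn).elim
    · have hi : i ≠ 0 := fun h => hm1 (by rw [h]; exact map_one _)
      refine ⟨L.relabel, Or.inr rfl, rfl, rfl, fun j => horb _ hσw i hi hm j, fun u hu => ?_⟩
      obtain ⟨n, rfl, hn⟩ := hU' u hu
      rcases hclass n hn with ⟨j, rfl⟩ | ⟨j, rfl⟩
      · by_cases hj : j = 0
        · rw [hj, show vfun 0 = 1 from rfl, map_one]; exact one_mem _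
        · exact (hexcl j i hj hi hn hm).elim
      · exact ⟨_, ⟨j, rfl⟩, rfl⟩
  have hV : L'.V = L.V := by rcases hL' with rfl | rfl <;> rfl
  have hle : L'.V' ≤ U := by
    rintro _ ⟨x, ⟨i, rfl⟩, rfl⟩
    exact hmem i
  refine ⟨L', hV, hz, ?_, hL', centV_of_le ?_ ?_⟩
  · rw [hV]; exact fun u hu => hKX (hle hu).1
  · rw [hV]; exact fun u hu => hKX (hle hu).1
  · rw [hV, hz, hXeq]
    exact sup_le_sup_right (hgen _ le_sup_left fun u hu => mem_sup_right (hUm' u hu)) _

set_option maxRecDepth 20000 in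
include L in
/-- The data can be paired. -/
theorem exists_paired : Nonempty (Paired G) := by
  obtain ⟨L', hV, -, hle, -, hcent⟩ := L.exists_label
  have hcomm : ∀ a ∈ L'.V, ∀ b ∈ L'.V', a * b = b * a := fun a ha b hb =>
    mem_centralizer_iff.1 (hle hb) a ha
  obtain ⟨L'', hV'', hz'', -, hL'', hcent''⟩ := L'.swap.exists_label
  have hfinal : L'' = L'.swap := by
    rcases hL'' with h | h
    · exact h
    · exfalso
      subst h
      -- both relabellings of `N(⟨z⟩)` cannot centralize `V'`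
      have h1 : L'.φ (vfun 1) ∈ centralizer (L'.V' : Set G) :=
        mem_centralizer_iff.2 fun b hb => (hcomm _ ⟨_, ⟨1, rfl⟩, rfl⟩ b hb).symm
      have h2 : L'.φ (outer (1, Equiv.swap 3 4) (vfun 1)) ∈ centralizer (L'.V' : Set G) := by
        have : L'.swap.relabel.V' ≤ centralizer (L'.swap.relabel.V : Set G) := fun b hb => by
          rw [hcent'']
          exact mem_sup_left (mem_sup_right hb)
        exact this ⟨_, ⟨1, rfl⟩, rfl⟩
      have hwn : ∀ g : G, g ∈ centralizer (L'.V' : Set G) →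
          L'.w * g * L'.w⁻¹ ∈ centralizer (L'.V' : Set G) := fun g hg => by
        have hw : L'.w ∈ centralizer (L'.V' : Set G) := L'.swap.z_mem_cent_V
        exact mul_mem (mul_mem hw hg) (inv_mem hw)
      obtain ⟨K, -, -, hK3, -, hK', -⟩ := L'.swap.exists_complement
      have hinv : ∀ {g : G}, g ∈ centralizer (L'.V' : Set G) → g * g = 1 → g ∈ K := fun {g} hg hgg =>
        hK' g hg fun hd => absurd (hd.trans (orderOf_dvd_of_pow_eq_one (n := 2)
          (by rw [pow_two]; exact hgg))) (by decide)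
      have key : ∀ g : M35, L'.φ g ∈ K → g.1.1 = 1 → g.1.2 ^ 3 = 1 → g.1.2 = 1 := by
        intro g hg ha hb
        by_contra hne
        haveI : Fact (Nat.Prime 3) := ⟨Nat.prime_three⟩
        have hg3 : g ^ 3 = 1 := Subtype.ext (Prod.ext (show g.1.1 ^ 3 = 1 by rw [ha, one_pow]) hb)
        have hg1 : g ≠ 1 := fun h => hne (by rw [h]; rfl)
        have h := orderOf_dvd_natCard (⟨L'.φ g, hg⟩ : K)
        rw [Subgroup.orderOf_mk, orderOf_injective L'.φ L'.φ_inj, orderOf_eq_prime hg3 hg1] at h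
        exact hK3 h
      set b1 := outer (1, Equiv.swap 3 4) (vfun 1) with hb1
      have hb11 : b1 * b1 = 1 := by rw [hb1]; decide
      have hsq : ∀ g : M35, g * g = 1 → L'.φ g * L'.φ g = 1 := fun g hg => by
        rw [← map_mul, hg, map_one]
      have hw1 : L'.φ (wm * b1 * wm⁻¹) ∈ centralizer (L'.V' : Set G) := by
        rw [map_mul, map_mul, map_inv, L'.φ_wm]; exact hwn _ h2
      have hw2 : L'.φ (wm * (wm * b1 * wm⁻¹) * wm⁻¹) ∈ centralizer (L'.V' : Set G) := by
        rw [map_mul L'.φ _ wm⁻¹, map_mul L'.φ wm, map_inv, L'.φ_wm]; exact hwn _ hw1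
      have k1 : L'.φ (vfun 1) ∈ K := hinv h1 (hsq _ (by decide))
      have k2 : L'.φ b1 ∈ K := hinv h2 (hsq _ hb11)
      have k3 : L'.φ (wm * b1 * wm⁻¹) ∈ K := hinv hw1 (hsq _ (by rw [hb1]; decide))
      have k4 : L'.φ (wm * (wm * b1 * wm⁻¹) * wm⁻¹) ∈ K := hinv hw2 (hsq _ (by rw [hb1]; decide))
      rcases klein_pair 1 1 (by decide) (by decide) with ⟨h3, h4⟩ | ⟨h3, h4⟩ | ⟨h3, h4⟩
      · exact h4 (key (vfun 1 * b1) (by rw [map_mul]; exact mul_mem k1 k2) (by rw [hb1]; decide) h3)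
      · exact h4 (key (vfun 1 * (wm * b1 * wm⁻¹)) (by rw [map_mul]; exact mul_mem k1 k3)
          (by rw [hb1]; decide) h3)
      · exact h4 (key (vfun 1 * (wm * (wm * b1 * wm⁻¹) * wm⁻¹))
          (by rw [map_mul]; exact mul_mem k1 k4) (by rw [hb1]; decide) h3)
  subst hfinal
  refine ⟨{ L' with VV := hcomm, centV := hcent, centV' := ?_ }⟩
  have h := hcent''
  rw [L'.swap_V, L'.swap_V', L'.swap_z, sup_comm L'.V'] at h
  exact h

end Datum

end CfsgLib.AEightThreeLocal
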