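/-
The subgroup of index two of `Sym 3 × Sym 5` of pairs with equal signs: named elements and finite checks.
-/
import Mathlib

set_option autoImplicit false

namespace CfsgLib.AEightThreeLocal

open Equiv

/-- Pairs of permutations of three and five points with equal signs. -/
abbrev M35 : Subgroup (Perm (Fin 3) × Perm (Fin 5)) :=
  (((Equiv.Perm.sign).comp (MonoidHom.fst (Equiv.Perm (Fin 3)) (Equiv.Perm (Fin 5)))) *
    ((Equiv.Perm.sign).comp (MonoidHom.snd (Equiv.Perm (Fin 3)) (Equiv.Perm (Fin 5))))).ker

theorem mem_M35 {a : Perm (Fin 3)} {b : Perm (Fin 5)} :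
    (a, b) ∈ M35 ↔ Perm.sign a * Perm.sign b = 1 := Iff.rfl

instance : DecidablePred (· ∈ M35) := fun x =>
  decidable_of_iff (Perm.sign x.1 * Perm.sign x.2 = 1) Iff.rfl

/-- The three-cycle of three points. -/
def c3 : Perm (Fin 3) := swap 0 1 * swap 1 2

/-- The three-cycle on the first three of five points. -/
def c5 : Perm (Fin 5) := swap 0 1 * swap 1 2

/-- The central three-element of the model. -/
def zm : M35 := ⟨(c3, 1), by decide⟩

/-- The second three-element of the model. -/
def wm : M35 := ⟨(1, c5), by decide⟩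

/-- The involution centralizing `zm` and inverting `wm`. -/
def rzm : M35 := ⟨(1, swap 0 1 * swap 3 4), by decide⟩

/-- The involution inverting `zm` and centralizing `wm`. -/
def rwm : M35 := ⟨(swap 0 1, swap 3 4), by decide⟩

/-- The four-group on the first four of five points, as a function. -/
def vfun : Fin 4 → M35 :=
  ![1, ⟨(1, swap 0 1 * swap 2 3), by decide⟩, ⟨(1, swap 0 2 * swap 1 3), by decide⟩,
    ⟨(1, swap 0 3 * swap 1 2), by decide⟩]

/-- The four-group on the first four of five points. -/
def vm : Subgroup M35 where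
  carrier := Set.range vfun
  mul_mem' := by
    rintro _ _ ⟨i, rfl⟩ ⟨j, rfl⟩
    have : ∀ i j : Fin 4, ∃ k, vfun k = vfun i * vfun j := by decide
    exact this i j
  one_mem' := ⟨0, rfl⟩
  inv_mem' := by
    rintro _ ⟨i, rfl⟩
    have : ∀ i : Fin 4, ∃ k, vfun k = (vfun i)⁻¹ := by decide
    exact this i

theorem mem_vm {g : M35} : g ∈ vm ↔ ∃ i, vfun i = g := Iff.rfl

theorem card_vm : Nat.card vm = 4 := by
  have h : Function.Injective vfun := by decide
  show Nat.card (Set.range vfun) = 4
  rw [Nat.card_range_of_injective h, Nat.card_eq_fintype_card, Fintype.card_fin]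

/-- An element of `M35` from the conjugation of the ambient product by an arbitrary pair. -/
def outer (p : Perm (Fin 3) × Perm (Fin 5)) : M35 →* M35 where
  toFun g := ⟨p * g.1 * p⁻¹, by
    have hg : Perm.sign g.1.1 * Perm.sign g.1.2 = 1 := g.2
    show Perm.sign (p * g.1 * p⁻¹).1 * Perm.sign (p * g.1 * p⁻¹).2 = 1
    simp only [Prod.fst_mul, Prod.snd_mul, Prod.fst_inv, Prod.snd_inv, map_mul, map_inv,
      mul_inv_cancel_comm]
    exact hg⟩
  map_one' := by ext1; simp
  map_mul' g h := by ext1; simp [mul_assoc]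

theorem outer_coe (p : Perm (Fin 3) × Perm (Fin 5)) (g : M35) :
    (outer p g : Perm (Fin 3) × Perm (Fin 5)) = p * g.1 * p⁻¹ := rfl

theorem outer_outer (p q : Perm (Fin 3) × Perm (Fin 5)) (g : M35) :
    outer p (outer q g) = outer (p * q) g := by
  ext1; simp [outer_coe, mul_assoc]

theorem outer_one (g : M35) : outer 1 g = g := by ext1; simp [outer_coe]

theorem outer_bijective (p : Perm (Fin 3) × Perm (Fin 5)) : Function.Bijective (outer p) := by
  refine Function.bijective_iff_has_inverse.2 ⟨outer p⁻¹, fun g => ?_, fun g => ?_⟩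
  · rw [outer_outer, inv_mul_cancel, outer_one]
  · rw [outer_outer, mul_inv_cancel, outer_one]

set_option maxRecDepth 100000 in
theorem perm3_of_cube : ∀ a : Perm (Fin 3), a ^ 3 = 1 → a = 1 ∨ a = c3 ∨ a = c3⁻¹ := by decide

set_option maxRecDepth 100000 in
theorem perm3_invol_inverts : ∀ a : Perm (Fin 3), Perm.sign a = -1 → a * c3 * a⁻¹ = c3⁻¹ := by decide

set_option maxRecDepth 100000 in
theorem perm3_even_central : ∀ a : Perm (Fin 3), Perm.sign a = 1 → a * c3 * a⁻¹ = c3 := by decide

set_option maxRecDepth 100000 in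
theorem perm5_three_conj : ∀ c : Perm (Fin 5), c * c * c = 1 → c ≠ 1 →
    ∃ π : Perm (Fin 5), π * c * π⁻¹ = c5 := by decide

set_option maxRecDepth 100000 in
theorem perm5_three_not_normal : ∀ c : Perm (Fin 5), c * c * c = 1 →
    (∀ i : Fin 4, (swap i.castSucc i.succ * c * swap i.castSucc i.succ = c ∨
      swap i.castSucc i.succ * c * swap i.castSucc i.succ = c * c)) → c = 1 := by decide

theorem card_M35 : Nat.card M35 = 360 := by
  have h2 : Nat.card M35 * 2 = 720 := by
    have hsurj : Function.Surjective
        (((Equiv.Perm.sign).comp (MonoidHom.fst (Equiv.Perm (Fin 3)) (Equiv.Perm (Fin 5)))) *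
          ((Equiv.Perm.sign).comp (MonoidHom.snd (Equiv.Perm (Fin 3)) (Equiv.Perm (Fin 5))))) := by
      intro u
      rcases Int.units_eq_one_or u with rfl | rfl
      · exact ⟨1, map_one _⟩
      · exact ⟨(swap 0 1, 1), by decide⟩
    have := Subgroup.card_eq_card_quotient_mul_card_subgroup M35
    rw [Nat.card_congr (QuotientGroup.quotientKerEquivOfSurjective _ hsurj).toEquiv,
      Nat.card_prod, Nat.card_perm, Nat.card_perm, Nat.card_fin, Nat.card_fin,
      show Nat.card ℤˣ = 2 by rw [Nat.card_eq_fintype_card, Fintype.card_units_int]] at this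
    rw [show Nat.factorial 3 = 6 from rfl, show Nat.factorial 5 = 120 from rfl] at this
    change Nat.card M35 * 2 = 720
    linarith
  omega

end CfsgLib.AEightThreeLocal
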