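/-
The 3-local data of a group of alternating type of degree eight, in a symmetric form.
-/
import Cfsg.Agent.Lib.AEightThreeLocal.Model

set_option autoImplicit false

namespace CfsgLib.AEightThreeLocal

open Subgroup

universe u

/-- The data: `D = ⟨z, w⟩`, `φ` and `φ'` models of the normalizers of `⟨z⟩` and `⟨w⟩`, and `t`
interchanges `z` and `w`. -/
structure Datum (G : Type u) [Group G] where
  D : Subgroup G
  z : G
  w : G
  t : G
  φ : M35 →* G
  φ' : M35 →* G
  φ_inj : Function.Injective φ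
  φ'_inj : Function.Injective φ'
  φ_range : φ.range = normalizer (zpowers z : Set G)
  φ'_range : φ'.range = normalizer (zpowers w : Set G)
  φ_zm : φ zm = z
  φ_wm : φ wm = w
  φ'_zm : φ' zm = w
  φ'_wm : φ' wm = z
  t_sq : t * t = 1
  tz : t * z * t = w
  tw : t * w * t = z
  t_mem : t ∈ normalizer (D : Set G)
  z_mem : z ∈ D
  w_mem : w ∈ D
  comm : ∀ a ∈ D, ∀ b ∈ D, a * b = b * a
  card_D : Nat.card D = 9
  cube : ∀ a ∈ D, a ^ 3 = 1
  self_cent : centralizer (D : Set G) = D
  card_N : Nat.card (normalizer (D : Set G)) = 72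
  not_dvd : ¬ 3 ∣ D.index
  sylow : ∀ x : G, x ^ 3 = 1 → ∃ g : G, g * x * g⁻¹ ∈ D
  card_zw : Nat.card (centralizer ({z * w} : Set G)) = 18
  card_zw' : Nat.card (centralizer ({z * w⁻¹} : Set G)) = 18
  zw_le : centralizer ({z * w} : Set G) ≤ normalizer (D : Set G)
  zw'_le : centralizer ({z * w⁻¹} : Set G) ≤ normalizer (D : Set G)

namespace Datum

variable {G : Type u} [Group G] (L : Datum G)

theorem zw_comm : L.z * L.w = L.w * L.z := L.comm _ L.z_mem _ L.w_mem

/-- The involution centralizing `z` and inverting `w`. -/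
def rz : G := L.φ rzm

/-- The involution inverting `z` and centralizing `w`. -/
def rw' : G := L.φ rwm

/-- The four-group of `C(z)`. -/
def V : Subgroup G := vm.map L.φ

/-- The four-group of `C(w)`. -/
def V' : Subgroup G := vm.map L.φ'

theorem centralizer_inv (a : G) : centralizer ({a⁻¹} : Set G) = centralizer ({a} : Set G) := by
  ext g
  simp only [mem_centralizer_singleton_iff]
  refine ⟨fun h => ?_, fun h => (Commute.inv_right (show Commute g a from h) :)⟩
  have := Commute.inv_right (show Commute g a⁻¹ from h)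
  rwa [inv_inv] at this

/-- Interchanging the two axes. -/
def swap : Datum G where
  D := L.D
  z := L.w
  w := L.z
  t := L.t
  φ := L.φ'
  φ' := L.φ
  φ_inj := L.φ'_inj
  φ'_inj := L.φ_inj
  φ_range := L.φ'_range
  φ'_range := L.φ_range
  φ_zm := L.φ'_zm
  φ_wm := L.φ'_wm
  φ'_zm := L.φ_zm
  φ'_wm := L.φ_wm
  t_sq := L.t_sq
  tz := L.tw
  tw := L.tz
  t_mem := L.t_mem
  z_mem := L.w_mem
  w_mem := L.z_mem
  comm := L.comm
  card_D := L.card_D
  cube := L.cube
  self_cent := L.self_cent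
  card_N := L.card_N
  not_dvd := L.not_dvd
  sylow := L.sylow
  card_zw := by rw [← L.zw_comm]; exact L.card_zw
  card_zw' := by
    rw [← centralizer_inv, mul_inv_rev, inv_inv]
    exact L.card_zw'
  zw_le := by rw [← L.zw_comm]; exact L.zw_le
  zw'_le := by
    rw [← centralizer_inv, mul_inv_rev, inv_inv]
    exact L.zw'_le

theorem swap_z : L.swap.z = L.w := rfl

theorem swap_w : L.swap.w = L.z := rfl

theorem swap_V : L.swap.V = L.V' := rfl

theorem swap_V' : L.swap.V' = L.V := rfl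

theorem card_V [Finite G] : Nat.card L.V = 4 := by
  rw [V, card_map_of_injective L.φ_inj, card_vm]

theorem card_norm [Finite G] : Nat.card (normalizer (zpowers L.z : Set G)) = 360 := by
  rw [← L.φ_range, Nat.card_congr (MonoidHom.ofInjective L.φ_inj).toEquiv.symm, card_M35]

theorem z_ne : L.z ≠ 1 := by
  intro h
  rw [← L.φ_zm, ← map_one L.φ] at h
  exact absurd (L.φ_inj h) (by decide)

theorem w_ne : L.w ≠ 1 := by
  intro h
  rw [← L.φ_wm, ← map_one L.φ] at h
  exact absurd (L.φ_inj h) (by decide)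

theorem D_eq [Finite G] : L.D = closure {L.z, L.w} := by
  refine le_antisymm ?_ ((closure_le _).2 (by rintro x (rfl | rfl) <;> [exact L.z_mem; exact L.w_mem]))
  have hle : closure {L.z, L.w} ≤ L.D :=
    (closure_le _).2 (by rintro x (rfl | rfl) <;> [exact L.z_mem; exact L.w_mem])
  refine (eq_of_le_of_card_ge hle ?_).ge
  let f : Fin 3 × Fin 3 → closure {L.z, L.w} := fun p =>
    ⟨L.φ (zm ^ p.1.val * wm ^ p.2.val), by
      rw [map_mul, map_pow, map_pow, L.φ_zm, L.φ_wm]
      exact mul_mem (pow_mem (subset_closure (by simp)) _) (pow_mem (subset_closure (by simp)) _)⟩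
  have hf : Function.Injective f := by
    intro p q h
    have h' := L.φ_inj (congrArg Subtype.val h)
    revert p q
    have : ∀ p q : Fin 3 × Fin 3, zm ^ p.1.val * wm ^ p.2.val = zm ^ q.1.val * wm ^ q.2.val → p = q := by
      decide
    intro p q _ h'
    exact this p q h'
  rw [L.card_D]
  simpa using Nat.card_le_card_of_injective f hf

end Datum

/-- The data together with the commuting of the two four-groups and the centralizer of each. -/
structure Paired (G : Type u) [Group G] extends Datum G where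
  VV : ∀ a ∈ vm.map φ, ∀ b ∈ vm.map φ', a * b = b * a
  centV : centralizer ((vm.map φ : Subgroup G) : Set G) = vm.map φ ⊔ vm.map φ' ⊔ zpowers z
  centV' : centralizer ((vm.map φ' : Subgroup G) : Set G) = vm.map φ ⊔ vm.map φ' ⊔ zpowers w

namespace Datum

variable {G : Type u} [Group G] (L : Datum G)

theorem V_comm : ∀ a ∈ L.V, ∀ b ∈ L.V, a * b = b * a := by
  rintro _ ⟨x, ⟨i, rfl⟩, rfl⟩ _ ⟨y, ⟨j, rfl⟩, rfl⟩
  rw [← map_mul, ← map_mul]
  congr 1
  revert i j
  decide

theorem V_sq : ∀ a ∈ L.V, a * a = 1 := by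
  rintro _ ⟨x, ⟨i, rfl⟩, rfl⟩
  rw [← map_mul, ← map_one L.φ]
  congr 1
  revert i
  decide

theorem z_comm_V : ∀ a ∈ L.V, L.z * a = a * L.z := by
  rintro _ ⟨x, ⟨i, rfl⟩, rfl⟩
  rw [← L.φ_zm, ← map_mul, ← map_mul]
  congr 1
  revert i
  decide

theorem V_le : L.V ≤ centralizer ({L.z} : Set G) := fun a ha =>
  mem_centralizer_singleton_iff.2 (L.z_comm_V a ha).symm

theorem w_norm_V : ∀ a ∈ L.V, L.w * a * L.w⁻¹ ∈ L.V := by
  rintro _ ⟨x, ⟨i, rfl⟩, rfl⟩
  have : ∀ i, ∃ k, vfun k = wm * vfun i * wm⁻¹ := by decide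
  obtain ⟨k, hk⟩ := this i
  exact ⟨vfun k, ⟨k, rfl⟩, by rw [hk, map_mul, map_mul, map_inv, L.φ_wm]⟩

theorem V_inf_cent_D [Finite G] {a : G} (ha : a ∈ L.V) (hw : L.w * a = a * L.w) : a = 1 := by
  obtain ⟨x, ⟨i, rfl⟩, rfl⟩ := ha
  rw [← L.φ_wm, ← map_mul, ← map_mul] at hw
  have : ∀ i, wm * vfun i = vfun i * wm → vfun i = 1 := by decide
  rw [this i (L.φ_inj hw), map_one]

end Datum

namespace Paired

variable {G : Type u} [Group G] (M : Paired G)

/-- The elementary abelian group of order sixteen. -/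
def E : Subgroup G := M.V ⊔ M.V'

/-- Interchanging the two axes. -/
def swap : Paired G where
  toDatum := M.toDatum.swap
  VV := fun a ha b hb => (M.VV b hb a ha).symm
  centV := by
    show centralizer ((vm.map M.φ' : Subgroup G) : Set G) = vm.map M.φ' ⊔ vm.map M.φ ⊔ zpowers M.w
    rw [sup_comm (vm.map M.φ')]
    exact M.centV'
  centV' := by
    show centralizer ((vm.map M.φ : Subgroup G) : Set G) = vm.map M.φ' ⊔ vm.map M.φ ⊔ zpowers M.z
    rw [sup_comm (vm.map M.φ')]
    exact M.centV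

theorem swap_E : M.swap.E = M.E := sup_comm _ _

theorem V_le_cent_V' : M.V ≤ centralizer (M.V' : Set G) := fun a ha =>
  mem_centralizer_iff.2 fun b hb => (M.VV a ha b hb).symm

theorem mem_E {x : G} : x ∈ M.E ↔ ∃ a ∈ M.V, ∃ b ∈ M.V', a * b = x := by
  constructor
  · intro hx
    have h : M.V ⊔ M.V' = M.V ⊔ M.V' := rfl
    rw [E, ← SetLike.mem_coe,
      coe_mul_of_left_le_normalizer_right M.V M.V'
        (M.V_le_cent_V'.trans (centralizer_le_normalizer _))] at hx
    exact Set.mem_mul.1 hx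
  · rintro ⟨a, ha, b, hb, rfl⟩
    exact mul_mem (mem_sup_left ha) (mem_sup_right hb)

theorem E_comm : ∀ x ∈ M.E, ∀ y ∈ M.E, x * y = y * x := by
  intro x hx y hy
  obtain ⟨a, ha, b, hb, rfl⟩ := M.mem_E.1 hx
  obtain ⟨c, hc, d, hd, rfl⟩ := M.mem_E.1 hy
  have h1 : Commute a c := M.V_comm a ha c hc
  have h2 : Commute a d := M.VV a ha d hd
  have h3 : Commute b c := (M.VV c hc b hb).symm
  have h4 : Commute b d := M.toDatum.swap.V_comm b hb d hd
  exact (h1.mul_right h2).mul_left (h3.mul_right h4)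

theorem E_sq : ∀ x ∈ M.E, x * x = 1 := by
  intro x hx
  obtain ⟨a, ha, b, hb, rfl⟩ := M.mem_E.1 hx
  rw [mul_assoc, ← mul_assoc b, ← M.VV a ha b hb, mul_assoc, ← mul_assoc a, M.V_sq a ha,
    show b * b = 1 from M.toDatum.swap.V_sq b hb, one_mul]

theorem card_E [Finite G] : Nat.card M.E = 16 := by
  let f : M.V × M.V' → M.E := fun p => ⟨p.1 * p.2, M.mem_E.2 ⟨_, p.1.2, _, p.2.2, rfl⟩⟩
  have hf : Function.Bijective f := by
    refine ⟨fun p q h => ?_, fun x => ?_⟩
    · have h' : (p.1 : G) * p.2 = q.1 * q.2 := congrArg Subtype.val h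
      have hx : (q.1 : G)⁻¹ * p.1 = q.2 * (p.2 : G)⁻¹ := by
        rw [eq_mul_inv_iff_mul_eq, mul_assoc, h', inv_mul_cancel_left]
      have h1 : (q.1 : G)⁻¹ * p.1 ∈ M.V := mul_mem (inv_mem q.1.2) p.1.2
      have h2 : (q.1 : G)⁻¹ * p.1 ∈ M.V' := hx ▸ mul_mem q.2.2 (inv_mem p.2.2)
      have h3 := M.toDatum.V_inf_cent_D h1 (M.toDatum.swap.z_comm_V _ h2)
      have e1 : (p.1 : G) = q.1 := (inv_mul_eq_one.1 h3).symm
      have e2 : (p.2 : G) = q.2 := by rw [e1] at h'; exact mul_left_cancel h'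
      exact Prod.ext (Subtype.ext e1) (Subtype.ext e2)
    · obtain ⟨a, ha, b, hb, h⟩ := M.mem_E.1 x.2
      exact ⟨(⟨a, ha⟩, ⟨b, hb⟩), Subtype.ext h⟩
  rw [← Nat.card_eq_of_bijective f hf, Nat.card_prod, M.toDatum.card_V,
    show Nat.card M.V' = 4 from M.toDatum.swap.card_V]

end Paired

end CfsgLib.AEightThreeLocal
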