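/-
The 3-local data of the statement give the symmetric data.
-/
import Cfsg.Agent.Lib.AEightThreeLocal.Local

set_option autoImplicit false
set_option maxRecDepth 100000

namespace CfsgLib.AEightThreeLocal

open Subgroup

universe u

/-- An element of finite order conjugating a generator into its cyclic group normalizes it. -/
theorem mem_normalizer_zpowers_of_conj_mem {G : Type u} [Group G] [Finite G] {n z : G}
    (h : n * z * n⁻¹ ∈ zpowers z) : n ∈ normalizer (zpowers z : Set G) := by
  have hle : (zpowers z).map (MulAut.conj n).toMonoidHom ≤ zpowers z := by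
    rw [MonoidHom.map_zpowers]
    exact zpowers_le.2 h
  have heq := eq_of_le_of_card_ge hle (card_map_of_injective (MulAut.conj n).injective).ge
  refine mem_normalizer_iff.2 fun x => ⟨fun hx => hle ⟨x, hx, rfl⟩, fun hx => ?_⟩
  rw [← heq] at hx
  obtain ⟨y, hy, hyx⟩ := hx
  have : y = x := (MulAut.conj n).injective hyx
  exact this ▸ hy

/-- The data of the statement give a `Datum`. -/
theorem exists_datum {G : Type u} [Group G] [Finite G]
    (P : Sylow 3 G) (D : Subgroup G) (hDP : D = P) (y z : G) (hgen : Subgroup.closure {y, z} = D)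
    (hcomm : IsMulCommutative D) (hcard : Nat.card D = 9) (hexp : ∀ a ∈ D, a ^ 3 = 1)
    (hC : Subgroup.centralizer (D : Set G) = D)
    (hN : Nat.card (normalizer (D : Set G)) = 72)
    (hyn : (D.subgroupOf (Subgroup.centralizer ({y} : Set G))).Normal)
    (hycard : Nat.card (Subgroup.centralizer ({y} : Set G)) = 18)
    (eL : Subgroup.normalizer (Subgroup.zpowers z : Set G) ≃* M35) :
    Nonempty (Datum G) := by
  have hz : z ∈ D := hgen ▸ subset_closure (by simp)
  have hy : y ∈ D := hgen ▸ subset_closure (by simp)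
  have hcm : ∀ a ∈ D, ∀ b ∈ D, a * b = b * a := fun a ha b hb =>
    congrArg Subtype.val (hcomm.is_comm.comm (⟨a, ha⟩ : D) ⟨b, hb⟩)
  have hsyl : ∀ x : G, x ^ 3 = 1 → ∃ g : G, g * x * g⁻¹ ∈ D := by
    intro x hx
    haveI : Fact (Nat.Prime 3) := ⟨Nat.prime_three⟩
    have hp : IsPGroup 3 (zpowers x) := by
      rw [IsPGroup.iff_card]
      have hd : Nat.card (zpowers x) ∣ 3 ^ 1 := by
        rw [Nat.card_zpowers, pow_one]
        exact orderOf_dvd_of_pow_eq_one hx
      obtain ⟨k, -, hk⟩ := (Nat.dvd_prime_pow Nat.prime_three).1 hd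
      exact ⟨k, hk⟩
    obtain ⟨Q, hQ⟩ := hp.exists_le_sylow
    obtain ⟨g, hg⟩ := MulAction.exists_smul_eq G Q P
    refine ⟨g, ?_⟩
    rw [hDP, ← hg]
    exact ⟨x, hQ (mem_zpowers x), rfl⟩
  -- the model map sends `zm` to `z`
  have hzne : z ≠ 1 := by
    intro h
    have h9 : Nat.card D ∣ 3 := by
      rw [← hgen, h, Set.pair_comm, closure_insert_one, ← zpowers_eq_closure, Nat.card_zpowers]
      exact orderOf_dvd_of_pow_eq_one (hexp y hy)
    rw [hcard] at h9
    norm_num at h9
  let zs : normalizer (zpowers z : Set G) := ⟨z, le_normalizer (mem_zpowers z)⟩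
  let f0 : M35 →* G := (normalizer (zpowers z : Set G)).subtype.comp eL.symm.toMonoidHom
  have f0inj : Function.Injective f0 := Subtype.val_injective.comp eL.symm.injective
  have f0range : f0.range = normalizer (zpowers z : Set G) := by
    rw [MonoidHom.range_eq_map, ← map_map, ← MonoidHom.range_eq_map,
      MonoidHom.range_eq_top.2 eL.symm.surjective, ← MonoidHom.range_eq_map,
      Subgroup.range_subtype]
  have hzs : eL zs = zm ∨ eL zs = zm⁻¹ := by
    have h3 : (eL zs) ^ 3 = 1 := by
      rw [← map_pow]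
      have : zs ^ 3 = 1 := Subtype.ext (hexp z hz)
      rw [this, map_one]
    have hnorm : ∀ g : M35, g * eL zs * g⁻¹ = eL zs ∨ g * eL zs * g⁻¹ = eL zs * eL zs := by
      intro g
      obtain ⟨n, rfl⟩ := eL.surjective g
      have hm : (n : G) * z * (n : G)⁻¹ ∈ zpowers z :=
        (mem_normalizer_iff.1 n.2 z).1 (mem_zpowers z)
      obtain ⟨k, hk, hk'⟩ : ∃ k, k < 3 ∧ z ^ k = (n : G) * z * (n : G)⁻¹ := by
        rw [← mem_powers_iff_mem_zpowers] at hm
        obtain ⟨k, hk⟩ := hm
        exact ⟨k % 3, Nat.mod_lt _ (by norm_num), by rw [← pow_eq_pow_mod k (hexp z hz)]; exact hk⟩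
      have hkey : n * zs * n⁻¹ = zs ^ k := Subtype.ext hk'.symm
      interval_cases k
      · exfalso
        apply hzne
        rw [pow_zero, mul_inv_eq_one, mul_eq_left] at hkey
        exact congrArg Subtype.val hkey
      · left; rw [← map_inv, ← map_mul, ← map_mul, hkey, pow_one]
      · right; rw [← map_inv, ← map_mul, ← map_mul, hkey, pow_two, map_mul]
    generalize hab : eL zs = ab at h3 hnorm ⊢
    obtain ⟨⟨a, b⟩, hmem⟩ := ab
    have ha3 : a ^ 3 = 1 := congrArg (fun x : M35 => x.1.1) h3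
    have hb3 : b * b * b = 1 := by
      rw [← pow_two, ← pow_succ]; exact congrArg (fun x : M35 => x.1.2) h3
    have hb : b = 1 := by
      refine perm5_three_not_normal b hb3 fun i => ?_
      let g : M35 := ⟨(Equiv.swap 0 1, Equiv.swap i.castSucc i.succ), by
        show Equiv.Perm.sign (Equiv.swap (0 : Fin 3) 1) *
          Equiv.Perm.sign (Equiv.swap i.castSucc i.succ) = 1
        rw [Equiv.Perm.sign_swap (by decide), Equiv.Perm.sign_swap Fin.castSucc_lt_succ.ne]
        rfl⟩
      rcases hnorm g with h | h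
      · left; have h' := congrArg (fun x : M35 => x.1.2) h; simpa [g, Equiv.swap_inv] using h'
      · right; have h' := congrArg (fun x : M35 => x.1.2) h; simpa [g, Equiv.swap_inv] using h'
    subst hb
    rcases perm3_of_cube a ha3 with rfl | rfl | rfl
    · exfalso
      apply hzne
      have : zs = 1 := eL.injective (by rw [hab, map_one]; rfl)
      exact congrArg Subtype.val this
    · exact Or.inl rfl
    · exact Or.inr rfl
  obtain ⟨p0, hp0⟩ : ∃ p0 : Equiv.Perm (Fin 3), f0 (outer (p0, 1) zm) = z := by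
    have hf : f0 (eL zs) = z := by simp [f0, zs]
    rcases hzs with h | h
    · exact ⟨1, by rw [show ((1, 1) : Equiv.Perm (Fin 3) × Equiv.Perm (Fin 5)) = 1 from rfl,
        outer_one, ← h, hf]⟩
    · refine ⟨Equiv.swap 0 1, ?_⟩
      rw [show outer (Equiv.swap 0 1, 1) zm = zm⁻¹ by decide, ← h, hf]
  let f1 : M35 →* G := f0.comp (outer (p0, 1))
  have f1inj : Function.Injective f1 := f0inj.comp (outer_bijective _).1
  have f1range : f1.range = normalizer (zpowers z : Set G) := by
    rw [MonoidHom.range_eq_map, ← map_map, ← MonoidHom.range_eq_map,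
      MonoidHom.range_eq_top.2 (outer_bijective _).2, ← MonoidHom.range_eq_map, f0range]
  -- adjust so that `wm` lands in `D`
  have hDle : D ≤ normalizer (zpowers z : Set G) := by
    intro d hd
    rw [mem_normalizer_iff]
    intro x
    have hdz : ∀ x ∈ zpowers z, d * x * d⁻¹ = x := fun x hx => by
      rw [hcm d hd x ((zpowers_le.2 hz) hx), mul_inv_cancel_right]
    constructor
    · intro hx; rwa [hdz x hx]
    · intro hx
      have h2 : x = d⁻¹ * (d * x * d⁻¹) * d := by group
      rw [h2, hcm d⁻¹ (inv_mem hd) _ ((zpowers_le.2 hz) hx), inv_mul_cancel_right]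
      exact hx
  obtain ⟨a, c, hac, hac', hc3, hcne⟩ : ∃ a c, ∃ (h : (a, c) ∈ M35),
      f1 ⟨(a, c), h⟩ ∈ D ∧ c * c * c = 1 ∧ c ≠ 1 := by
    have hnle : ¬ D ≤ zpowers z := by
      intro h
      have := card_le_of_le h
      rw [hcard, Nat.card_zpowers, orderOf_eq_prime (hp := ⟨Nat.prime_three⟩) (hexp z hz) hzne] at this
      omega
    obtain ⟨d, hd, hdz⟩ := SetLike.not_le_iff_exists.1 hnle
    obtain ⟨⟨⟨a, c⟩, h⟩, hd'⟩ : d ∈ f1.range := f1range.symm ▸ hDle hd
    refine ⟨a, c, h, hd' ▸ hd, ?_, ?_⟩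
    · have h3 : (⟨(a, c), h⟩ : M35) ^ 3 = 1 := f1inj (by rw [map_pow, hd', hexp d hd, map_one])
      rw [← pow_two, ← pow_succ]; exact congrArg (fun x : M35 => x.1.2) h3
    · rintro rfl
      apply hdz
      have ha : Equiv.Perm.sign a = 1 := by simpa [mem_M35] using h
      have h3 : (⟨(a, 1), h⟩ : M35) ^ 3 = 1 := f1inj (by rw [map_pow, hd', hexp d hd, map_one])
      have hz1 : f1 zm = z := hp0
      rcases perm3_of_cube a (congrArg (fun x : M35 => x.1.1) h3) with rfl | rfl | rfl
      · rw [← hd', show (⟨((1 : Equiv.Perm (Fin 3)), 1), h⟩ : M35) = 1 from rfl, map_one]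
        exact one_mem _
      · rw [← hd', show (⟨(c3, 1), h⟩ : M35) = zm from rfl, hz1]; exact mem_zpowers z
      · rw [← hd', show (⟨(c3⁻¹, 1), h⟩ : M35) = zm⁻¹ from rfl, map_inv, hz1]
        exact inv_mem (mem_zpowers z)
  obtain ⟨π, hπ⟩ := perm5_three_conj c hc3 hcne
  obtain ⟨φ, φinj, φrange, φzm, hwD⟩ : ∃ φ : M35 →* G, Function.Injective φ ∧
      φ.range = normalizer (zpowers z : Set G) ∧ φ zm = z ∧ φ wm ∈ D := by
    refine ⟨f1.comp (outer (1, π⁻¹)), f1inj.comp (outer_bijective _).1, ?_, ?_, ?_⟩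
    · rw [MonoidHom.range_eq_map, ← map_map, ← MonoidHom.range_eq_map,
        MonoidHom.range_eq_top.2 (outer_bijective _).2, ← MonoidHom.range_eq_map, f1range]
    · show f1 (outer (1, π⁻¹) zm) = z
      have : outer (1, π⁻¹) zm = zm := by
        ext1; rw [outer_coe]; simp [zm]
      rw [this]; exact hp0
    · have hsa : (a, (1 : Equiv.Perm (Fin 5))) ∈ M35 := by
        have hac2 := hac
        rw [mem_M35] at hac2 ⊢
        rw [map_one, mul_one]
        have hs : Equiv.Perm.sign c = 1 := by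
          rcases Int.units_eq_one_or (Equiv.Perm.sign c) with h | h
          · exact h
          · exact absurd (congrArg Equiv.Perm.sign hc3) (by simp [h])
        rwa [hs, mul_one] at hac2
      have h1 : outer (1, π⁻¹) wm = ⟨(a, c), hac⟩ * ⟨(a, 1), hsa⟩⁻¹ := by
        ext1
        simp [outer_coe, wm, ← hπ, mul_assoc]
      show f1 (outer (1, π⁻¹) wm) ∈ D
      rw [h1, map_mul, map_inv]
      refine mul_mem hac' (inv_mem ?_)
      have hz1 : f1 zm = z := hp0
      have hac3 : (⟨(a, c), hac⟩ : M35) ^ 3 = 1 := f1inj (by rw [map_pow, hexp _ hac', map_one])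
      rcases perm3_of_cube a (congrArg (fun x : M35 => x.1.1) hac3) with rfl | rfl | rfl
      · rw [show (⟨((1 : Equiv.Perm (Fin 3)), 1), hsa⟩ : M35) = 1 from rfl, map_one]
        exact one_mem D
      · rw [show (⟨(c3, 1), hsa⟩ : M35) = zm from rfl, hz1]
        exact hz
      · rw [show (⟨(c3⁻¹, 1), hsa⟩ : M35) = zm⁻¹ from rfl, map_inv, hz1]
        exact inv_mem hz
  obtain ⟨w, hwdef⟩ : ∃ w, φ wm = w := ⟨_, rfl⟩
  have hw : w ∈ D := hwdef ▸ hwD
  -- the automizer fixes the pair of axes
  have hrz : φ rzm ∈ normalizer (zpowers z : Set G) := φrange ▸ ⟨_, rfl⟩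
  have hrw : φ rwm ∈ normalizer (zpowers z : Set G) := φrange ▸ ⟨_, rfl⟩
  have rzz : φ rzm * z * (φ rzm)⁻¹ = z := by
    rw [← φzm, ← map_inv, ← map_mul, ← map_mul]; congr 1; decide
  have rzw : φ rzm * w * (φ rzm)⁻¹ = w⁻¹ := by
    rw [← hwdef]; rw [← map_inv, ← map_inv, ← map_mul, ← map_mul]; congr 1; decide
  have rwz : φ rwm * z * (φ rwm)⁻¹ = z⁻¹ := by
    rw [← φzm, ← map_inv, ← map_inv, ← map_mul, ← map_mul]; congr 1; decide
  have rww : φ rwm * w * (φ rwm)⁻¹ = w := by
    rw [← hwdef]; rw [← map_inv, ← map_mul, ← map_mul]; congr 1; decide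
  have hDeq : ∀ d ∈ D, ∃ i j : Fin 3, d = φ (zm ^ i.val * wm ^ j.val) := by
    let f : Fin 3 × Fin 3 → D := fun p => ⟨φ (zm ^ p.1.val * wm ^ p.2.val), by
      rw [map_mul, map_pow, map_pow, φzm, hwdef]; exact mul_mem (pow_mem hz _) (pow_mem hw _)⟩
    have hf : Function.Injective f := by
      intro p q h
      have hval : φ _ = φ _ := congrArg Subtype.val h
      have h' := φinj hval
      clear hval
      revert h'
      revert p q
      have : ∀ p q : Fin 3 × Fin 3, zm ^ p.1.val * wm ^ p.2.val = zm ^ q.1.val * wm ^ q.2.val →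
          p = q := by decide
      intro p q _ h'
      exact this p q h'
    have hb : Function.Bijective f := by
      rw [Nat.bijective_iff_injective_and_card]
      exact ⟨hf, by rw [hcard, Nat.card_prod, Nat.card_fin]⟩
    intro d hd
    obtain ⟨p, hp⟩ := hb.2 ⟨d, hd⟩
    exact ⟨p.1, p.2, (congrArg Subtype.val hp).symm⟩
  have hzwp : ∀ (i j : Fin 3), φ (zm ^ i.val * wm ^ j.val) = z ^ i.val * w ^ j.val := by
    intro i j; rw [map_mul, map_pow, map_pow, φzm, hwdef]
  have hkill : ∀ (n : G), n ∈ D → φ rzm * n * (φ rzm)⁻¹ ∈ zpowers n →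
      φ rwm * n * (φ rwm)⁻¹ ∈ zpowers n → n ∈ zpowers z ∨ n ∈ zpowers w := by
    intro n hn h1 h2
    obtain ⟨i, j, rfl⟩ := hDeq n hn
    rw [← map_inv, ← map_mul, ← map_mul, ← MonoidHom.map_zpowers, mem_map_iff_mem φinj] at h1 h2
    have key : ∀ i j : Fin 3, ∀ g ∈ [(rzm, rwm)],
        (∃ k : Fin 3, g.1 * (zm ^ i.val * wm ^ j.val) * g.1⁻¹ = (zm ^ i.val * wm ^ j.val) ^ k.val) →
        (∃ k : Fin 3, g.2 * (zm ^ i.val * wm ^ j.val) * g.2⁻¹ = (zm ^ i.val * wm ^ j.val) ^ k.val) →
        i = 0 ∨ j = 0 := by decide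
    have red : ∀ g : M35, g ∈ zpowers (zm ^ i.val * wm ^ j.val) →
        ∃ k : Fin 3, g = (zm ^ i.val * wm ^ j.val) ^ k.val := by
      intro g hg
      obtain ⟨k, rfl⟩ := mem_powers_iff_mem_zpowers.2 hg
      have h3 : ∀ i j : Fin 3, (zm ^ i.val * wm ^ j.val) ^ 3 = 1 := by decide
      exact ⟨⟨k % 3, Nat.mod_lt _ (by norm_num)⟩, pow_eq_pow_mod k (h3 i j)⟩
    rcases key i j (rzm, rwm) List.mem_cons_self (red _ h1) (red _ h2) with rfl | rfl
    · right; rw [hzwp]; simpa using npow_mem_zpowers w j.val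
    · left; rw [hzwp]; simpa using npow_mem_zpowers z i.val
  -- the centralizer of `z` has order `180`, so `y` avoids both axes
  have hrzN : φ rzm ∈ normalizer (D : Set G) := by
    refine mem_normalizer_iff.2 fun x => ⟨?_, ?_⟩
    · intro hx
      obtain ⟨i, j, rfl⟩ := hDeq x hx
      rw [← map_inv, ← map_mul, ← map_mul]
      have : ∀ i j : Fin 3, rzm * (zm ^ i.val * wm ^ j.val) * rzm⁻¹ =
          zm ^ i.val * (wm⁻¹) ^ j.val := by decide
      rw [this, map_mul, map_pow, map_pow, map_inv, φzm, hwdef]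
      exact mul_mem (pow_mem hz _) (pow_mem (inv_mem hw) _)
    · intro hx
      obtain ⟨i, j, h⟩ := hDeq _ hx
      have : x = φ (rzm⁻¹ * (zm ^ i.val * wm ^ j.val) * rzm) := by
        rw [map_mul, map_mul, map_inv, ← h]; group
      have h' : ∀ i j : Fin 3, rzm⁻¹ * (zm ^ i.val * wm ^ j.val) * rzm =
          zm ^ i.val * (wm⁻¹) ^ j.val := by decide
      rw [this, h', map_mul, map_pow, map_pow, map_inv, φzm, hwdef]
      exact mul_mem (pow_mem hz _) (pow_mem (inv_mem hw) _)
  have hrwN : φ rwm ∈ normalizer (D : Set G) := by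
    refine mem_normalizer_iff.2 fun x => ⟨?_, ?_⟩
    · intro hx
      obtain ⟨i, j, rfl⟩ := hDeq x hx
      rw [← map_inv, ← map_mul, ← map_mul]
      have : ∀ i j : Fin 3, rwm * (zm ^ i.val * wm ^ j.val) * rwm⁻¹ =
          (zm⁻¹) ^ i.val * wm ^ j.val := by decide
      rw [this, map_mul, map_pow, map_pow, map_inv, φzm, hwdef]
      exact mul_mem (pow_mem (inv_mem hz) _) (pow_mem hw _)
    · intro hx
      obtain ⟨i, j, h⟩ := hDeq _ hx
      have : x = φ (rwm⁻¹ * (zm ^ i.val * wm ^ j.val) * rwm) := by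
        rw [map_mul, map_mul, map_inv, ← h]; group
      have h' : ∀ i j : Fin 3, rwm⁻¹ * (zm ^ i.val * wm ^ j.val) * rwm =
          (zm⁻¹) ^ i.val * wm ^ j.val := by decide
      rw [this, h', map_mul, map_pow, map_pow, map_inv, φzm, hwdef]
      exact mul_mem (pow_mem (inv_mem hz) _) (pow_mem hw _)
  have hzc : 18 < Nat.card (centralizer ({z} : Set G)) := by
    let g : M35 → G := φ
    have hsub : ∀ x : M35, x.1.1 = 1 → φ x ∈ centralizer ({z} : Set G) := by
      intro x hx
      rw [mem_centralizer_singleton_iff, ← φzm, ← map_mul, ← map_mul]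
      congr 1
      ext1
      simp [zm, hx, Prod.ext_iff]
    let e : ↥(alternatingGroup (Fin 5)) → centralizer ({z} : Set G) := fun q =>
      ⟨φ ⟨(1, q.1), by rw [mem_M35, map_one, one_mul]; exact q.2⟩, hsub _ rfl⟩
    have he : Function.Injective e := fun p q h =>
      by
        have hval : φ _ = φ _ := congrArg Subtype.val h
        exact Subtype.ext (congrArg (fun x : M35 => x.1.2) (φinj hval))
    have := Nat.card_le_card_of_injective e he
    have h60 : Nat.card ↥(alternatingGroup (Fin 5)) = 60 := by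
      rw [nat_card_alternatingGroup, Nat.card_fin]; rfl
    omega
  -- the centralizer of `y` normalizes `D` and has an involution
  have hyle : centralizer ({y} : Set G) ≤ normalizer (D : Set G) := by
    intro g hg
    have hDC : D ≤ centralizer ({y} : Set G) := fun d hd =>
      mem_centralizer_singleton_iff.2 (hcm d hd y hy)
    exact (normal_subgroupOf_iff_le_normalizer hDC).1 hyn hg
  have hinv : ∃ s : G, s * s = 1 ∧ s ≠ 1 ∧ s ∈ centralizer ({y} : Set G) := by
    haveI : Fact (Nat.Prime 2) := ⟨Nat.prime_two⟩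
    obtain ⟨s, hs⟩ := exists_prime_orderOf_dvd_card' 2 (G := centralizer ({y} : Set G))
      (by rw [hycard]; norm_num)
    refine ⟨s, ?_, ?_, s.2⟩
    · have h := pow_orderOf_eq_one s
      rw [hs, pow_two] at h
      exact congrArg Subtype.val h
    · intro h
      have : s = 1 := Subtype.ext h
      simp [this] at hs
  obtain ⟨s, hss, hsne, hsy⟩ := hinv
  have hsN := hyle hsy
  have hsinv : s⁻¹ = s := inv_eq_of_mul_eq_one_right hss
  -- a conjugate of `z` by an element of `N(D)` lies on an axis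
  have hyz : y ∉ zpowers z := by
    intro h
    have : D ≤ zpowers z := by
      rw [← hgen, closure_le]
      rintro x (rfl | rfl)
      · exact h
      · exact mem_zpowers _
    have := card_le_of_le this
    rw [hcard, Nat.card_zpowers, orderOf_eq_prime (hp := ⟨Nat.prime_three⟩) (hexp z hz) hzne] at this
    omega
  have hN36 : ∀ n ∈ normalizer (D : Set G), n * z * n⁻¹ ∈ zpowers z ∨ n * z * n⁻¹ ∈ zpowers w := by
    intro n hn
    let N36 : Subgroup G := normalizer (D : Set G) ⊓ normalizer (zpowers z : Set G)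
    have hDN : D ≤ N36 := le_inf le_normalizer hDle
    by_cases hnz : n ∈ N36
    · exact Or.inl ((mem_normalizer_iff.1 hnz.2 z).1 (mem_zpowers z))
    have hzz : φ zm ∈ N36 := by rw [φzm]; exact hDN hz
    let f : Fin 3 × Fin 3 × Fin 2 × Fin 2 → N36 := fun p =>
      ⟨φ (zm ^ p.1.val * wm ^ p.2.1.val * rzm ^ p.2.2.1.val * rwm ^ p.2.2.2.val), by
        simp only [map_mul, map_pow, hwdef]
        exact mul_mem (mul_mem (mul_mem (pow_mem hzz _) (pow_mem (hDN hw) _))
          (pow_mem (mem_inf.2 ⟨hrzN, hrz⟩) _)) (pow_mem (mem_inf.2 ⟨hrwN, hrw⟩) _)⟩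
    have hf : Function.Injective f := by
      intro p q h
      have hval : φ _ = φ _ := congrArg Subtype.val h
      have h' := φinj hval
      clear hval
      revert h'
      revert p q
      have : ∀ p q : Fin 3 × Fin 3 × Fin 2 × Fin 2,
          (zm ^ p.1.val * wm ^ p.2.1.val * rzm ^ p.2.2.1.val * rwm ^ p.2.2.2.val) =
          (zm ^ q.1.val * wm ^ q.2.1.val * rzm ^ q.2.2.1.val * rwm ^ q.2.2.2.val) → p = q := by
        decide
      intro p q _ h'
      exact this p q h'
    have h36 := Nat.card_le_card_of_injective f hf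
    simp only [Nat.card_prod, Nat.card_fin] at h36
    have hidx : (N36.subgroupOf (normalizer (D : Set G))).index = 2 := by
      have hmul := (N36.subgroupOf (normalizer (D : Set G))).card_mul_index
      rw [Nat.card_congr (subgroupOfEquivOfLe (inf_le_left : N36 ≤ _)).toEquiv, hN] at hmul
      have hne : (N36.subgroupOf (normalizer (D : Set G))).index ≠ 1 := by
        intro h
        rw [index_eq_one, subgroupOf_eq_top] at h
        exact hnz (h hn)
      have hpos : (N36.subgroupOf (normalizer (D : Set G))).index ≠ 0 := index_ne_zero_of_finite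
      generalize (N36.subgroupOf (normalizer (D : Set G))).index = k at hmul hne hpos ⊢
      rcases Nat.lt_or_ge k 3 with h | h
      · omega
      · have := Nat.mul_le_mul h36 h
        rw [hmul] at this
        norm_num at this
    have hconj : ∀ r ∈ N36, n⁻¹ * r * n ∈ N36 := by
      intro r hr
      have hnorm := normal_of_index_eq_two hidx
      have := hnorm.conj_mem ⟨r, hr.1⟩ hr ⟨n⁻¹, inv_mem hn⟩
      simpa [mem_subgroupOf] using this
    have hfix : ∀ r ∈ N36, r * (n * z * n⁻¹) * r⁻¹ ∈ zpowers (n * z * n⁻¹) := by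
      intro r hr
      obtain ⟨k, hk⟩ := (mem_normalizer_iff.1 (hconj r hr).2 z).1 (mem_zpowers z)
      refine ⟨k, ?_⟩
      show (n * z * n⁻¹) ^ k = _
      change z ^ k = _ at hk
      rw [conj_zpow, hk]
      group
    exact hkill _ ((mem_normalizer_iff.1 hn z).1 hz) (hfix _ (mem_inf.2 ⟨hrzN, hrz⟩))
      (hfix _ (mem_inf.2 ⟨hrwN, hrw⟩))
  -- the shape of `y`
  obtain ⟨iy, jy, hyij⟩ := hDeq y hy
  rw [hzwp] at hyij
  have hiy : iy ≠ 0 := by
    rintro rfl
    simp only [Fin.val_zero, pow_zero, one_mul] at hyij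
    obtain ⟨n, hn, hnz⟩ : ∃ n ∈ normalizer (D : Set G), n ∉ normalizer (zpowers z : Set G) := by
      by_contra hcon
      push Not at hcon
      have hpre : ∀ n : ↥(normalizer (D : Set G)), ∃ g : M35, φ g = n ∧
          (g.1.2 * c5 * g.1.2⁻¹ = c5 ∨ g.1.2 * c5 * g.1.2⁻¹ = c5⁻¹) := by
        rintro ⟨n, hn⟩
        obtain ⟨g, rfl⟩ : n ∈ φ.range := φrange.symm ▸ hcon n hn
        refine ⟨g, rfl, ?_⟩
        obtain ⟨i, j, hij⟩ := hDeq _ ((mem_normalizer_iff.1 hn w).1 hw)
        have heq : g * wm * g⁻¹ = zm ^ i.val * wm ^ j.val :=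
          φinj (by rw [map_mul, map_mul, map_inv, hwdef]; exact hij)
        have h2 : g.1.2 * c5 * g.1.2⁻¹ = c5 ^ j.val := by
          simpa [zm, wm] using congrArg (fun x : M35 => x.1.2) heq
        fin_cases j
        · exfalso
          simp at h2
          exact absurd h2 (by decide)
        · left; simpa using h2
        · right; rw [h2]; decide
      choose g hg hgc using hpre
      let B := {b : Equiv.Perm (Fin 5) // b * c5 * b⁻¹ = c5 ∨ b * c5 * b⁻¹ = c5⁻¹}
      let f : ↥(normalizer (D : Set G)) → Fin 3 × B := fun n => ((g n).1.1 0, ⟨(g n).1.2, hgc n⟩)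
      have k3 : ∀ a a' : Equiv.Perm (Fin 3), Equiv.Perm.sign a = Equiv.Perm.sign a' → a 0 = a' 0 →
          a = a' := by decide
      have hf : Function.Injective f := by
        intro p q h
        obtain ⟨h1, h2⟩ := Prod.ext_iff.1 h
        have h2' : (g p).1.2 = (g q).1.2 := congrArg Subtype.val h2
        have hp := (g p).2
        have hq := (g q).2
        rw [show (g p).1 = ((g p).1.1, (g p).1.2) from rfl, mem_M35, h2'] at hp
        rw [show (g q).1 = ((g q).1.1, (g q).1.2) from rfl, mem_M35] at hq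
        have h1' : (g p).1.1 = (g q).1.1 := k3 _ _ (mul_right_cancel (hp.trans hq.symm)) h1
        apply Subtype.ext
        rw [← hg p, ← hg q, show g p = g q from Subtype.ext (Prod.ext h1' h2')]
      have h72 := Nat.card_le_card_of_injective f hf
      have hB : Nat.card B = 12 := by
        rw [Nat.card_eq_fintype_card]
        decide
      rw [hN, Nat.card_prod, Nat.card_fin, hB] at h72
      omega
    have hnw : n * z * n⁻¹ ∈ zpowers w := by
      rcases hN36 n hn with h | h
      · exfalso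
        apply hnz
        exact mem_normalizer_zpowers_of_conj_mem h
      · exact h
    have hne : n * z * n⁻¹ ≠ 1 := fun h => hzne (by rwa [conj_eq_one_iff] at h)
    have hyne : y ≠ 1 := fun h => hyz (h ▸ one_mem _)
    have hw3 : w ^ 3 = 1 := hexp w hw
    haveI : Fact (Nat.Prime 3) := ⟨Nat.prime_three⟩
    have hyw : y ∈ zpowers (n * z * n⁻¹) := by
      have hle : zpowers (n * z * n⁻¹) ≤ zpowers w := zpowers_le.2 hnw
      have heq : zpowers (n * z * n⁻¹) = zpowers w := by
        refine eq_of_le_of_card_ge hle ?_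
        rw [Nat.card_zpowers, Nat.card_zpowers]
        exact (orderOf_le_of_pow_eq_one (by norm_num) hw3).trans
          (orderOf_eq_prime (p := 3) (by rw [conj_pow, hexp z hz]; group) hne).ge
      rw [heq, hyij]
      exact npow_mem_zpowers w _
    have hcle : (centralizer ({z} : Set G)).map (MulAut.conj n).toMonoidHom ≤
        centralizer ({y} : Set G) := by
      rintro _ ⟨c, hc, rfl⟩
      have hc0 : Commute c z := mem_centralizer_singleton_iff.1 hc
      obtain ⟨k, hk⟩ := hyw
      change (n * z * n⁻¹) ^ k = y at hk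
      rw [mem_centralizer_singleton_iff, ← hk, conj_zpow]
      show n * c * n⁻¹ * (n * z ^ k * n⁻¹) = n * z ^ k * n⁻¹ * (n * c * n⁻¹)
      have := (hc0.zpow_right k).eq
      calc n * c * n⁻¹ * (n * z ^ k * n⁻¹) = n * (c * z ^ k) * n⁻¹ := by group
        _ = n * (z ^ k * c) * n⁻¹ := by rw [this]
        _ = _ := by group
    have := card_le_of_le hcle
    rw [card_map_of_injective (MulAut.conj n).injective, hycard] at this
    omega
  have hjy : jy ≠ 0 := by
    rintro rfl
    simp only [Fin.val_zero, pow_zero, mul_one] at hyij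
    exact hyz (hyij ▸ npow_mem_zpowers z _)
  have hsz : s * z * s⁻¹ = w ∨ s * z * s⁻¹ = w⁻¹ := by
    have hne : s * z * s⁻¹ ≠ 1 := fun h => hzne (by rwa [conj_eq_one_iff] at h)
    rcases hN36 s hsN with h | h
    · exfalso
      have hsz : s ∈ normalizer (zpowers z : Set G) := mem_normalizer_zpowers_of_conj_mem h
      obtain ⟨g, hg⟩ : s ∈ φ.range := φrange.symm ▸ hsz
      have hg2 : g * g = 1 := φinj (by rw [map_mul, hg, hss, map_one])
      have hgy : g * (zm ^ iy.val * wm ^ jy.val) = (zm ^ iy.val * wm ^ jy.val) * g :=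
        φinj (by
          rw [map_mul φ g, map_mul φ _ g, hg, hzwp, ← hyij]
          exact mem_centralizer_singleton_iff.1 hsy)
      have k3 : ∀ (a : Equiv.Perm (Fin 3)) (i : Fin 3), i ≠ 0 → a * a = 1 →
          a * c3 ^ i.val = c3 ^ i.val * a → a = 1 := by decide
      have k5 : ∀ (b : Equiv.Perm (Fin 5)) (j : Fin 3), j ≠ 0 → b * b = 1 →
          Equiv.Perm.sign b = 1 → b * c5 ^ j.val = c5 ^ j.val * b → b = 1 := by decide
      have ha : g.1.1 = 1 := k3 _ iy hiy (congrArg (fun x : M35 => x.1.1) hg2)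
        (by simpa [zm, wm] using congrArg (fun x : M35 => x.1.1) hgy)
      have hsb : Equiv.Perm.sign g.1.2 = 1 := by
        have hmem := g.2
        rw [show g.1 = (g.1.1, g.1.2) from rfl, mem_M35, ha, map_one, one_mul] at hmem
        exact hmem
      have hb : g.1.2 = 1 := k5 _ jy hjy (congrArg (fun x : M35 => x.1.2) hg2) hsb
        (by simpa [zm, wm] using congrArg (fun x : M35 => x.1.2) hgy)
      apply hsne
      rw [← hg, show g = 1 from Subtype.ext (Prod.ext ha hb), map_one]
    · obtain ⟨k, hk⟩ := mem_powers_iff_mem_zpowers.2 h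
      change w ^ k = _ at hk
      have hw3 : w ^ 3 = 1 := hexp w hw
      rw [pow_eq_pow_mod k hw3] at hk
      have : k % 3 = 0 ∨ k % 3 = 1 ∨ k % 3 = 2 := by omega
      rcases this with h0 | h0 | h0 <;> rw [h0] at hk
      · exact absurd (by simpa using hk.symm) hne
      · exact Or.inl (by simpa using hk.symm)
      · right
        rw [← hk]
        exact eq_inv_of_mul_eq_one_left (by rw [← pow_succ]; exact hw3)
  obtain ⟨t, htt, htz, htN⟩ : ∃ t : G, t * t = 1 ∧ t * z * t = w ∧ t ∈ normalizer (D : Set G) := by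
    have hr2 : φ rzm * φ rzm = 1 := by
      rw [← map_mul, show rzm * rzm = 1 by decide, map_one]
    have hrinv : (φ rzm)⁻¹ = φ rzm := inv_eq_of_mul_eq_one_right hr2
    rcases hsz with h | h
    · exact ⟨s, hss, by rwa [hsinv] at h, hsN⟩
    · refine ⟨φ rzm * s * (φ rzm)⁻¹, ?_, ?_, mul_mem (mul_mem hrzN hsN) (inv_mem hrzN)⟩
      · calc φ rzm * s * (φ rzm)⁻¹ * (φ rzm * s * (φ rzm)⁻¹)
            = φ rzm * (s * s) * (φ rzm)⁻¹ := by group
          _ = 1 := by rw [hss]; group
      · have h1 : (φ rzm)⁻¹ * z * φ rzm = z := by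
          conv_rhs => rw [← rzz]
          rw [hrinv]
        calc φ rzm * s * (φ rzm)⁻¹ * z * (φ rzm * s * (φ rzm)⁻¹)
            = φ rzm * (s * ((φ rzm)⁻¹ * z * φ rzm) * s) * (φ rzm)⁻¹ := by group
          _ = φ rzm * (s * z * s⁻¹) * (φ rzm)⁻¹ := by rw [h1, hsinv]
          _ = w := by rw [h, ← conj_inv, rzw, inv_inv]
  have htinv : t⁻¹ = t := inv_eq_of_mul_eq_one_right htt
  have htw : t * w * t = z := by
    rw [← htz]
    calc t * (t * z * t) * t = (t * t) * z * (t * t) := by group
      _ = z := by rw [htt]; group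
  let φ' : M35 →* G := (MulAut.conj t).toMonoidHom.comp φ
  have φ'inj : Function.Injective φ' := (MulAut.conj t).injective.comp φinj
  have φ'zm : φ' zm = w := by
    show t * φ zm * t⁻¹ = w
    rw [φzm, htinv, htz]
  have φ'wm : φ' wm = z := by
    show t * φ wm * t⁻¹ = z
    rw [hwdef]
    rw [htinv, htw]
  have φ'range : φ'.range = normalizer (zpowers w : Set G) := by
    rw [MonoidHom.range_eq_map, ← map_map, ← MonoidHom.range_eq_map, φrange,
      map_normalizer_eq_of_bijective (zpowers z) (f := (MulAut.conj t).toMonoidHom)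
        (MulAut.conj t).bijective, MonoidHom.map_zpowers]
    congr 2
    simp only [MulEquiv.coe_toMonoidHom, MulAut.conj_apply]
    rw [htinv, htz]
  let good : G → Prop := fun a => Nat.card (centralizer ({a} : Set G)) = 18 ∧
    centralizer ({a} : Set G) ≤ normalizer (D : Set G)
  have good_inv : ∀ a, good a → good a⁻¹ := fun a ha => by
    simp only [good, Datum.centralizer_inv]; exact ha
  have good_conj : ∀ r ∈ normalizer (D : Set G), ∀ a, good a → good (r * a * r⁻¹) := by
    intro r hr a ha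
    have hc : centralizer ({r * a * r⁻¹} : Set G) =
        (centralizer ({a} : Set G)).map (MulAut.conj r).toMonoidHom := by
      ext g
      rw [mem_map_equiv, mem_centralizer_singleton_iff, mem_centralizer_singleton_iff,
        MulAut.conj_symm_apply]
      constructor
      · intro h
        calc r⁻¹ * g * r * a = r⁻¹ * (g * (r * a * r⁻¹)) * r := by group
          _ = r⁻¹ * (r * a * r⁻¹ * g) * r := by rw [h]
          _ = _ := by group
      · intro h
        calc g * (r * a * r⁻¹) = r * (r⁻¹ * g * r * a) * r⁻¹ := by group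
          _ = r * (a * (r⁻¹ * g * r)) * r⁻¹ := by rw [h]
          _ = _ := by group
    refine ⟨?_, ?_⟩
    · rw [hc, card_map_of_injective (MulAut.conj r).injective, ha.1]
    · rw [hc]
      rintro _ ⟨g, hg, rfl⟩
      exact mul_mem (mul_mem hr (ha.2 hg)) (inv_mem hr)
  have gy : good (z ^ iy.val * w ^ jy.val) := hyij ▸ ⟨hycard, hyle⟩
  have hzw : z * w = w * z := hcm z hz w hw
  have hgood : good (z * w) ∧ good (z * w⁻¹) := by
    have conj1 : ∀ a b : G, (φ rwm) * (a * b) * (φ rwm)⁻¹ =
        ((φ rwm) * a * (φ rwm)⁻¹) * ((φ rwm) * b * (φ rwm)⁻¹) := fun a b => by group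
    have hcw : z⁻¹ * w = (z * w⁻¹)⁻¹ := by
      rw [mul_inv_rev, inv_inv, hcm w hw _ (inv_mem hz)]
    have hsqz : z ^ 2 = z⁻¹ := eq_inv_of_mul_eq_one_left (by rw [← pow_succ]; exact hexp z hz)
    have hsqw : w ^ 2 = w⁻¹ := eq_inv_of_mul_eq_one_left (by rw [← pow_succ]; exact hexp w hw)
    have e1 : φ rwm * (z * w) * (φ rwm)⁻¹ = (z * w⁻¹)⁻¹ := by rw [conj1, rwz, rww, hcw]
    have e2 : φ rwm * (z * w⁻¹) * (φ rwm)⁻¹ = (z * w)⁻¹ := by
      rw [conj1, rwz, ← conj_inv, rww, mul_inv_rev, hcm w⁻¹ (inv_mem hw) z⁻¹ (inv_mem hz)]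
    have a1 : good (z * w) → good (z * w⁻¹) := fun h => by
      have := good_inv _ (good_conj _ hrwN _ h)
      rwa [e1, inv_inv] at this
    have a2 : good (z * w⁻¹) → good (z * w) := fun h => by
      have := good_inv _ (good_conj _ hrwN _ h)
      rwa [e2, inv_inv] at this
    fin_cases iy <;> fin_cases jy <;> simp at hiy hjy gy ⊢
    · exact ⟨gy, a1 gy⟩
    · rw [hsqw] at gy; exact ⟨a2 gy, gy⟩
    · rw [hsqz, hcw] at gy
      have := good_inv _ gy
      rw [inv_inv] at this
      exact ⟨a2 this, this⟩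
    · rw [hsqz, hsqw] at gy
      have h := good_inv _ gy
      rw [mul_inv_rev, inv_inv, inv_inv, ← hzw] at h
      exact ⟨h, a1 h⟩
  refine ⟨{ D := D, z := z, w := w, t := t, φ := φ, φ' := φ', φ_inj := φinj, φ'_inj := φ'inj,
            φ_range := φrange, φ'_range := φ'range, φ_zm := φzm, φ_wm := hwdef, φ'_zm := φ'zm,
            φ'_wm := φ'wm, t_sq := htt, tz := htz, tw := htw, t_mem := htN, z_mem := hz,
            w_mem := hw, comm := hcm, card_D := hcard, cube := hexp, self_cent := hC, card_N := hN,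
            not_dvd := ?_, sylow := hsyl, card_zw := hgood.1.1, card_zw' := hgood.2.1,
            zw_le := hgood.1.2, zw'_le := hgood.2.2 }⟩
  haveI : Fact (Nat.Prime 3) := ⟨Nat.prime_three⟩
  rw [hDP]
  exact P.not_dvd_index

end CfsgLib.AEightThreeLocal
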