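import Cfsg.Agent.Lib.AEightThreeLocal.AltEightTwo
import Cfsg.Agent.Lib.AEightThreeClasses.Core
import Cfsg.Agent.Lib.TwoFusion.IsolatedZStar
import Cfsg.Agent.Lib.Signalizer.ZStarInst
import Cfsg.Agent.Lib.ClassicalLinear.Card
import Cfsg.Agent.S3331

/-!
The centralisers of the two kinds of involutions of an embedded alternating group of degree eight
are the product of a normal subgroup of order prime to six and their part inside that group.
-/

set_option autoImplicit false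
set_option maxRecDepth 100000
set_option linter.style.haveILetI false
set_option linter.unusedSectionVars false

namespace CfsgLib.AEightThreeLocal

open Subgroup Cfsg

universe u

/-- A product of two three-cycles commuting with `t0`. -/
def cy1 : Alt8 := ⟨Equiv.swap 0 2 * Equiv.swap 2 4 * (Equiv.swap 1 3 * Equiv.swap 3 5), by
  rw [Equiv.Perm.mem_alternatingGroup]; decide⟩

theorem cy1_facts : cy1 ^ 3 = 1 ∧ cy1 ≠ 1 ∧ cy1 * t0 = t0 * cy1 ∧
    s0 * cy1 * s0⁻¹ ≠ 1 ∧ s0 * cy1 * s0⁻¹ ≠ cy1 ∧ s0 * cy1 * s0⁻¹ ≠ cy1 * cy1 := by decide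

theorem exists_conj_cy1 : ∃ g : Alt8, g * cy * g⁻¹ = cy1 :=
  isConj_of_prime Nat.prime_three cy_pow (by decide) cy1_facts.1 cy1_facts.2.1 (by decide)
    (τ := Equiv.swap 6 7) (by decide) (by decide)

theorem cent_cy1_t0 {h : Alt8} (hy : h * cy1 = cy1 * h) (ht : h * t0 = t0 * h) :
    ∃ i : Fin 3, ∃ j : Fin 2, h = cy1 ^ i.val * t0 ^ j.val := by
  set π : Equiv.Perm (Fin 8) := (h : Equiv.Perm (Fin 8)) with hπ
  set Y : Equiv.Perm (Fin 8) := (cy1 : Equiv.Perm (Fin 8)) with hY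
  set T : Equiv.Perm (Fin 8) := (t0 : Equiv.Perm (Fin 8)) with hT
  set σ : Equiv.Perm (Fin 8) := Equiv.swap 6 7 with hσ
  have cY : ∀ k, π (Y k) = Y (π k) := fun k => by
    have := congrArg (fun g : Alt8 => (g : Equiv.Perm (Fin 8)) k) hy
    simpa using this
  have cT : ∀ k, π (T k) = T (π k) := fun k => by
    have := congrArg (fun g : Alt8 => (g : Equiv.Perm (Fin 8)) k) ht
    simpa using this
  have h0 : Y (π 0) ≠ π 0 := by
    rw [← cY]
    intro h
    exact absurd (π.injective h) (by rw [hY]; decide)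
  have h6 : Y (π 6) = π 6 := by
    rw [← cY, show Y 6 = 6 by rw [hY]; decide]
  have key : ∀ a b : Fin 8, Y a ≠ a → Y b = b →
      ∃ i : Fin 3, ∃ j : Fin 2, ∃ k : Fin 2,
        (Y ^ i.val * T ^ j.val * σ ^ k.val) 0 = a ∧ (Y ^ i.val * T ^ j.val * σ ^ k.val) 6 = b := by
    rw [hY, hT, hσ]; decide
  obtain ⟨i, j, k, hk0, hk6⟩ := key _ _ h0 h6
  set c : Equiv.Perm (Fin 8) := Y ^ i.val * T ^ j.val * σ ^ k.val with hc
  have hcc : ∀ (i : Fin 3) (j k : Fin 2) (m : Fin 8),
      (Y ^ i.val * T ^ j.val * σ ^ k.val) (Y m) = Y ((Y ^ i.val * T ^ j.val * σ ^ k.val) m) ∧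
      (Y ^ i.val * T ^ j.val * σ ^ k.val) (T m) = T ((Y ^ i.val * T ^ j.val * σ ^ k.val) m) := by
    rw [hY, hT, hσ]; decide
  have heq : π = c := by
    have e : ∀ m, π m = c m → π (Y m) = c (Y m) ∧ π (T m) = c (T m) := fun m hm => by
      rw [cY, cT, (hcc i j k m).1, (hcc i j k m).2, hm]
      exact ⟨rfl, rfl⟩
    have q0 : π 0 = c 0 := hk0.symm
    have q6 : π 6 = c 6 := hk6.symm
    have q2 : π 2 = c 2 := by have := (e 0 q0).1; rwa [show Y 0 = 2 by rw [hY]; decide] at this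
    have q4 : π 4 = c 4 := by have := (e 2 q2).1; rwa [show Y 2 = 4 by rw [hY]; decide] at this
    have q1 : π 1 = c 1 := by have := (e 0 q0).2; rwa [show T 0 = 1 by rw [hT]; decide] at this
    have q3 : π 3 = c 3 := by have := (e 2 q2).2; rwa [show T 2 = 3 by rw [hT]; decide] at this
    have q5 : π 5 = c 5 := by have := (e 4 q4).2; rwa [show T 4 = 5 by rw [hT]; decide] at this
    have q7 : π 7 = c 7 := by have := (e 6 q6).2; rwa [show T 6 = 7 by rw [hT]; decide] at this
    refine Equiv.ext fun m => ?_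
    fin_cases m <;> assumption
  have hk : k = 0 := by
    have hs := congrArg Equiv.Perm.sign heq
    rw [hπ, Equiv.Perm.mem_alternatingGroup.mp h.2, hc, map_mul, map_mul, map_pow, map_pow, map_pow,
      hY, hT, Equiv.Perm.mem_alternatingGroup.mp cy1.2, Equiv.Perm.mem_alternatingGroup.mp t0.2,
      hσ, Equiv.Perm.sign_swap (by decide)] at hs
    fin_cases k
    · rfl
    · simp at hs
  refine ⟨i, j, Subtype.ext ?_⟩
  rw [hc, hk] at heq
  simpa [hY, hT] using heq

theorem cz_s0 : cz * s0 = s0 * cz := by decide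

/-- Another involution centralising `s0`. -/
def au : Alt8 := u4 1

theorem au_facts : au * s0 = s0 * au ∧
    au * cz * au⁻¹ ≠ 1 ∧ au * cz * au⁻¹ ≠ cz ∧ au * cz * au⁻¹ ≠ cz * cz := by decide

theorem cent_s0_t0_three {h : Alt8} (hs : h * s0 = s0 * h) (ht : h * t0 = t0 * h) (h3 : h ^ 3 = 1) :
    h = 1 := by
  set π : Equiv.Perm (Fin 8) := (h : Equiv.Perm (Fin 8)) with hπ
  set S : Equiv.Perm (Fin 8) := (s0 : Equiv.Perm (Fin 8)) with hS
  have cS : ∀ k, π (S k) = S (π k) := fun k => by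
    have := congrArg (fun g : Alt8 => (g : Equiv.Perm (Fin 8)) k) hs
    simpa using this
  have cT : ∀ k, π ((t0 : Equiv.Perm (Fin 8)) k) = (t0 : Equiv.Perm (Fin 8)) (π k) := fun k => by
    have := congrArg (fun g : Alt8 => (g : Equiv.Perm (Fin 8)) k) ht
    simpa using this
  have c3 : ∀ k, π (π (π k)) = k := fun k => by
    have := congrArg (fun g : Alt8 => (g : Equiv.Perm (Fin 8)) k) h3
    simpa [pow_succ, Equiv.Perm.mul_apply] using this
  have hlow : ∀ k : Fin 8, k.val < 4 → (π k).val < 4 := by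
    intro k hk
    by_contra hcon
    have h1 : ∀ m : Fin 8, ¬ m.val < 4 → S m = m := by rw [hS]; decide
    have h2 : ∀ m : Fin 8, m.val < 4 → S m ≠ m := by rw [hS]; decide
    have := h1 _ hcon
    rw [← cS] at this
    exact h2 k hk (π.injective this)
  have hupp : ∀ k : Fin 8, 4 ≤ k.val → 4 ≤ (π k).val := by
    intro k hk
    by_contra hcon
    have h1 := hlow _ (hlow _ (Nat.lt_of_not_le hcon))
    rw [c3] at h1
    omega
  let f : Fin 4 → Fin 4 := fun i => ⟨(π ⟨i.val, by omega⟩).val, hlow _ i.isLt⟩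
  let g : Fin 4 → Fin 4 := fun i =>
    ⟨(π ⟨i.val + 4, by omega⟩).val - 4, by omega⟩
  have key : ∀ f : Fin 4 → Fin 4, (∀ i, f (add4 i 1) = add4 (f i) 1) → (∀ i, f (f (f i)) = i) →
      ∀ i, f i = i := by decide
  have hval : ∀ i : Fin 4, (S ⟨i.val, by omega⟩).val = (add4 i 1).val ∧
      ((t0 : Equiv.Perm (Fin 8)) ⟨i.val + 4, by omega⟩).val = (add4 i 1).val + 4 := by
    rw [hS]; decide
  have hf := key f (fun i => by
    apply Fin.ext
    have e1 : (⟨(add4 i 1).val, by omega⟩ : Fin 8) = S ⟨i.val, by omega⟩ := Fin.ext (hval i).1.symm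
    show (π ⟨(add4 i 1).val, _⟩).val = _
    rw [e1, cS]
    have e2 : (⟨(f i).val, by omega⟩ : Fin 8) = π ⟨i.val, by omega⟩ := rfl
    rw [← e2, (hval (f i)).1]) (fun i => by
    apply Fin.ext
    show (π (π (π ⟨i.val, by omega⟩))).val = i.val
    rw [c3])
  have hgg : ∀ i : Fin 4, (⟨(g i).val + 4, by omega⟩ : Fin 8) = π ⟨i.val + 4, by omega⟩ := fun i => by
    have := hupp ⟨i.val + 4, by omega⟩ (Nat.le_add_left 4 i.val)
    apply Fin.ext
    simp only [g]
    omega
  have hg := key g (fun i => by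
    have e1 : (⟨(add4 i 1).val + 4, by omega⟩ : Fin 8) = (t0 : Equiv.Perm (Fin 8)) ⟨i.val + 4, by omega⟩ :=
      Fin.ext (hval i).2.symm
    have e2 := congrArg Fin.val (hgg (add4 i 1))
    rw [e1, cT, ← hgg i, (hval (g i)).2] at e2
    apply Fin.ext
    simp only at e2
    omega) (fun i => by
    have := congrArg Fin.val (c3 ⟨i.val + 4, by omega⟩)
    rw [← hgg i, ← hgg (g i), ← hgg (g (g i))] at this
    apply Fin.ext
    simp only at this
    omega)
  refine Subtype.ext (Equiv.ext fun k => ?_)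
  show π k = k
  rcases Nat.lt_or_ge k.val 4 with hk | hk
  · have := congrArg Fin.val (hf ⟨k.val, hk⟩)
    exact Fin.ext this
  · have hk' : k = ⟨(⟨k.val - 4, by omega⟩ : Fin 4).val + 4, by omega⟩ := by
      apply Fin.ext; simp only; omega
    rw [hk']
    have e1 := congrArg Fin.val (hgg ⟨k.val - 4, by omega⟩)
    have e2 := congrArg Fin.val (hg ⟨k.val - 4, by omega⟩)
    apply Fin.ext
    simp only at e1 e2 ⊢
    omega

/-- Odd normal subgroups of a subgroup of order dividing `384` are trivial if some element of it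
does not normalise a subgroup of order three. -/
theorem odd_normal_trivial {C N : Subgroup Alt8} (hC : Nat.card C ∣ 384) (hNC : N ≤ C)
    (hodd : Odd (Nat.card N)) (hn : ∀ c ∈ C, ∀ n ∈ N, c * n * c⁻¹ ∈ N) {x e : Alt8} (hx : x ∈ C)
    (he : e ∈ C) (hx3 : x ^ 3 = 1) (hx1 : x ≠ 1)
    (hne : e * x * e⁻¹ ≠ 1 ∧ e * x * e⁻¹ ≠ x ∧ e * x * e⁻¹ ≠ x * x) : N = ⊥ := by
  by_contra hbot
  have hd : Nat.card N ∣ 384 := (card_dvd_of_le hNC).trans hC
  have h3 : Nat.card N ∣ 3 := by
    have hcop : (Nat.card N).Coprime (2 ^ 7) := (Nat.coprime_two_right.2 hodd).pow_right 7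
    exact hcop.dvd_of_dvd_mul_left (show Nat.card N ∣ 2 ^ 7 * 3 by norm_num; exact hd)
  have hcard : Nat.card N = 3 := by
    rcases (Nat.dvd_prime Nat.prime_three).1 h3 with h | h
    · exact absurd (Subgroup.eq_bot_of_card_eq N h) hbot
    · exact h
  haveI : Fact (Nat.Prime 3) := ⟨Nat.prime_three⟩
  have ho : orderOf x = 3 := orderOf_eq_prime hx3 hx1
  have hxN : x ∈ N := by
    by_contra hxN
    have hle : zpowers x ⊔ N ≤ C := sup_le (zpowers_le.2 hx) hNC
    have hnorm : zpowers x ≤ normalizer (N : Set Alt8) := by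
      rw [zpowers_le, mem_normalizer_iff]
      refine fun n => ⟨hn x hx n, fun h => ?_⟩
      have := hn x⁻¹ (inv_mem hx) _ h
      rwa [show x⁻¹ * (x * n * x⁻¹) * x⁻¹⁻¹ = n by group] at this
    have hp : IsPGroup 3 ↥(zpowers x ⊔ N) :=
      (IsPGroup.of_card (n := 1) (by rw [Nat.card_zpowers, ho, pow_one])).to_sup_of_normal_right'
        (IsPGroup.of_card (n := 1) (by rw [hcard, pow_one])) hnorm
    obtain ⟨k, hk⟩ := IsPGroup.iff_card.1 hp
    have hk' : 3 ^ k ∣ 384 := hk ▸ (card_dvd_of_le hle).trans hC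
    have hk1 : k ≤ 1 := by
      by_contra h
      have : 3 ^ 2 ∣ 384 := (pow_dvd_pow 3 (by omega)).trans hk'
      norm_num at this
    have hle' : Nat.card ↥(zpowers x ⊔ N) ≤ Nat.card N := by
      rw [hk, hcard]
      calc 3 ^ k ≤ 3 ^ 1 := Nat.pow_le_pow_right (by norm_num) hk1
        _ = 3 := rfl
    exact hxN ((eq_of_le_of_card_ge (le_sup_right : N ≤ zpowers x ⊔ N) hle').symm ▸
      mem_sup_left (mem_zpowers x))
  have hz : zpowers x = N :=
    eq_of_le_of_card_ge (zpowers_le.2 hxN) (by rw [hcard, Nat.card_zpowers, ho])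
  have hmem := hn e he x hxN
  rw [← hz] at hmem
  obtain ⟨k, hk⟩ := mem_powers_iff_mem_zpowers.2 hmem
  change x ^ k = _ at hk
  rw [pow_eq_pow_mod k hx3] at hk
  have : k % 3 = 0 ∨ k % 3 = 1 ∨ k % 3 = 2 := by omega
  rcases this with h | h | h <;> rw [h] at hk
  · exact hne.1 (by simpa using hk.symm)
  · exact hne.2.1 (by simpa using hk.symm)
  · exact hne.2.2 (by rw [← hk, pow_two])

variable {G : Type u} [Group G] [Finite G] (θ : Alt8 →* G)

/-- The hypotheses on the embedding. -/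
structure Emb : Prop where
  inj : Function.Injective θ
  cz : centralizer ({θ cz} : Set G) ≤ θ.range
  cy : centralizer ({θ cy} : Set G) ≤ θ.range
  V : normalizer ((V0.map θ : Subgroup G) : Set G) ≤ θ.range
  E : normalizer ((E0.map θ : Subgroup G) : Set G) ≤ θ.range
  st : ¬ IsConj (θ s0) (θ t0)

theorem card_alt8 : Nat.card Alt8 = 20160 := by
  rw [show Alt8 = ↥(alternatingGroup (Fin 8)) from rfl, nat_card_alternatingGroup, Nat.card_fin]
  rfl

namespace Emb

variable {θ} (hθ : Emb θ)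
include hθ

theorem map_card (K : Subgroup Alt8) : Nat.card (K.map θ) = Nat.card K :=
  card_map_of_injective hθ.inj

theorem cent_cy1 : centralizer ({θ cy1} : Set G) ≤ θ.range := by
  intro g hg
  obtain ⟨h, hh⟩ := exists_conj_cy1
  rw [← hh, map_mul, map_mul, map_inv, mem_centralizer_singleton_iff] at hg
  have h1 : (θ h)⁻¹ * g * θ h ∈ centralizer ({θ AEightThreeLocal.cy} : Set G) := by
    rw [mem_centralizer_singleton_iff]
    calc (θ h)⁻¹ * g * θ h * θ AEightThreeLocal.cy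
        = (θ h)⁻¹ * (g * (θ h * θ AEightThreeLocal.cy * (θ h)⁻¹)) * θ h := by group
      _ = (θ h)⁻¹ * (θ h * θ AEightThreeLocal.cy * (θ h)⁻¹ * g) * θ h := by rw [hg]
      _ = _ := by group
  obtain ⟨a, ha⟩ := hθ.cy h1
  exact ⟨h * a * h⁻¹, by rw [map_mul, map_mul, map_inv, ha]; group⟩

/-- `θ T0` is a Sylow subgroup. -/
theorem not_dvd_128 : ¬ 128 ∣ Nat.card G := by
  intro h
  haveI : Fact (Nat.Prime 2) := ⟨Nat.prime_two⟩
  have hdvd := Sylow.prime_pow_dvd_card_normalizer (p := 2) (n := 6) (G := G)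
    (by norm_num; exact h) (H := T0.map θ) (by rw [hθ.map_card, card_T0]; norm_num)
  have hle : normalizer ((T0.map θ : Subgroup G) : Set G) ≤ θ.range := by
    intro g hg
    refine hθ.E ?_
    set A : Subgroup G := (E0.map θ).map (MulAut.conj g).toMonoidHom with hA
    have hAT : A ≤ T0.map θ := by
      rintro _ ⟨_, ⟨e, he, rfl⟩, rfl⟩
      exact (mem_normalizer_iff.1 hg _).1 ⟨e, E0_le_T0 he, rfl⟩
    have hAr : A ≤ θ.range := hAT.trans (map_le_range θ T0)
    set A' : Subgroup Alt8 := A.comap θ with hA'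
    have hA'E : A' = E0 := by
      refine eq_E0 ?_ ?_ ?_
      · intro x hx
        obtain ⟨y, hy, hyx⟩ := hAT hx
        rwa [hθ.inj hyx] at hy
      · intro x hx
        obtain ⟨_, ⟨e, he, rfl⟩, hex⟩ := (show θ x ∈ A from hx)
        apply hθ.inj
        rw [map_mul, map_one, ← hex]
        simp only [MulEquiv.coe_toMonoidHom, MulAut.conj_apply]
        rw [show g * θ e * g⁻¹ * (g * θ e * g⁻¹) = g * (θ (e * e)) * g⁻¹ by rw [map_mul]; group]
        have := E0_sq he
        rw [pow_two] at this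
        rw [this, map_one]; group
      · rw [← hθ.map_card, hA', map_comap_eq_self hAr, hA,
          card_map_of_injective (MulAut.conj g).injective, hθ.map_card, card_E0]
    have hAE : A = E0.map θ := by rw [← hA'E, hA', map_comap_eq_self hAr]
    refine mem_normalizer_iff.2 fun x => ⟨fun hx => hAE ▸ ⟨x, hx, rfl⟩, fun hx => ?_⟩
    rw [← hAE] at hx
    obtain ⟨y, hy, hyx⟩ := hx
    exact (MulAut.conj g).injective hyx ▸ hy
  have h20 := hdvd.trans (card_dvd_of_le hle)
  rw [Nat.card_congr (MonoidHom.ofInjective hθ.inj).toEquiv.symm, card_alt8] at h20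
  norm_num at h20

theorem not_dvd_128_sub (K : Subgroup G) : ¬ 128 ∣ Nat.card K := fun h =>
  hθ.not_dvd_128 (h.trans (card_subgroup_dvd_card K))

theorem not_dvd_64_s0 : ¬ 64 ∣ Nat.card (centralizer ({θ s0} : Set G)) := by
  intro h
  haveI : Fact (Nat.Prime 2) := ⟨Nat.prime_two⟩
  set C := centralizer ({θ s0} : Set G) with hC
  obtain ⟨R, hR⟩ := Sylow.exists_subgroup_card_pow_prime 2 (n := 6) (G := C) (by norm_num; exact h)
  set R' : Subgroup G := R.map C.subtype with hR'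
  have hR'c : Nat.card R' = 64 := by
    rw [hR', card_map_of_injective C.subtype_injective, hR]; norm_num
  have hcomm : ∀ r ∈ R', θ s0 * r = r * θ s0 := by
    rintro _ ⟨r, -, rfl⟩
    exact (mem_centralizer_singleton_iff.1 r.2).symm
  have hsylow : ∀ K : Subgroup G, IsPGroup 2 K → R' ≤ K → K = R' := by
    intro K hK hle
    refine (eq_of_le_of_card_ge hle ?_).symm
    obtain ⟨k, hk⟩ := IsPGroup.iff_card.1 hK
    rw [hk, hR'c]
    by_contra hlt
    have : 7 ≤ k := by
      by_contra hk7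
      have : 2 ^ k ≤ 2 ^ 6 := Nat.pow_le_pow_right (by norm_num) (by omega)
      omega
    exact hθ.not_dvd_128_sub K (hk ▸ pow_dvd_pow 2 this)
  have hsR : θ s0 ∈ R' := by
    have hnorm : zpowers (θ s0) ≤ normalizer (R' : Set G) := by
      rw [zpowers_le, mem_normalizer_iff]
      intro x
      constructor
      · intro hx; rw [hcomm x hx, mul_inv_cancel_right]; exact hx
      · intro hx
        have h2 : x = θ s0 * x * (θ s0)⁻¹ := by
          calc x = (θ s0)⁻¹ * ((θ s0 * x * (θ s0)⁻¹) * θ s0) := by group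
            _ = (θ s0)⁻¹ * (θ s0 * (θ s0 * x * (θ s0)⁻¹)) := by rw [hcomm _ hx]
            _ = _ := by group
        exact h2 ▸ hx
    have hp : IsPGroup 2 ↥(zpowers (θ s0) ⊔ R') := by
      refine IsPGroup.to_sup_of_normal_right' ?_ (IsPGroup.of_card (n := 6) (by rw [hR'c]; norm_num)) hnorm
      refine IsPGroup.of_card (n := 1) ?_
      rw [Nat.card_zpowers, pow_one, orderOf_injective θ hθ.inj]
      exact orderOf_eq_prime s0_sq (by decide)
    exact (hsylow _ hp le_sup_right) ▸ mem_sup_left (mem_zpowers _)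
  obtain ⟨P, hP⟩ := (IsPGroup.of_card (p := 2) (n := 6) (G := R') (by rw [hR'c]; norm_num)).exists_le_sylow
  have hPR : (P : Subgroup G) = R' := hsylow _ P.2 hP
  have hT : IsPGroup 2 (T0.map θ : Subgroup G) :=
    IsPGroup.of_card (n := 6) (by rw [hθ.map_card, card_T0]; norm_num)
  obtain ⟨Q, hQ⟩ := hT.exists_le_sylow
  have hQT : (Q : Subgroup G) = T0.map θ := by
    refine (eq_of_le_of_card_ge hQ ?_).symm
    obtain ⟨k, hk⟩ := IsPGroup.iff_card.1 Q.2
    rw [hθ.map_card, card_T0, hk]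
    by_contra hlt
    have : 7 ≤ k := by
      by_contra hk7
      have : 2 ^ k ≤ 2 ^ 6 := Nat.pow_le_pow_right (by norm_num) (by omega)
      omega
    exact hθ.not_dvd_128_sub Q (hk ▸ pow_dvd_pow 2 this)
  obtain ⟨g, hg⟩ := MulAction.exists_smul_eq G P Q
  have hconj : ∀ r ∈ R', g * r * g⁻¹ ∈ T0.map θ := fun r hr => by
    rw [← hQT, ← hg]; exact ⟨r, hPR.symm ▸ hr, rfl⟩
  obtain ⟨x, hx, hxs⟩ := hconj _ hsR
  have hcen : ∀ y ∈ T0, y * x = x * y := by
    intro y hy
    have hy' : θ y ∈ T0.map θ := ⟨y, hy, rfl⟩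
    rw [← hQT, ← hg] at hy'
    obtain ⟨r, hr, hry⟩ := hy'
    have hrR : r ∈ R' := hPR ▸ hr
    apply hθ.inj
    rw [map_mul, map_mul, hxs, ← hry]
    show g * r * g⁻¹ * (g * θ s0 * g⁻¹) = g * θ s0 * g⁻¹ * (g * r * g⁻¹)
    rw [show g * r * g⁻¹ * (g * θ s0 * g⁻¹) = g * (r * θ s0) * g⁻¹ by group, ← hcomm r hrR]
    group
  rcases center_T0 hx hcen with rfl | rfl
  · rw [map_one] at hxs
    have : θ s0 = 1 := conj_eq_one_iff.1 hxs.symm
    rw [← map_one θ] at this
    exact absurd (hθ.inj this) (by decide)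
  · exact hθ.st (isConj_iff.2 ⟨g, hxs.symm⟩)

/-- Packaging a factorisation through the odd core. -/
theorem locOdd_of_oddCore {a x e : Alt8} (ha : a ^ 2 = 1) (hCa : Nat.card (centralizer ({a} : Set Alt8)) ∣ 384)
    (hxa : x * a = a * x) (hea : e * a = a * e) (hx3 : x ^ 3 = 1) (hx1 : x ≠ 1)
    (hne : e * x * e⁻¹ ≠ 1 ∧ e * x * e⁻¹ ≠ x ∧ e * x * e⁻¹ ≠ x * x)
    (hxr : centralizer ({θ x} : Set G) ≤ θ.range)
    (hprod : ∀ g : centralizer ({θ a} : Set G), ∃ o ∈ oddCore (centralizer ({θ a} : Set G)),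
      ∃ h ∈ θ.range, (g : G) = o * h) :
    ∃ O : Subgroup G, O ≤ centralizer ({θ a} : Set G) ∧
      centralizer ({θ a} : Set G) ≤ normalizer (O : Set G) ∧ (Nat.card O).Coprime 6 ∧
      ∀ g ∈ centralizer ({θ a} : Set G), ∃ o ∈ O, ∃ h ∈ θ.range, g = o * h := by
  set C := centralizer ({θ a} : Set G) with hC
  set O : Subgroup G := (oddCore C).map C.subtype with hO
  have hOC : O ≤ C := map_subtype_le _
  have hOn : ∀ c ∈ C, ∀ o ∈ O, c * o * c⁻¹ ∈ O := by
    rintro c hc _ ⟨o, ho, rfl⟩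
    exact ⟨⟨c, hc⟩ * o * ⟨c, hc⟩⁻¹, (inferInstance : (oddCore C).Normal).conj_mem o ho _, rfl⟩
  have hOodd : Odd (Nat.card O) := by
    rw [hO, card_map_of_injective C.subtype_injective]; exact CfsgLib.Cores.odd_card_oddCore
  have hOall : ∀ g ∈ C, ∃ o ∈ O, ∃ h ∈ θ.range, g = o * h := by
    intro g hg
    obtain ⟨o, ho, h, hh, e⟩ := hprod ⟨g, hg⟩
    exact ⟨o, ⟨o, ho, rfl⟩, h, hh, e⟩
  have hOn' : C ≤ normalizer (O : Set G) := fun c hc => mem_normalizer_iff.2 fun o => ⟨hOn c hc o, fun h => by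
    have := hOn c⁻¹ (inv_mem hc) _ h
    rwa [show c⁻¹ * (c * o * c⁻¹) * c⁻¹⁻¹ = o by group] at this⟩
  refine ⟨O, hOC, hOn', ?_, hOall⟩
  set H := centralizer ({a} : Set Alt8) with hH
  have hcomap : ∀ n, θ n ∈ C ↔ n ∈ H := fun n => by
    rw [hC, hH, mem_centralizer_singleton_iff, mem_centralizer_singleton_iff, ← map_mul, ← map_mul]
    exact hθ.inj.eq_iff
  -- `O` meets the embedded group trivially
  have hN : O.comap θ = ⊥ := by
    refine odd_normal_trivial hCa (fun n hn => (hcomap n).1 (hOC hn)) ?_ ?_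
      (x := x) (e := e) (mem_centralizer_singleton_iff.2 hxa) (mem_centralizer_singleton_iff.2 hea)
      hx3 hx1 hne
    · refine hOodd.of_dvd_nat ?_
      rw [← hθ.map_card]
      exact card_dvd_of_le (map_comap_le _ _)
    · intro c hc n hn
      show θ (c * n * c⁻¹) ∈ O
      rw [map_mul, map_mul, map_inv]
      exact hOn _ ((hcomap c).2 hc) _ hn
  -- hence `|C| = |O| |H|`
  let f : O × H → C := fun p => ⟨p.1 * θ p.2, mul_mem (hOC p.1.2) ((hcomap _).2 p.2.2)⟩
  have hf : Function.Bijective f := by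
    refine ⟨fun p q h => ?_, fun g => ?_⟩
    · have h' : (p.1 : G) * θ p.2 = q.1 * θ q.2 := congrArg Subtype.val h
      have hmem : ((p.2 : Alt8) * (q.2 : Alt8)⁻¹) ∈ O.comap θ := by
        show θ _ ∈ O
        rw [map_mul, map_inv, show θ p.2 = (p.1 : G)⁻¹ * (q.1 * θ q.2) by
          rw [← h', inv_mul_cancel_left], mul_assoc, mul_assoc, mul_inv_cancel, mul_one]
        exact mul_mem (inv_mem p.1.2) q.1.2
      rw [hN, mem_bot, mul_inv_eq_one] at hmem
      rw [hmem] at h'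
      exact Prod.ext (Subtype.ext (mul_right_cancel h')) (Subtype.ext hmem)
    · obtain ⟨o, ho, _, ⟨n, rfl⟩, hg⟩ := hOall g g.2
      have hn : n ∈ H := by
        refine (hcomap n).1 ?_
        rw [show θ n = o⁻¹ * g by rw [hg, inv_mul_cancel_left]]
        exact mul_mem (inv_mem (hOC ho)) g.2
      exact ⟨(⟨o, ho⟩, ⟨n, hn⟩), Subtype.ext hg.symm⟩
  have hcard : Nat.card C = Nat.card O * Nat.card H := by
    rw [← Nat.card_eq_of_bijective f hf, Nat.card_prod]
  haveI : Fact (Nat.Prime 3) := ⟨Nat.prime_three⟩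
  have h3 : ¬ 3 ∣ Nat.card O := by
    intro h
    have hxC : θ x ∈ C := (hcomap x).2 (mem_centralizer_singleton_iff.2 hxa)
    set xC : C := ⟨θ x, hxC⟩ with hxCdef
    have hox : orderOf xC = 3 := by
      rw [hxCdef, Subgroup.orderOf_mk, orderOf_injective θ hθ.inj]
      exact orderOf_eq_prime hx3 hx1
    have h3H : 3 ∣ Nat.card H := by
      rw [← orderOf_eq_prime hx3 hx1]
      exact orderOf_dvd_natCard _ (mem_centralizer_singleton_iff.2 hxa)
    have h9 : 3 ^ (1 + 1) ∣ Nat.card C := by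
      rw [hcard, pow_succ, pow_one]; exact Nat.mul_dvd_mul h h3H
    obtain ⟨K, hK, hxK⟩ := Sylow.exists_subgroup_card_pow_succ (p := 3) (n := 1) (G := C) h9
      (H := zpowers xC) (by rw [Nat.card_zpowers, hox, pow_one])
    have hKcomm : ∀ k ∈ K, k * xC = xC * k := fun k hk => by
      have := IsPGroup.commutative_of_card_eq_prime_sq (p := 3) (G := K) (by rw [hK])
        ⟨k, hk⟩ ⟨xC, hxK (mem_zpowers xC)⟩
      exact congrArg Subtype.val this
    have hKr : K.map C.subtype ≤ H.map θ := by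
      rintro _ ⟨k, hk, rfl⟩
      obtain ⟨n, hn⟩ := hxr (show (k : G) ∈ centralizer ({θ x} : Set G) from
        mem_centralizer_singleton_iff.2 (congrArg Subtype.val (hKcomm k hk)))
      exact ⟨n, (hcomap n).1 (hn.symm ▸ k.2), hn⟩
    have hd := card_dvd_of_le hKr
    rw [card_map_of_injective C.subtype_injective, hK, hθ.map_card] at hd
    have := hd.trans hCa
    norm_num at this
  rw [show (6 : ℕ) = 2 * 3 from rfl]
  exact Nat.Coprime.mul_right (Nat.coprime_two_right.2 hOodd)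
    ((Nat.prime_three.coprime_iff_not_dvd).2 h3).symm

end Emb

end CfsgLib.AEightThreeLocal
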